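import Mathlib

set_option autoImplicit false

namespace Cfsg.Agent.Helper11

open scoped commutatorElement

theorem abop_s2 {G : Type*} [Group G] (a b t e : G) (hat : a * b * a⁻¹ = b * t)
    (hae : a * e * a⁻¹ = e) (hfix : a * ⁅b, e⁆ * a⁻¹ = ⁅b, e⁆) : t * e = e * t := by
  have h1 : a * ⁅b, e⁆ * a⁻¹ = ⁅a * b * a⁻¹, a * e * a⁻¹⁆ := by
    simp only [commutatorElement_def]
    group
  rw [hat, hae] at h1
  have h2 : ⁅b * t, e⁆ = b * ⁅t, e⁆ * b⁻¹ * ⁅b, e⁆ := by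
    simp only [commutatorElement_def]
    group
  rw [hfix, h2] at h1
  have h3 : 1 = b * ⁅t, e⁆ * b⁻¹ := by
    apply mul_right_cancel (b := ⁅b, e⁆)
    rw [one_mul]
    exact h1
  have h4 : ⁅t, e⁆ = 1 := by
    have h5 : ⁅t, e⁆ = b⁻¹ * (b * ⁅t, e⁆ * b⁻¹) * b := by group
    rw [h5, ← h3]
    group
  exact (commutatorElement_eq_one_iff_commute.mp h4).eq

theorem abop_k {G : Type*} [Group G] (a a' b t t' e e' : G) (hcomm : a * a' = a' * a)
    (hat : a * b * a⁻¹ = b * t) (hat' : a' * b * a'⁻¹ = b * t')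
    (he : a * t' * a⁻¹ = e * t') (he' : a' * t * a'⁻¹ = e' * t)
    (c1 : t * e = e * t) (c2 : t' * e' = e' * t') : ⁅t, t'⁆ = e⁻¹ * e' := by
  have h1 : (a * a') * b * (a * a')⁻¹ = b * t * (e * t') := by
    calc (a * a') * b * (a * a')⁻¹ = a * (a' * b * a'⁻¹) * a⁻¹ := by group
      _ = a * (b * t') * a⁻¹ := by rw [hat']
      _ = (a * b * a⁻¹) * (a * t' * a⁻¹) := by group
      _ = b * t * (e * t') := by rw [hat, he]
  have h2 : (a' * a) * b * (a' * a)⁻¹ = b * t' * (e' * t) := by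
    calc (a' * a) * b * (a' * a)⁻¹ = a' * (a * b * a⁻¹) * a'⁻¹ := by group
      _ = a' * (b * t) * a'⁻¹ := by rw [hat]
      _ = (a' * b * a'⁻¹) * (a' * t * a'⁻¹) := by group
      _ = b * t' * (e' * t) := by rw [hat', he']
  rw [hcomm, h2] at h1
  have h3 : t' * (e' * t) = t * (e * t') :=
    mul_left_cancel ((mul_assoc b t' (e' * t)).symm.trans (h1.trans (mul_assoc b t (e * t'))))
  have h5 : e' * (t' * t) = e * (t * t') := by
    calc e' * (t' * t) = (e' * t') * t := (mul_assoc _ _ _).symm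
      _ = (t' * e') * t := by rw [c2]
      _ = t' * (e' * t) := mul_assoc _ _ _
      _ = t * (e * t') := h3
      _ = (t * e) * t' := (mul_assoc _ _ _).symm
      _ = (e * t) * t' := by rw [c1]
      _ = e * (t * t') := mul_assoc _ _ _
  have h6 : t * t' = e⁻¹ * e' * (t' * t) := by
    calc t * t' = e⁻¹ * (e * (t * t')) := by group
      _ = e⁻¹ * (e' * (t' * t)) := by rw [h5]
      _ = e⁻¹ * e' * (t' * t) := by group
  calc ⁅t, t'⁆ = (t * t') * t⁻¹ * t'⁻¹ := by rw [commutatorElement_def]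
    _ = e⁻¹ * e' * (t' * t) * t⁻¹ * t'⁻¹ := by rw [h6]
    _ = e⁻¹ * e' := by group

theorem abop_x {G : Type*} [Group G] (a b t t' e : G)
    (hat : a * b * a⁻¹ = b * t) (he : a * t' * a⁻¹ = e * t')
    (hfix : a * ⁅b, t'⁆ * a⁻¹ = ⁅b, t'⁆)
    (c1 : t * e = e * t) (c2 : t' * e = e * t')
    (c3 : e * ⁅b, t'⁆ = ⁅b, t'⁆ * e)
    (c4 : b * ⁅t, t'⁆ = ⁅t, t'⁆ * b) :
    ⁅b, e⁆ = ⁅t', t⁆ := by
  have h1 : a * ⁅b, t'⁆ * a⁻¹ = ⁅a * b * a⁻¹, a * t' * a⁻¹⁆ := by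
    simp only [commutatorElement_def]
    group
  rw [hat, he, hfix] at h1
  have h2 : ⁅b * t, e * t'⁆ = b * ⁅t, e * t'⁆ * b⁻¹ * ⁅b, e * t'⁆ := by
    simp only [commutatorElement_def]
    group
  have h3 : ⁅t, e * t'⁆ = ⁅t, t'⁆ := by
    have hc : Commute e t := c1.symm
    have hc' : Commute e t' := c2.symm
    have hcw : Commute e ⁅t, t'⁆ := by
      rw [commutatorElement_def]
      exact ((hc.mul_right hc').mul_right hc.inv_right).mul_right hc'.inv_right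
    calc ⁅t, e * t'⁆ = (t * e) * t' * t⁻¹ * t'⁻¹ * e⁻¹ := by
          simp only [commutatorElement_def]
          group
      _ = (e * t) * t' * t⁻¹ * t'⁻¹ * e⁻¹ := by rw [c1]
      _ = e * ⁅t, t'⁆ * e⁻¹ := by
          simp only [commutatorElement_def]
          group
      _ = ⁅t, t'⁆ * e * e⁻¹ := by rw [hcw.eq]
      _ = ⁅t, t'⁆ := mul_inv_cancel_right _ _
  have h4 : ⁅b, e * t'⁆ = ⁅b, e⁆ * (e * ⁅b, t'⁆ * e⁻¹) := by
    simp only [commutatorElement_def]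
    group
  have h5 : e * ⁅b, t'⁆ * e⁻¹ = ⁅b, t'⁆ := by
    rw [c3]
    exact mul_inv_cancel_right _ _
  rw [h2, h3, h4, h5] at h1
  have h6 : b * ⁅t, t'⁆ * b⁻¹ = ⁅t, t'⁆ := by
    rw [c4]
    exact mul_inv_cancel_right _ _
  rw [h6] at h1
  have h7 : 1 = ⁅t, t'⁆ * ⁅b, e⁆ := by
    apply mul_right_cancel (b := ⁅b, t'⁆)
    rw [one_mul, mul_assoc]
    exact h1
  exact (eq_inv_of_mul_eq_one_right h7.symm).trans (commutatorElement_inv t t')

theorem abop_sq {G : Type*} [Group G] (b e1 e2 w : G) (hw : w = e1⁻¹ * e2)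
    (h1 : ⁅b, e1⁆ = w⁻¹) (h2 : ⁅b, e2⁆ = w) (hbw : b * w = w * b) : w * w = 1 := by
  have k1 : b * e1 * b⁻¹ = w⁻¹ * e1 := by
    rw [← h1, commutatorElement_def]
    group
  have k2 : b * e2 * b⁻¹ = w * e2 := by
    have k : b * e2 * b⁻¹ = ⁅b, e2⁆ * e2 := by
      rw [commutatorElement_def]
      group
    rw [k, h2]
  have k3 : b * w * b⁻¹ = w := by
    rw [hbw]
    exact mul_inv_cancel_right _ _
  have k4 : b * w * b⁻¹ = e1⁻¹ * (w * w) * e2 := by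
    calc b * w * b⁻¹ = b * (e1⁻¹ * e2) * b⁻¹ := by rw [← hw]
      _ = (b * e1 * b⁻¹)⁻¹ * (b * e2 * b⁻¹) := by group
      _ = (w⁻¹ * e1)⁻¹ * (w * e2) := by rw [k1, k2]
      _ = e1⁻¹ * (w * w) * e2 := by group
  rw [k3] at k4
  have k5 : e1⁻¹ * e2 = e1⁻¹ * (w * w) * e2 := hw.symm.trans k4
  have k6 : e1⁻¹ * 1 = e1⁻¹ * (w * w) := by
    apply mul_right_cancel (b := e2)
    rw [mul_one]
    exact k5
  exact (mul_left_cancel k6).symm

theorem abop_comm_mul_left {G : Type*} [Group G] (x y g : G) :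
    ⁅x * y, g⁆ = x * ⁅y, g⁆ * x⁻¹ * ⁅x, g⁆ := by
  simp only [commutatorElement_def]
  group

theorem abop_comm_mul_right {G : Type*} [Group G] (g x y : G) :
    ⁅g, x * y⁆ = ⁅g, x⁆ * (x * ⁅g, y⁆ * x⁻¹) := by
  simp only [commutatorElement_def]
  group

theorem abop_comm_inv_left {G : Type*} [Group G] (x g : G) :
    ⁅x⁻¹, g⁆ = x⁻¹ * ⁅x, g⁆⁻¹ * x := by
  simp only [commutatorElement_def]
  group

theorem abop_comm_inv_right {G : Type*} [Group G] (g x : G) :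
    ⁅g, x⁻¹⁆ = x⁻¹ * ⁅g, x⁆⁻¹ * x := by
  simp only [commutatorElement_def]
  group

theorem abop_sq_mul {G : Type*} [Group G] (u v : G) (hu : u * u = 1) (hv : v * v = 1)
    (huv : u * v = v * u) : (u * v) * (u * v) = 1 := by
  calc (u * v) * (u * v) = u * (v * u) * v := by group
    _ = u * (u * v) * v := by rw [huv]
    _ = (u * u) * (v * v) := by group
    _ = 1 := by rw [hu, hv, one_mul]

theorem abop_sq_inv {G : Type*} [Group G] (u : G) (hu : u * u = 1) : u⁻¹ * u⁻¹ = 1 := by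
  calc u⁻¹ * u⁻¹ = (u * u)⁻¹ := by group
    _ = 1 := by rw [hu, inv_one]

theorem abop_conj_inv {G : Type*} [Group G] (x u : G) (h : x * u = u * x) :
    x⁻¹ * u⁻¹ * x = u⁻¹ := by
  calc x⁻¹ * u⁻¹ * x = x⁻¹ * u⁻¹ * (x * u) * u⁻¹ := by group
    _ = x⁻¹ * u⁻¹ * (u * x) * u⁻¹ := by rw [h]
    _ = u⁻¹ := by group

/-- Abelian operator groups: if `A` normalizes `B` and centralizes `B'`, then `[B, A]'` is
central in `B`; and if `A` is abelian and acts quadratically on `[b, A]`, the derived group of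
`[b, A]` has exponent dividing `2`. -/
theorem abop_main {G : Type*} [Group G] (A B : Subgroup G)
    (hAB : A ≤ Subgroup.normalizer (B : Set G)) (hc : ⁅⁅B, B⁆, A⁆ = ⊥) :
    ⁅⁅B, A⁆, ⁅B, A⁆⁆ ≤ B ⊓ Subgroup.centralizer (B : Set G) ∧
    (IsMulCommutative A → ∀ b ∈ B,
      ⁅⁅(Subgroup.closure {g : G | ∃ a ∈ A, g = b⁻¹ * a * b * a⁻¹}), A⁆, A⁆ = ⊥ →
      ∀ w ∈ ⁅(Subgroup.closure {g : G | ∃ a ∈ A, g = b⁻¹ * a * b * a⁻¹}),
        (Subgroup.closure {g : G | ∃ a ∈ A, g = b⁻¹ * a * b * a⁻¹})⁆, w ^ 2 = 1) := by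
  have hBB : ⁅B, B⁆ ≤ B := Subgroup.commutator_le.mpr (fun g1 h1 g2 h2 => by
    rw [commutatorElement_def]
    exact B.mul_mem (B.mul_mem (B.mul_mem h1 h2) (B.inv_mem h1)) (B.inv_mem h2))
  have hconjB : ∀ a ∈ A, ∀ g ∈ B, a * g * a⁻¹ ∈ B := by
    intro a ha g hg
    exact (Subgroup.mem_normalizer_iff.mp (hAB ha) g).mp hg
  have hH : ⁅B, A⁆ ≤ B := Subgroup.commutator_le.mpr (fun g hg a ha => by
    have h1 : ⁅g, a⁆ = g * (a * g⁻¹ * a⁻¹) := by
      rw [commutatorElement_def]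
      group
    rw [h1]
    exact B.mul_mem hg (hconjB a ha g⁻¹ (B.inv_mem hg)))
  have hAB' : ⁅A, ⁅B, B⁆⁆ = ⊥ := by
    rw [Subgroup.commutator_comm A ⁅B, B⁆]
    exact hc
  have h2 : ⁅⁅B, A⁆, ⁅B, B⁆⁆ = ⊥ := by
    apply Subgroup.commutator_commutator_eq_bot_of_rotate
    · rw [hAB', Subgroup.commutator_bot_left]
    · exact le_bot_iff.mp
        ((Subgroup.commutator_mono (Subgroup.commutator_mono hBB le_rfl) le_rfl).trans hc.le)
  have h2' : ⁅⁅B, B⁆, ⁅B, A⁆⁆ = ⊥ := by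
    rw [Subgroup.commutator_comm ⁅B, B⁆ ⁅B, A⁆]
    exact h2
  have h3 : ⁅⁅⁅B, A⁆, ⁅B, A⁆⁆, B⁆ = ⊥ := by
    apply Subgroup.commutator_commutator_eq_bot_of_rotate
    · exact le_bot_iff.mp
        ((Subgroup.commutator_mono (Subgroup.commutator_mono hH le_rfl) le_rfl).trans h2'.le)
    · exact le_bot_iff.mp
        ((Subgroup.commutator_mono (Subgroup.commutator_mono le_rfl hH) le_rfl).trans h2'.le)
  have hHH : ⁅⁅B, A⁆, ⁅B, A⁆⁆ ≤ Subgroup.centralizer (B : Set G) :=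
    Subgroup.commutator_eq_bot_iff_le_centralizer.mp h3
  refine ⟨le_inf ((Subgroup.commutator_mono hH hH).trans hBB) hHH, ?_⟩
  intro hAc b hb
  obtain ⟨D, hD⟩ : ∃ D : Subgroup G,
      D = Subgroup.closure {g : G | ∃ a ∈ A, g = b⁻¹ * a * b * a⁻¹} := ⟨_, rfl⟩
  rw [← hD]
  intro hq
  have hgen : ∀ a ∈ A, b⁻¹ * a * b * a⁻¹ ∈ D := by
    intro a ha
    rw [hD]
    exact Subgroup.subset_closure ⟨a, ha, rfl⟩
  have hDH : D ≤ ⁅B, A⁆ := by
    rw [hD, Subgroup.closure_le]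
    rintro g ⟨a, ha, rfl⟩
    have h1 : b⁻¹ * a * b * a⁻¹ = ⁅b⁻¹, a⁆ := by rw [commutatorElement_def, inv_inv]
    rw [h1]
    exact Subgroup.commutator_mem_commutator (B.inv_mem hb) ha
  have hDB : D ≤ B := hDH.trans hH
  have hfixB' : ∀ a ∈ A, ∀ c ∈ ⁅B, B⁆, a * c * a⁻¹ = c := by
    intro a ha c hc'
    have h1 : ⁅B, B⁆ ≤ Subgroup.centralizer (A : Set G) :=
      Subgroup.commutator_eq_bot_iff_le_centralizer.mp hc
    have h4 : a * c = c * a := Subgroup.mem_centralizer_iff.mp (h1 hc') a ha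
    rw [h4]
    exact mul_inv_cancel_right _ _
  have hfixDA : ∀ a ∈ A, ∀ e ∈ ⁅D, A⁆, a * e * a⁻¹ = e := by
    intro a ha e he'
    have h1 : ⁅D, A⁆ ≤ Subgroup.centralizer (A : Set G) :=
      Subgroup.commutator_eq_bot_iff_le_centralizer.mp hq
    have h4 : a * e = e * a := Subgroup.mem_centralizer_iff.mp (h1 he') a ha
    rw [h4]
    exact mul_inv_cancel_right _ _
  have hat : ∀ a : G, a * b * a⁻¹ = b * (b⁻¹ * a * b * a⁻¹) := by
    intro a
    group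
  have he : ∀ a t : G, a * t * a⁻¹ = ⁅a, t⁆ * t := by
    intro a t
    rw [commutatorElement_def]
    group
  have heDA : ∀ a ∈ A, ∀ t ∈ D, ⁅a, t⁆ ∈ ⁅D, A⁆ := by
    intro a ha t ht
    rw [Subgroup.commutator_comm D A]
    exact Subgroup.commutator_mem_commutator ha ht
  have hDAH : ⁅D, A⁆ ≤ ⁅B, A⁆ := Subgroup.commutator_mono hDB le_rfl
  have hDDHH : ⁅D, D⁆ ≤ ⁅⁅B, A⁆, ⁅B, A⁆⁆ := Subgroup.commutator_mono hDH hDH
  have hDDB : ⁅D, D⁆ ≤ B := hDDHH.trans ((Subgroup.commutator_mono hH hH).trans hBB)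
  have hDDcen : ∀ w ∈ ⁅D, D⁆, ∀ g ∈ B, g * w = w * g := by
    intro w hw g hg
    exact Subgroup.mem_centralizer_iff.mp (hHH (hDDHH hw)) g hg
  have hHcen : ∀ e ∈ ⁅B, A⁆, ∀ c ∈ ⁅B, B⁆, c * e = e * c := by
    intro e he' c hc'
    have h1 : ⁅B, A⁆ ≤ Subgroup.centralizer ((⁅B, B⁆ : Subgroup G) : Set G) :=
      Subgroup.commutator_eq_bot_iff_le_centralizer.mp h2
    exact Subgroup.mem_centralizer_iff.mp (h1 he') c hc'
  have hS2 : ∀ a ∈ A, ∀ e ∈ ⁅D, A⁆,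
      (b⁻¹ * a * b * a⁻¹) * e = e * (b⁻¹ * a * b * a⁻¹) := by
    intro a ha e he'
    have heB : e ∈ B := hH (hDAH he')
    exact abop_s2 a b (b⁻¹ * a * b * a⁻¹) e (hat a) (hfixDA a ha e he')
      (hfixB' a ha _ (Subgroup.commutator_mem_commutator hb heB))
  have hX : ∀ a ∈ A, ∀ a' ∈ A,
      ⁅b, ⁅a, b⁻¹ * a' * b * a'⁻¹⁆⁆ = ⁅b⁻¹ * a' * b * a'⁻¹, b⁻¹ * a * b * a⁻¹⁆ := by
    intro a ha a' ha'
    have hta := hgen a ha
    have hta' := hgen a' ha'
    have hemem := heDA a ha _ hta'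
    have hbt' : ⁅b, b⁻¹ * a' * b * a'⁻¹⁆ ∈ ⁅B, B⁆ :=
      Subgroup.commutator_mem_commutator hb (hDB hta')
    exact abop_x a b (b⁻¹ * a * b * a⁻¹) (b⁻¹ * a' * b * a'⁻¹) ⁅a, b⁻¹ * a' * b * a'⁻¹⁆
      (hat a) (he a _) (hfixB' a ha _ hbt')
      (hS2 a ha _ hemem) (hS2 a' ha' _ hemem) (hHcen _ (hDAH hemem) _ hbt').symm
      (hDDcen _ (Subgroup.commutator_mem_commutator hta hta') b hb)
  have hgen2 : ∀ a ∈ A, ∀ a' ∈ A,
      ⁅b⁻¹ * a * b * a⁻¹, b⁻¹ * a' * b * a'⁻¹⁆ * ⁅b⁻¹ * a * b * a⁻¹, b⁻¹ * a' * b * a'⁻¹⁆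
        = 1 := by
    intro a ha a' ha'
    have hta := hgen a ha
    have hta' := hgen a' ha'
    have hcomm : a * a' = a' * a := congrArg Subtype.val (hAc.is_comm.comm ⟨a, ha⟩ ⟨a', ha'⟩)
    have hK := abop_k a a' b (b⁻¹ * a * b * a⁻¹) (b⁻¹ * a' * b * a'⁻¹)
      ⁅a, b⁻¹ * a' * b * a'⁻¹⁆ ⁅a', b⁻¹ * a * b * a⁻¹⁆ hcomm (hat a) (hat a') (he a _) (he a' _)
      (hS2 a ha _ (heDA a ha _ hta')) (hS2 a' ha' _ (heDA a' ha' _ hta))
    have h1 := (hX a ha a' ha').trans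
      (commutatorElement_inv (b⁻¹ * a * b * a⁻¹) (b⁻¹ * a' * b * a'⁻¹)).symm
    have h2'' := hX a' ha' a ha
    exact abop_sq b _ _ _ hK h1 h2''
      (hDDcen _ (Subgroup.commutator_mem_commutator hta hta') b hb)
  have hA1 : ∀ a ∈ A, ∀ g ∈ D,
      ⁅b⁻¹ * a * b * a⁻¹, g⁆ * ⁅b⁻¹ * a * b * a⁻¹, g⁆ = 1 := by
    intro a ha g hg
    have hta := hgen a ha
    rw [hD] at hg
    induction hg using Subgroup.closure_induction with
    | mem x hx =>
      obtain ⟨a', ha', rfl⟩ := hx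
      exact hgen2 a ha a' ha'
    | one => simp
    | mul x y hx hy ihx ihy =>
      have hxD : x ∈ D := by
        rw [hD]
        exact hx
      have hyD : y ∈ D := by
        rw [hD]
        exact hy
      have hyc := Subgroup.commutator_mem_commutator hta hyD
      have hxc := Subgroup.commutator_mem_commutator hta hxD
      have hc1 := hDDcen _ hyc x (hDB hxD)
      rw [abop_comm_mul_right, hc1, mul_inv_cancel_right]
      exact abop_sq_mul _ _ ihx ihy (hDDcen _ hyc _ (hDDB hxc))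
    | inv x hx ihx =>
      have hxD : x ∈ D := by
        rw [hD]
        exact hx
      have hxc := Subgroup.commutator_mem_commutator hta hxD
      rw [abop_comm_inv_right, abop_conj_inv x _ (hDDcen _ hxc x (hDB hxD))]
      exact abop_sq_inv _ ihx
  have hB1 : ∀ g ∈ D, ∀ d ∈ D, ⁅d, g⁆ * ⁅d, g⁆ = 1 := by
    intro g hg d hd
    rw [hD] at hd
    induction hd using Subgroup.closure_induction with
    | mem x hx =>
      obtain ⟨a, ha, rfl⟩ := hx
      exact hA1 a ha g hg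
    | one => simp
    | mul x y hx hy ihx ihy =>
      have hxD : x ∈ D := by
        rw [hD]
        exact hx
      have hyD : y ∈ D := by
        rw [hD]
        exact hy
      have hyc := Subgroup.commutator_mem_commutator hyD hg
      have hxc := Subgroup.commutator_mem_commutator hxD hg
      have hc1 := hDDcen _ hyc x (hDB hxD)
      rw [abop_comm_mul_left, hc1, mul_inv_cancel_right]
      exact abop_sq_mul _ _ ihy ihx (hDDcen _ hxc _ (hDDB hyc))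
    | inv x hx ihx =>
      have hxD : x ∈ D := by
        rw [hD]
        exact hx
      have hxc := Subgroup.commutator_mem_commutator hxD hg
      rw [abop_comm_inv_left, abop_conj_inv x _ (hDDcen _ hxc x (hDB hxD))]
      exact abop_sq_inv _ ihx
  have hfin : ∀ w ∈ Subgroup.closure {g : G | ∃ g₁ ∈ D, ∃ g₂ ∈ D, ⁅g₁, g₂⁆ = g},
      w * w = 1 := by
    intro w hw
    induction hw using Subgroup.closure_induction with
    | mem x hx =>
      obtain ⟨d, hd, d', hd', rfl⟩ := hx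
      exact hB1 d' hd' d hd
    | one => exact mul_one 1
    | mul x y hx hy ihx ihy =>
      have hxDD : x ∈ ⁅D, D⁆ := hx
      have hyDD : y ∈ ⁅D, D⁆ := hy
      exact abop_sq_mul x y ihx ihy (hDDcen y hyDD x (hDDB hxDD))
    | inv x hx ihx => exact abop_sq_inv x ihx
  intro w hw
  rw [pow_two]
  exact hfin w hw

end Cfsg.Agent.Helper11
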