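import Mathlib

set_option autoImplicit false

namespace Cfsg.Agent.Helper11

open scoped Matrix

universe u v

/-- An alternating bilinear form on a finite-dimensional space has even rank
(`dim V - dim (radical)` is even), in every characteristic. -/
theorem alt_form_even (F : Type u) [Field F] :
    ∀ (k : ℕ) (V : Type v) [AddCommGroup V] [Module F V] [FiniteDimensional F V]
      (B : V →ₗ[F] V →ₗ[F] F), (∀ x, B x x = 0) → Module.finrank F V = k →
      Even (k - Module.finrank F (LinearMap.ker B)) := by
  intro k
  induction k using Nat.strong_induction_on with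
  | _ k ih =>
    intro V _ _ _ B halt hk
    by_cases hB : B = 0
    · rw [hB, LinearMap.ker_zero, finrank_top, hk, Nat.sub_self]
      exact Even.zero
    · have hskew : ∀ x y, B x y = -B y x := by
        intro x y
        have h := halt (x + y)
        rw [map_add, map_add, LinearMap.add_apply, LinearMap.add_apply, halt x, halt y, zero_add,
          add_zero] at h
        exact eq_neg_of_add_eq_zero_right h
      obtain ⟨v, hv⟩ : ∃ v, B v ≠ 0 := by
        by_contra hcon
        push_neg at hcon
        exact hB (LinearMap.ext fun x => by rw [hcon x]; rfl)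
      obtain ⟨w, hw⟩ : ∃ w, B v w ≠ 0 := by
        by_contra hcon
        push_neg at hcon
        exact hv (LinearMap.ext fun x => by rw [hcon x]; rfl)
      have hwv : B w v ≠ 0 := by rw [hskew w v]; exact neg_ne_zero.mpr hw
      obtain ⟨φ, hφ⟩ : ∃ φ : V →ₗ[F] F × F, φ = (B v).prod (B w) := ⟨_, rfl⟩
      have hφa : ∀ x, φ x = (B v x, B w x) := fun x => by rw [hφ]; rfl
      have hsurj : LinearMap.range φ = ⊤ := by
        rw [LinearMap.range_eq_top]
        rintro ⟨a, b⟩
        refine ⟨(a / B v w) • w + (b / B w v) • v, ?_⟩
        rw [hφa, map_add, map_add, map_smul, map_smul, map_smul, map_smul, halt v, halt w,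
          smul_eq_mul, smul_eq_mul, smul_eq_mul, smul_eq_mul, mul_zero, mul_zero, add_zero,
          zero_add, div_mul_cancel₀ a hw, div_mul_cancel₀ b hwv]
      obtain ⟨W, hW⟩ : ∃ W : Submodule F V, W = LinearMap.ker φ := ⟨_, rfl⟩
      have hmemW : ∀ x, x ∈ W ↔ B v x = 0 ∧ B w x = 0 := by
        intro x
        rw [hW, LinearMap.mem_ker, hφa, Prod.mk_eq_zero]
      have hdim : 2 + Module.finrank F W = k := by
        have h := LinearMap.finrank_range_add_finrank_ker φ
        rw [hsurj, finrank_top, Module.finrank_prod, Module.finrank_self, hk] at h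
        rw [hW]; exact h
      obtain ⟨B', hB'⟩ : ∃ B' : W →ₗ[F] W →ₗ[F] F, B' = B.compl₁₂ W.subtype W.subtype :=
        ⟨_, rfl⟩
      have hB'a : ∀ x y : W, B' x y = B (x : V) (y : V) := fun x y => by rw [hB']; rfl
      have halt' : ∀ x : W, B' x x = 0 := fun x => by rw [hB'a]; exact halt _
      have hih := ih (k - 2) (by omega) W B' halt' (by omega)
      have hker : (LinearMap.ker B').map W.subtype = LinearMap.ker B := by
        ext x
        rw [Submodule.mem_map, LinearMap.mem_ker]
        constructor
        · rintro ⟨y, hy, rfl⟩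
          rw [LinearMap.mem_ker] at hy
          have hyW := (hmemW (y : V)).mp y.2
          apply LinearMap.ext
          intro z
          obtain ⟨a, ha⟩ : ∃ a : F, a = B w z / B w v := ⟨_, rfl⟩
          obtain ⟨b, hb⟩ : ∃ b : F, b = B v z / B v w := ⟨_, rfl⟩
          have hz' : z - a • v - b • w ∈ W := by
            rw [hmemW]
            constructor
            · rw [map_sub, map_sub, map_smul, map_smul, halt v, smul_eq_mul, smul_eq_mul, mul_zero,
                sub_zero, hb, div_mul_cancel₀ _ hw, sub_self]
            · rw [map_sub, map_sub, map_smul, map_smul, halt w, smul_eq_mul, smul_eq_mul, mul_zero,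
                sub_zero, ha, div_mul_cancel₀ _ hwv, sub_self]
          have h1 : B (y : V) (z - a • v - b • w) = 0 := by
            have h2 := hB'a y ⟨_, hz'⟩
            rw [hy] at h2
            exact h2.symm
          have h3 : B (y : V) v = 0 := by rw [hskew, hyW.1, neg_zero]
          have h4 : B (y : V) w = 0 := by rw [hskew, hyW.2, neg_zero]
          rw [map_sub, map_sub, map_smul, map_smul, h3, h4, smul_zero, smul_zero, sub_zero,
            sub_zero] at h1
          rw [Submodule.subtype_apply, h1]
          rfl
        · intro hx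
          have hxW : x ∈ W := by
            rw [hmemW]
            constructor
            · rw [hskew, hx]; simp
            · rw [hskew, hx]; simp
          refine ⟨⟨x, hxW⟩, ?_, rfl⟩
          rw [LinearMap.mem_ker]
          apply LinearMap.ext
          intro y
          rw [hB'a, hx]
          rfl
      have hle : Module.finrank F (LinearMap.ker B') ≤ Module.finrank F W :=
        Submodule.finrank_le _
      have heq : Module.finrank F (LinearMap.ker B) = Module.finrank F (LinearMap.ker B') := by
        rw [← hker, Submodule.finrank_map_subtype_eq]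
      rw [heq, show k - Module.finrank F (LinearMap.ker B')
        = (k - 2 - Module.finrank F (LinearMap.ker B')) + 2 by omega]
      exact hih.add even_two

/-- A matrix whose quadratic form vanishes identically has even rank (any characteristic). -/
theorem rank_even_of_form {F : Type*} [Field F] {ι : Type*} [Fintype ι] [DecidableEq ι]
    (S : Matrix ι ι F) (h : ∀ v : ι → F, v ⬝ᵥ S *ᵥ v = 0) : Even S.rank := by
  obtain ⟨B, hB⟩ : ∃ B : (ι → F) →ₗ[F] (ι → F) →ₗ[F] F, B = Matrix.toLinearMap₂' F S := ⟨_, rfl⟩
  have hBa : ∀ v w, B v w = v ⬝ᵥ S *ᵥ w := fun v w => by rw [hB, Matrix.toLinearMap₂'_apply']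
  have halt : ∀ x, B x x = 0 := fun x => by rw [hBa]; exact h x
  have hmain := alt_form_even F (Fintype.card ι) (ι → F) B halt
    (Module.finrank_fintype_fun_eq_card F)
  have hker : LinearMap.ker B = LinearMap.ker (Sᵀ.mulVecLin) := by
    ext v
    rw [LinearMap.mem_ker, LinearMap.mem_ker, Matrix.mulVecLin_apply, Matrix.mulVec_transpose]
    constructor
    · intro hv
      apply dotProduct_eq_zero
      intro w
      rw [← Matrix.dotProduct_mulVec, ← hBa, hv]
      rfl
    · intro hv
      apply LinearMap.ext
      intro w
      rw [hBa, Matrix.dotProduct_mulVec, hv, zero_dotProduct]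
      rfl
  have hrk := LinearMap.finrank_range_add_finrank_ker (Sᵀ.mulVecLin)
  rw [Module.finrank_fintype_fun_eq_card] at hrk
  have hr : S.rank = Fintype.card ι - Module.finrank F (LinearMap.ker B) := by
    rw [← Matrix.rank_transpose, hker]
    unfold Matrix.rank
    omega
  rw [hr]
  exact hmain

/-- An alternating matrix (skew-symmetric with zero diagonal) has vanishing quadratic form. -/
theorem alt_dot_self {F : Type*} [Field F] {ι : Type*} [Fintype ι] [DecidableEq ι]
    (S : Matrix ι ι F) (hS : Sᵀ = -S) (hdiag : ∀ i, S i i = 0) (v : ι → F) :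
    v ⬝ᵥ S *ᵥ v = 0 := by
  have hS' : ∀ i j, S j i = -S i j := fun i j => by
    have h := congrFun (congrFun hS i) j
    rwa [Matrix.transpose_apply, Matrix.neg_apply] at h
  have e : v ⬝ᵥ S *ᵥ v = ∑ p ∈ (Finset.univ : Finset (ι × ι)), v p.1 * S p.1 p.2 * v p.2 := by
    rw [← Finset.univ_product_univ, Finset.sum_product]
    simp only [dotProduct, Matrix.mulVec, Finset.mul_sum, mul_assoc]
  rw [e]
  apply Finset.sum_ninvolution (fun p => (p.2, p.1))
  · intro p
    show v p.1 * S p.1 p.2 * v p.2 + v p.2 * S p.2 p.1 * v p.1 = 0
    rw [hS' p.1 p.2]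
    ring
  · intro p hp hfix
    apply hp
    have h12 : p.2 = p.1 := congrArg Prod.fst hfix
    rw [h12, hdiag, mul_zero, zero_mul]
  · intro p
    exact Finset.mem_univ _
  · intro p
    rfl

/-- All-characteristic [P2]: an alternating matrix has even rank. -/
theorem rank_even_of_alt {F : Type*} [Field F] {n : ℕ} (S : Matrix (Fin n) (Fin n) F)
    (hS : Sᵀ = -S) (hdiag : ∀ i, S i i = 0) : Even S.rank :=
  rank_even_of_form S (alt_dot_self S hS hdiag)

end Cfsg.Agent.Helper11
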