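import Mathlib
import Cfsg.Agent.Helper24.MaxClassDihedral

set_option autoImplicit false

namespace Cfsg.Agent.Helper11

/-- A congruence modulo `H` lifts to one of two congruences modulo `2 * H`. -/
theorem modEq_half_split {r a H : ℕ} (h : r ≡ a [MOD H]) :
    r ≡ a [MOD 2 * H] ∨ r ≡ a + H [MOD 2 * H] := by
  obtain ⟨q, hq⟩ := Nat.modEq_iff_dvd.mp h
  rcases Int.even_or_odd' q with ⟨q', hq' | hq'⟩
  · left
    apply Nat.modEq_iff_dvd.mpr
    refine ⟨q', ?_⟩
    push_cast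
    linear_combination hq + (H : ℤ) * hq'
  · right
    apply Nat.modEq_iff_dvd.mpr
    refine ⟨q' + 1, ?_⟩
    push_cast
    linear_combination hq + (H : ℤ) * hq'

theorem cyc2_caseB_arith {r s H : ℕ} (hB : r + 1 ≡ 0 [MOD 2 * H])
    (hrs : r * s ≡ s [MOD 2 * H]) : s ≡ 0 [MOD 2 * H] ∨ s ≡ 0 + H [MOD 2 * H] := by
  have h1 : (r + 1) * s ≡ 0 * s [MOD 2 * H] := hB.mul_right s
  have h2 : s + s ≡ r * s + s [MOD 2 * H] := hrs.symm.add_right s
  have h4 : r * s + s = (r + 1) * s := by ring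
  rw [h4] at h2
  have h5 : s + s ≡ 0 * s [MOD 2 * H] := h2.trans h1
  rw [zero_mul, ← two_mul] at h5
  have h6 : 2 * H ∣ 2 * s := (Nat.modEq_zero_iff_dvd).mp h5
  have h7 : H ∣ s := Nat.dvd_of_mul_dvd_mul_left (by norm_num) h6
  exact modEq_half_split ((Nat.modEq_zero_iff_dvd).mpr h7)

theorem cyc2_caseC_arith {r s h' : ℕ} (hh : 0 < h')
    (hC : r ≡ 1 + 4 * h' [MOD 2 * (4 * h')]) (hrs : r * s ≡ s [MOD 2 * (4 * h')]) :
    ∃ t : ℕ, t + r * t ≡ s [MOD 2 * (4 * h')] := by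
  have h1 : (1 + 4 * h') * s ≡ s [MOD 2 * (4 * h')] := (hC.mul_right s).symm.trans hrs
  have h2 : s + 4 * h' * s ≡ s + 0 [MOD 2 * (4 * h')] := by
    have h3 : (1 + 4 * h') * s = s + 4 * h' * s := by ring
    rw [h3] at h1
    rw [add_zero]
    exact h1
  have h4 : 4 * h' * s ≡ 0 [MOD 2 * (4 * h')] := Nat.ModEq.add_left_cancel' s h2
  have h5 : 4 * h' * 2 ∣ 4 * h' * s := by
    have h6 := (Nat.modEq_zero_iff_dvd).mp h4
    rw [mul_comm 2 (4 * h')] at h6
    exact h6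
  have h7 : 2 ∣ s := Nat.dvd_of_mul_dvd_mul_left (by omega) h5
  obtain ⟨s', hs'⟩ := h7
  refine ⟨(1 + 2 * h') * s', ?_⟩
  have h8 : (1 + 2 * h') * s' + r * ((1 + 2 * h') * s')
      ≡ (1 + 2 * h') * s' + (1 + 4 * h') * ((1 + 2 * h') * s') [MOD 2 * (4 * h')] :=
    (hC.mul_right ((1 + 2 * h') * s')).add_left ((1 + 2 * h') * s')
  have h9 : (1 + 2 * h') * s' + (1 + 4 * h') * ((1 + 2 * h') * s')
      = s + 2 * (4 * h') * (s' + h' * s') := by
    rw [hs']
    ring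
  rw [h9] at h8
  have h10 : s + 2 * (4 * h') * (s' + h' * s') ≡ s [MOD 2 * (4 * h')] := by
    show (s + 2 * (4 * h') * (s' + h' * s')) % (2 * (4 * h')) = s % (2 * (4 * h'))
    exact Nat.add_mul_mod_self_left s (2 * (4 * h')) (s' + h' * s')
  exact h8.trans h10

theorem cyc2_caseD_arith {r s h' : ℕ} (hD : r + 1 ≡ 4 * h' [MOD 2 * (4 * h')])
    (hrs : r * s ≡ s [MOD 2 * (4 * h')]) :
    s ≡ 0 [MOD 2 * (4 * h')] ∨ s ≡ 0 + 4 * h' [MOD 2 * (4 * h')] := by
  have h1 : (r + 1) * s ≡ 4 * h' * s [MOD 2 * (4 * h')] := hD.mul_right s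
  have h2 : s + s ≡ r * s + s [MOD 2 * (4 * h')] := hrs.symm.add_right s
  have h3 : r * s + s = (r + 1) * s := by ring
  rw [h3] at h2
  have h4 : s + s ≡ 4 * h' * s [MOD 2 * (4 * h')] := h2.trans h1
  have h5 : 2 * s ≡ 2 * (2 * h' * s) [MOD 2 * (4 * h')] := by
    have e1 : s + s = 2 * s := by ring
    have e2 : 4 * h' * s = 2 * (2 * h' * s) := by ring
    rw [e1, e2] at h4
    exact h4
  have h6 : s ≡ 2 * h' * s [MOD 4 * h'] := Nat.ModEq.mul_left_cancel' (by norm_num) h5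
  obtain ⟨q, hq⟩ := Nat.modEq_iff_dvd.mp h6
  push_cast at hq
  have h7 : ((4 * h' : ℕ) : ℤ) ∣ (s : ℤ) := by
    refine ⟨q - ((s : ℤ) - 2 * q) * ((h' : ℤ) - 1), ?_⟩
    push_cast
    linear_combination (2 * (h' : ℤ) - 1) * hq
  have h8 : 4 * h' ∣ s := Int.natCast_dvd_natCast.mp h7
  exact modEq_half_split ((Nat.modEq_zero_iff_dvd).mpr h8)

theorem cyc2_sq_aux {G : Type*} [Group G] (x A B : G) (hx : x * A = B * x) :
    (A⁻¹ * x) * (A⁻¹ * x) = A⁻¹ * B⁻¹ * (x * x) := by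
  have h1 : x * A⁻¹ = B⁻¹ * x := by
    calc x * A⁻¹ = B⁻¹ * (B * x) * A⁻¹ := by group
      _ = B⁻¹ * (x * A) * A⁻¹ := by rw [hx]
      _ = B⁻¹ * x := by group
  calc A⁻¹ * x * (A⁻¹ * x) = A⁻¹ * (x * A⁻¹) * x := by group
    _ = A⁻¹ * (B⁻¹ * x) * x := by rw [h1]
    _ = A⁻¹ * B⁻¹ * (x * x) := by group

theorem cyc2_g1 {G : Type*} [Group G] (A B : G) : A⁻¹ * B⁻¹ * (B * A) = 1 := by group

theorem cyc2_g2 {G : Type*} [Group G] (c x : G) : c * x * (c * x) = c * (x * c) * x := by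
  group

theorem cyc2_g3 {G : Type*} [Group G] (c d x : G) : c * (d * x) * x = (c * d) * (x * x) := by
  group

/-- The core computation for a `2`-group with a cyclic subgroup `⟨c⟩` of index `2`: an element
`x` outside, normalizing `⟨c⟩` non-trivially with `x * x ∈ ⟨c⟩`, can be corrected by an element
of `⟨c⟩` to one of the four standard forms. -/
theorem cyc2_core {G : Type*} [Group G] (n : ℕ) (hn : 3 ≤ n) (c x : G) (r s : ℕ)
    (hord : orderOf c = 2 ^ (n - 1)) (hconj : x * c * x⁻¹ = c ^ r) (hsq : x * x = c ^ s)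
    (hne : x * c ≠ c * x) :
    ∃ u : G, u ∈ Subgroup.zpowers c ∧
      (((u * x) ^ 2 = 1 ∧ c ^ r = c⁻¹) ∨ ((u * x) ^ 2 = c ^ (2 ^ (n - 2)) ∧ c ^ r = c⁻¹) ∨
       (4 ≤ n ∧ (u * x) ^ 2 = 1 ∧ c ^ r = c ^ (1 + 2 ^ (n - 2))) ∨
       (4 ≤ n ∧ (u * x) ^ 2 = 1 ∧ c ^ r = c ^ (2 ^ (n - 2) - 1))) := by
  obtain ⟨H, hH⟩ : ∃ H : ℕ, H = 2 ^ (n - 2) := ⟨_, rfl⟩
  rw [← hH]
  have hHpos : 0 < H := by
    rw [hH]
    positivity
  have hM : 2 ^ (n - 1) = 2 * H := by
    rw [hH, ← pow_succ']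
    congr 1
    omega
  have hpe : ∀ k l : ℕ, c ^ k = c ^ l ↔ k ≡ l [MOD 2 * H] := by
    intro k l
    rw [← hM, ← hord]
    exact pow_eq_pow_iff_modEq
  have hxk : ∀ k : ℕ, x * c ^ k = c ^ (r * k) * x := by
    intro k
    have h1 : x * c ^ k * x⁻¹ = c ^ (r * k) := by
      rw [← conj_pow, hconj, ← pow_mul]
    calc x * c ^ k = (x * c ^ k * x⁻¹) * x := by group
      _ = c ^ (r * k) * x := by rw [h1]
  have hx1 : x * c = c ^ r * x := by
    have h1 := hxk 1
    rwa [pow_one, mul_one] at h1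
  have hrs : r * s ≡ s [MOD 2 * H] := by
    rw [← hpe]
    have h1 : x * c ^ s = c ^ (r * s) * x := hxk s
    rw [← hsq] at h1
    have h2 : c ^ s * x = c ^ (r * s) * x := by
      rw [← hsq]
      exact (mul_assoc x x x).trans h1
    exact (mul_right_cancel h2).symm
  have hrr : r * r ≡ 1 [MOD 2 * H] := by
    rw [← hpe, pow_one]
    have h1 : x * x * c = c ^ (r * r) * (x * x) := by
      calc x * x * c = x * (x * c) := mul_assoc x x c
        _ = x * (c ^ r * x) := by rw [hx1]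
        _ = (x * c ^ r) * x := (mul_assoc x (c ^ r) x).symm
        _ = c ^ (r * r) * x * x := by rw [hxk r]
        _ = c ^ (r * r) * (x * x) := mul_assoc _ _ _
    rw [hsq] at h1
    have h2 : c ^ s * c = c * c ^ s := by
      rw [← pow_succ, ← pow_succ']
    rw [h2] at h1
    exact (mul_right_cancel h1).symm
  have hcases : r ≡ 1 [MOD 2 * H] ∨ r + 1 ≡ 0 [MOD 2 * H] ∨
      (4 ≤ n ∧ r ≡ 1 + H [MOD 2 * H]) ∨ (4 ≤ n ∧ r + 1 ≡ H [MOD 2 * H]) := by
    have h3 : r ^ 2 ≡ 1 [MOD 2 ^ (n - 2 + 1)] := by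
      rw [pow_succ' 2 (n - 2), ← hH, pow_two]
      exact hrr
    have hn3 : n = 3 → H = 2 := by
      intro h
      rw [hH, h]
      norm_num
    rcases Cfsg.Agent.Helper24.two_pow_dvd_of_sq_modEq_one h3 with h4 | h4
    · rw [← hH] at h4
      rcases modEq_half_split h4 with h5 | h5
      · exact Or.inl h5
      · rcases Nat.lt_or_ge n 4 with h6 | h6
        · right; left
          have h7 : H = 2 := hn3 (by omega)
          rw [h7] at h5 ⊢
          have h8 : r % (2 * 2) = (1 + 2) % (2 * 2) := h5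
          show (r + 1) % (2 * 2) = 0 % (2 * 2)
          omega
        · exact Or.inr (Or.inr (Or.inl ⟨h6, h5⟩))
    · rw [← hH] at h4
      rcases modEq_half_split ((Nat.modEq_zero_iff_dvd).mpr h4) with h5 | h5
      · exact Or.inr (Or.inl h5)
      · rw [zero_add] at h5
        rcases Nat.lt_or_ge n 4 with h6 | h6
        · left
          have h7 : H = 2 := hn3 (by omega)
          rw [h7] at h5 ⊢
          have h8 : (r + 1) % (2 * 2) = 2 % (2 * 2) := h5
          show r % (2 * 2) = 1 % (2 * 2)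
          omega
        · exact Or.inr (Or.inr (Or.inr ⟨h6, h5⟩))
  rcases hcases with hA | hB | ⟨h4, hC⟩ | ⟨h4, hD⟩
  · exfalso
    apply hne
    rw [hx1]
    have h1 : c ^ r = c ^ 1 := (hpe r 1).mpr hA
    rw [h1, pow_one]
  · have hcr : c ^ r = c⁻¹ := by
      have h1 : c ^ (r + 1) = c ^ 0 := (hpe (r + 1) 0).mpr hB
      rw [pow_zero, pow_succ] at h1
      exact eq_inv_of_mul_eq_one_left h1
    refine ⟨1, Subgroup.one_mem _, ?_⟩
    rw [one_mul, pow_two, hsq]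
    rcases cyc2_caseB_arith hB hrs with h1 | h1
    · left
      refine ⟨?_, hcr⟩
      exact ((hpe s 0).mpr h1).trans (pow_zero c)
    · right; left
      refine ⟨?_, hcr⟩
      rw [zero_add] at h1
      exact (hpe s H).mpr h1
  · obtain ⟨h', hh'⟩ : ∃ h' : ℕ, h' = 2 ^ (n - 4) := ⟨_, rfl⟩
    have hh'pos : 0 < h' := by
      rw [hh']
      positivity
    have hH4 : H = 4 * h' := by
      rw [hH, hh', show n - 2 = 2 + (n - 4) by omega, pow_add]
      norm_num
    have hcr : c ^ r = c ^ (1 + H) := (hpe r (1 + H)).mpr hC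
    have hC' := hC
    have hrs' := hrs
    rw [hH4] at hC' hrs'
    obtain ⟨t, ht⟩ := cyc2_caseC_arith hh'pos hC' hrs'
    rw [← hH4] at ht
    have hst : c ^ s = c ^ (r * t) * c ^ t := by
      rw [← pow_add, add_comm]
      exact ((hpe (t + r * t) s).mpr ht).symm
    refine ⟨(c ^ t)⁻¹, Subgroup.inv_mem _ (Subgroup.pow_mem _ (Subgroup.mem_zpowers c) t), ?_⟩
    right; right; left
    refine ⟨h4, ?_, hcr⟩
    rw [pow_two, cyc2_sq_aux x (c ^ t) (c ^ (r * t)) (hxk t), hsq, hst]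
    exact cyc2_g1 _ _
  · obtain ⟨h', hh'⟩ : ∃ h' : ℕ, h' = 2 ^ (n - 4) := ⟨_, rfl⟩
    have hH4 : H = 4 * h' := by
      rw [hH, hh', show n - 2 = 2 + (n - 4) by omega, pow_add]
      norm_num
    have hcr : c ^ r = c ^ (H - 1) := by
      apply (hpe r (H - 1)).mpr
      apply Nat.ModEq.add_right_cancel' 1
      rw [Nat.sub_add_cancel hHpos]
      exact hD
    have hD' := hD
    have hrs' := hrs
    rw [hH4] at hD' hrs'
    rcases cyc2_caseD_arith hD' hrs' with h1 | h1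
    · rw [← hH4] at h1
      refine ⟨1, Subgroup.one_mem _, ?_⟩
      right; right; right
      refine ⟨h4, ?_, hcr⟩
      rw [one_mul, pow_two, hsq]
      exact ((hpe s 0).mpr h1).trans (pow_zero c)
    · rw [zero_add, ← hH4] at h1
      refine ⟨c, Subgroup.mem_zpowers c, ?_⟩
      right; right; right
      refine ⟨h4, ?_, hcr⟩
      have h2 : c * x * (c * x) = c ^ (r + 1 + s) := by
        calc c * x * (c * x) = c * (x * c) * x := cyc2_g2 c x
          _ = c * (c ^ r * x) * x := by rw [hx1]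
          _ = (c * c ^ r) * (x * x) := cyc2_g3 c (c ^ r) x
          _ = c ^ (r + 1) * c ^ s := by rw [← pow_succ', hsq]
          _ = c ^ (r + 1 + s) := (pow_add c (r + 1) s).symm
      have h3 : r + 1 + s ≡ 0 [MOD 2 * H] := by
        have h5 : r + 1 + s ≡ H + H [MOD 2 * H] := hD.add h1
        have h6 : H + H ≡ 0 [MOD 2 * H] := by
          rw [← two_mul]
          exact (Nat.modEq_zero_iff_dvd).mpr (dvd_refl _)
        exact h5.trans h6
      rw [pow_two, h2]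
      exact ((hpe (r + 1 + s) 0).mpr h3).trans (pow_zero c)

/-- Classification of non-abelian `2`-groups with a cyclic subgroup of index `2`. -/
theorem cyc2_main {G : Type*} [Group G] [Finite G] (n : ℕ) (hn : 3 ≤ n)
    (hG : Nat.card G = 2 ^ n) (C : Subgroup G) (hC : IsCyclic C) (hCi : C.index = 2)
    (hna : ∃ x y : G, x * y ≠ y * x) :
    ∃ a b : G, orderOf a = 2 ^ (n - 1) ∧ b ∉ Subgroup.zpowers a ∧
      ((b ^ 2 = 1 ∧ b * a * b⁻¹ = a⁻¹) ∨ (b ^ 2 = a ^ (2 ^ (n - 2)) ∧ b * a * b⁻¹ = a⁻¹) ∨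
        (4 ≤ n ∧ b ^ 2 = 1 ∧ b * a * b⁻¹ = a ^ (1 + 2 ^ (n - 2))) ∨
        (4 ≤ n ∧ b ^ 2 = 1 ∧ b * a * b⁻¹ = a ^ (2 ^ (n - 2) - 1))) := by
  have hCn : C.Normal := Subgroup.normal_of_index_eq_two hCi
  have hCcard : Nat.card C = 2 ^ (n - 1) := by
    have h := Subgroup.card_mul_index C
    rw [hCi, hG] at h
    have h2 : 2 ^ n = 2 ^ (n - 1) * 2 := by
      rw [← pow_succ]
      congr 1
      omega
    rw [h2] at h
    exact Nat.eq_of_mul_eq_mul_right (by norm_num) h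
  obtain ⟨g, hg⟩ := hC.exists_generator
  obtain ⟨c, hc'⟩ : ∃ c : G, c = (g : G) := ⟨_, rfl⟩
  have hcC : c ∈ C := hc' ▸ g.2
  have hCz : ∀ y ∈ C, y ∈ Subgroup.zpowers c := by
    intro y hy
    obtain ⟨k, hk⟩ := Subgroup.mem_zpowers_iff.mp (hg ⟨y, hy⟩)
    refine Subgroup.mem_zpowers_iff.mpr ⟨k, ?_⟩
    have := congrArg Subtype.val hk
    rw [hc']
    simpa using this
  have hCeq : C = Subgroup.zpowers c :=
    le_antisymm hCz (by rw [Subgroup.zpowers_le]; exact hcC)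
  have hordc : orderOf c = 2 ^ (n - 1) := by rw [← Nat.card_zpowers, ← hCeq, hCcard]
  obtain ⟨x, hxC⟩ : ∃ x, x ∉ C := by
    by_contra h
    push Not at h
    have htop : C = ⊤ := by
      rw [eq_top_iff]
      intro a _
      exact h a
    rw [htop, Subgroup.index_top] at hCi
    omega
  have hcases : ∀ g : G, g ∈ C ∨ ∃ s ∈ C, g = s * x := by
    intro g
    by_cases hg : g ∈ C
    · exact Or.inl hg
    · right
      refine ⟨g * x⁻¹, ?_, by group⟩
      rw [Subgroup.mul_mem_iff_of_index_two hCi]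
      constructor
      · intro h
        exact absurd h hg
      · intro h
        exact absurd (C.inv_mem_iff.mp h) hxC
  have hx2C : x * x ∈ C := by
    have := C.pow_index_mem x
    rwa [hCi, pow_two] at this
  have h1 : x * c * x⁻¹ ∈ Subgroup.zpowers c := hCz _ (hCn.conj_mem c hcC x)
  rw [← mem_powers_iff_mem_zpowers] at h1
  obtain ⟨r, hr⟩ := (Submonoid.mem_powers_iff _ _).mp h1
  have h2 : x * x ∈ Subgroup.zpowers c := hCz _ hx2C
  rw [← mem_powers_iff_mem_zpowers] at h2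
  obtain ⟨s, hs⟩ := (Submonoid.mem_powers_iff _ _).mp h2
  have hCcomm : ∀ a ∈ C, ∀ b ∈ C, Commute a b := by
    intro a ha b hb
    obtain ⟨k, rfl⟩ := Subgroup.mem_zpowers_iff.mp (hCz a ha)
    obtain ⟨l, rfl⟩ := Subgroup.mem_zpowers_iff.mp (hCz b hb)
    exact (Commute.refl c).zpow_zpow k l
  have hne : x * c ≠ c * x := by
    intro hcomm
    obtain ⟨u, v, huv⟩ := hna
    apply huv
    have hxc : Commute x c := hcomm
    have hxC' : ∀ s ∈ C, Commute x s := by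
      intro s hs'
      obtain ⟨k, rfl⟩ := Subgroup.mem_zpowers_iff.mp (hCz s hs')
      exact hxc.zpow_right k
    rcases hcases u with hu | ⟨s1, hs1, rfl⟩ <;> rcases hcases v with hv | ⟨s2, hs2, rfl⟩
    · exact (hCcomm u hu v hv).eq
    · exact (Commute.mul_right (hCcomm u hu s2 hs2) (hxC' u hu).symm).eq
    · exact (Commute.mul_left (hCcomm s1 hs1 v hv) (hxC' v hv)).eq
    · exact (Commute.mul_left (Commute.mul_right (hCcomm s1 hs1 s2 hs2) (hxC' s1 hs1).symm)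
        (Commute.mul_right (hxC' s2 hs2) (Commute.refl x))).eq
  obtain ⟨u, hu, halt⟩ := cyc2_core n hn c x r s hordc hr.symm hs.symm hne
  have hucr : Commute u (c ^ r) := by
    obtain ⟨k, rfl⟩ := Subgroup.mem_zpowers_iff.mp hu
    exact ((Commute.refl c).zpow_left k).pow_right r
  have hbconj : (u * x) * c * (u * x)⁻¹ = c ^ r := by
    calc (u * x) * c * (u * x)⁻¹ = u * (x * c * x⁻¹) * u⁻¹ := by group
      _ = u * c ^ r * u⁻¹ := by rw [← hr]
      _ = c ^ r * u * u⁻¹ := by rw [hucr.eq]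
      _ = c ^ r := by group
  have hbn : u * x ∉ Subgroup.zpowers c := by
    intro hmem
    apply hxC
    rw [hCeq]
    have h3 : x = u⁻¹ * (u * x) := by group
    rw [h3]
    exact Subgroup.mul_mem _ (Subgroup.inv_mem _ hu) hmem
  refine ⟨c, u * x, hordc, hbn, ?_⟩
  rw [hbconj]
  exact halt

end Cfsg.Agent.Helper11
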