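import Mathlib
import Cfsg.Prelude.Def_Transfer

set_option autoImplicit false

namespace Cfsg.Agent.Helper11

theorem center_comm_of_fix {P : Type*} [Group P] [Finite P] (τ : MulAut P)
    (hτ2 : ∀ q, τ (τ q) = q) (F : Subgroup P) (hF : ∀ q, q ∈ F ↔ τ q = q) (hidx : F.index ≤ 2)
    (q : P) : τ q * q⁻¹ ∈ Subgroup.center P := by
  by_cases hq : q ∈ F
  · rw [(hF q).mp hq, mul_inv_cancel]
    exact Subgroup.one_mem _
  · have h2 : F.index = 2 := by
      have h0 : F.index ≠ 0 := Subgroup.index_ne_zero_of_finite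
      have h1 : F.index ≠ 1 := by
        intro h1
        rw [Subgroup.index_eq_one] at h1
        exact hq (h1 ▸ Subgroup.mem_top q)
      omega
    have hmul : ∀ {a b : P}, a * b ∈ F ↔ (a ∈ F ↔ b ∈ F) := Subgroup.mul_mem_iff_of_index_two h2
    have hτF : ∀ x, τ x ∈ F ↔ x ∈ F := by
      intro x
      rw [hF, hF, hτ2]
      exact eq_comm
    have hn : F.Normal := Subgroup.normal_of_index_eq_two h2
    have hcF : τ q * q⁻¹ ∈ F := by
      rw [hmul, hτF, F.inv_mem_iff]
    have hτc : τ (τ q * q⁻¹) = τ q * q⁻¹ := (hF _).mp hcF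
    have hcinv : (τ q * q⁻¹)⁻¹ = τ q * q⁻¹ := by
      have h3 : τ (τ q * q⁻¹) = (τ q * q⁻¹)⁻¹ := by
        rw [map_mul, map_inv, hτ2]
        group
      rw [← h3, hτc]
    generalize hc : τ q * q⁻¹ = c at hcF hτc hcinv
    have hτq : τ q = c * q := by
      rw [← hc]
      group
    have hcc : c * c = 1 := by
      have := inv_mul_cancel c
      rwa [hcinv] at this
    have hcq : c * q = q * c := by
      have hqq : q * q ∈ F := by rw [hmul]
      have h3 : τ (q * q) = q * q := (hF _).mp hqq
      rw [map_mul, hτq] at h3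
      have h4 : c * q * c = q := by
        have h5 : c * q * c * q = q * q := by
          rw [← h3]
          group
        exact mul_right_cancel h5
      calc c * q = c * (c * q * c) := by rw [h4]
        _ = (c * c) * q * c := by group
        _ = q * c := by rw [hcc, one_mul]
    have hcm : ∀ m ∈ F, c * m = m * c := by
      intro m hm
      have h5 : q⁻¹ * m * q ∈ F := by
        have := hn.conj_mem m hm q⁻¹
        rwa [inv_inv] at this
      have h6 : τ (q⁻¹ * m * q) = q⁻¹ * m * q := (hF _).mp h5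
      rw [map_mul, map_mul, map_inv, hτq, (hF m).mp hm] at h6
      calc c * m = c * (q * (q⁻¹ * m * q) * q⁻¹) := by group
        _ = c * (q * ((c * q)⁻¹ * m * (c * q)) * q⁻¹) := by rw [h6]
        _ = m * c := by group
    rw [Subgroup.mem_center_iff]
    intro r
    by_cases hr : r ∈ F
    · exact (hcm r hr).symm
    · have h7 : q⁻¹ * r ∈ F := by
        rw [hmul, F.inv_mem_iff]
        exact ⟨fun h => absurd h hq, fun h => absurd h hr⟩
      have h8 := hcm _ h7
      calc r * c = q * ((q⁻¹ * r) * c) := by group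
        _ = q * (c * (q⁻¹ * r)) := by rw [h8]
        _ = (q * c) * (q⁻¹ * r) := by group
        _ = (c * q) * (q⁻¹ * r) := by rw [hcq]
        _ = c * r := by group

def cHom {P : Type*} [Group P] (τ : MulAut P) (h : ∀ q, τ q * q⁻¹ ∈ Subgroup.center P) :
    P →* Subgroup.center P where
  toFun q := ⟨τ q * q⁻¹, h q⟩
  map_one' := by
    apply Subtype.ext
    simp
  map_mul' := by
    intro q r
    apply Subtype.ext
    show τ (q * r) * (q * r)⁻¹ = τ q * q⁻¹ * (τ r * r⁻¹)
    have hc := Subgroup.mem_center_iff.mp (h r) (τ q)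
    have hc2 := Subgroup.mem_center_iff.mp (h r) (τ q * q⁻¹)
    rw [map_mul]
    calc τ q * τ r * (q * r)⁻¹ = τ q * (τ r * r⁻¹) * q⁻¹ := by group
      _ = (τ r * r⁻¹) * τ q * q⁻¹ := by rw [hc]
      _ = (τ r * r⁻¹) * (τ q * q⁻¹) := by group
      _ = τ q * q⁻¹ * (τ r * r⁻¹) := by rw [hc2]

theorem cHom_coe {P : Type*} [Group P] (τ : MulAut P) (h : ∀ q, τ q * q⁻¹ ∈ Subgroup.center P)
    (q : P) : ((cHom τ h q : Subgroup.center P) : P) = τ q * q⁻¹ := rfl

theorem inner_of_fix {P : Type*} [Group P] [Finite P] (τ : MulAut P) (hτ2 : ∀ q, τ (τ q) = q)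
    (F : Subgroup P) (hF : ∀ q, q ∈ F ↔ τ q = q) (hidx : F.index ≤ 2)
    (hc : commutator P = Subgroup.center P) (hZ : Nat.card (Subgroup.center P) = 2) :
    ∃ a : P, ∀ q, τ q = a * q * a⁻¹ := by
  classical
  have hstep := center_comm_of_fix τ hτ2 F hF hidx
  have hconj : ∀ a q : P, (MulAut.conj a) q * q⁻¹ ∈ Subgroup.center P := by
    intro a q
    rw [← hc, MulAut.conj_apply]
    have := Subgroup.commutator_mem_commutator (Subgroup.mem_top a) (Subgroup.mem_top q)
    rw [commutatorElement_def] at this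
    exact this
  have hU : Nat.card ℤˣ = 2 := by
    rw [Nat.card_eq_fintype_card]
    rfl
  let e : Subgroup.center P ≃* ℤˣ := mulEquivOfPrimeCardEq (p := 2) hZ hU
  let ι : Subgroup.center P →* ℂˣ :=
    (Units.map (Int.castRingHom ℂ).toMonoidHom).comp e.toMonoidHom
  have hι : Function.Injective ι := by
    intro x y hxy
    apply e.injective
    have hinj : Function.Injective (Units.map (Int.castRingHom ℂ).toMonoidHom) :=
      Units.map_injective (fun a b h => by
        have h' : ((a : ℤ) : ℂ) = ((b : ℤ) : ℂ) := h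
        exact_mod_cast h')
    exact hinj hxy
  let Ψ : P →* (P →* ℂˣ) :=
    { toFun := fun a => ι.comp (cHom (MulAut.conj a) (hconj a))
      map_one' := by
        apply MonoidHom.ext
        intro q
        show ι (cHom (MulAut.conj (1 : P)) (hconj 1) q) = 1
        have h1 : cHom (MulAut.conj (1 : P)) (hconj 1) q = 1 := by
          apply Subtype.ext
          rw [cHom_coe]
          simp
        rw [h1, map_one]
      map_mul' := by
        intro a b
        apply MonoidHom.ext
        intro q
        show ι (cHom (MulAut.conj (a * b)) (hconj (a * b)) q) =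
          ι (cHom (MulAut.conj a) (hconj a) q) * ι (cHom (MulAut.conj b) (hconj b) q)
        have h1 : cHom (MulAut.conj (a * b)) (hconj (a * b)) q =
            cHom (MulAut.conj a) (hconj a) q * cHom (MulAut.conj b) (hconj b) q := by
          apply Subtype.ext
          rw [Subgroup.coe_mul, cHom_coe, cHom_coe, cHom_coe]
          have hz := Subgroup.mem_center_iff.mp (hconj b q)
          simp only [MulAut.conj_apply] at hz ⊢
          calc a * b * q * (a * b)⁻¹ * q⁻¹
              = a * (b * q * b⁻¹ * q⁻¹) * (q * a⁻¹ * q⁻¹) := by group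
            _ = (b * q * b⁻¹ * q⁻¹) * a * (q * a⁻¹ * q⁻¹) := by rw [hz a]
            _ = (b * q * b⁻¹ * q⁻¹) * (a * q * a⁻¹ * q⁻¹) := by group
            _ = a * q * a⁻¹ * q⁻¹ * (b * q * b⁻¹ * q⁻¹) := by rw [hz (a * q * a⁻¹ * q⁻¹)]
        rw [h1, map_mul] }
  have hΨ : ∀ a q, Ψ a q = ι (cHom (MulAut.conj a) (hconj a) q) := fun _ _ => rfl
  have hker : Ψ.ker = Subgroup.center P := by
    ext a
    rw [MonoidHom.mem_ker, Subgroup.mem_center_iff]
    constructor
    · intro h g
      have h1 : (Ψ a) g = 1 := by rw [h]; rfl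
      rw [hΨ] at h1
      have h2 : ι (cHom (MulAut.conj a) (hconj a) g) = ι 1 := by rw [map_one]; exact h1
      have h3 := congrArg Subtype.val (hι h2)
      have h4 : a * g * a⁻¹ * g⁻¹ = 1 := h3
      calc g * a = (a * g * a⁻¹ * g⁻¹)⁻¹ * (a * g) := by group
        _ = a * g := by rw [h4, inv_one, one_mul]
    · intro h
      apply MonoidHom.ext
      intro g
      rw [hΨ]
      have h1 : cHom (MulAut.conj a) (hconj a) g = 1 := by
        apply Subtype.ext
        rw [cHom_coe, MulAut.conj_apply, ← h g]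
        simp
      rw [h1, map_one]
      rfl
  have hexp : NeZero ((Monoid.exponent (Abelianization P) : ℕ) : ℂ) :=
    ⟨Nat.cast_ne_zero.mpr Monoid.exponent_ne_zero_of_finite⟩
  have hcard1 : Nat.card (P →* ℂˣ) = (Subgroup.center P).index := by
    rw [Nat.card_congr (Abelianization.lift (G := P) (A := ℂˣ)),
      CommGroup.card_monoidHom_of_hasEnoughRootsOfUnity (Abelianization P) ℂ, ← hc]
    rfl
  have hcard2 : Nat.card Ψ.range = (Subgroup.center P).index := by
    rw [← Subgroup.index_ker, hker]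
  have hfin : Finite (P →* ℂˣ) := Nat.finite_of_card_ne_zero (by
    rw [hcard1]
    exact Subgroup.index_ne_zero_of_finite)
  have htop : Ψ.range = ⊤ := Subgroup.eq_top_of_card_eq _ (hcard2.trans hcard1.symm)
  have hmem : ι.comp (cHom τ hstep) ∈ Ψ.range := by
    rw [htop]
    exact Subgroup.mem_top _
  obtain ⟨a, ha⟩ := hmem
  refine ⟨a, fun q => ?_⟩
  have h1 : ι (cHom (MulAut.conj a) (hconj a) q) = ι (cHom τ hstep q) := DFunLike.congr_fun ha q
  have h2 := congrArg Subtype.val (hι h1)
  have h3 : a * q * a⁻¹ * q⁻¹ = τ q * q⁻¹ := h2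
  exact (mul_right_cancel h3).symm

end Cfsg.Agent.Helper11
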