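import Mathlib
import Cfsg.Agent.Helper11.Extra

set_option autoImplicit false

namespace Cfsg.Agent.Helper11

section
variable {P : Type*} [Group P]

theorem bcomm_mul_left (hcomm : ∀ a b : P, a * b * a⁻¹ * b⁻¹ ∈ Subgroup.center P) (a b x : P) :
    (a * b) * x * (a * b)⁻¹ * x⁻¹ = (a * x * a⁻¹ * x⁻¹) * (b * x * b⁻¹ * x⁻¹) := by
  have h := Subgroup.mem_center_iff.mp (hcomm b x)
  calc (a * b) * x * (a * b)⁻¹ * x⁻¹ = a * (b * x * b⁻¹ * x⁻¹) * (x * a⁻¹ * x⁻¹) := by group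
    _ = (b * x * b⁻¹ * x⁻¹) * a * (x * a⁻¹ * x⁻¹) := by rw [h a]
    _ = (b * x * b⁻¹ * x⁻¹) * (a * x * a⁻¹ * x⁻¹) := by group
    _ = (a * x * a⁻¹ * x⁻¹) * (b * x * b⁻¹ * x⁻¹) := by rw [h (a * x * a⁻¹ * x⁻¹)]

theorem bcomm_mul_right (hcomm : ∀ a b : P, a * b * a⁻¹ * b⁻¹ ∈ Subgroup.center P) (q a b : P) :
    q * (a * b) * q⁻¹ * (a * b)⁻¹ = (q * a * q⁻¹ * a⁻¹) * (q * b * q⁻¹ * b⁻¹) := by
  have h := Subgroup.mem_center_iff.mp (hcomm q b)
  calc q * (a * b) * q⁻¹ * (a * b)⁻¹ = q * a * q⁻¹ * ((q * b * q⁻¹ * b⁻¹) * a⁻¹) := by group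
    _ = q * a * q⁻¹ * (a⁻¹ * (q * b * q⁻¹ * b⁻¹)) := by rw [h a⁻¹]
    _ = (q * a * q⁻¹ * a⁻¹) * (q * b * q⁻¹ * b⁻¹) := by group

theorem center_sq_eq_one (hZ : Nat.card (Subgroup.center P) = 2) {ζ : P}
    (hζ : ζ ∈ Subgroup.center P) : ζ * ζ = 1 := by
  have h := pow_card_eq_one' (G := ↥(Subgroup.center P)) (x := ⟨ζ, hζ⟩)
  rw [hZ] at h
  have h2 : ζ ^ 2 = 1 := by
    have := congrArg Subtype.val h
    simpa using this
  rw [← pow_two]
  exact h2

theorem center_eq_of_ne_one (hZ : Nat.card (Subgroup.center P) = 2) {a b : P}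
    (ha : a ∈ Subgroup.center P) (hb : b ∈ Subgroup.center P) (ha1 : a ≠ 1) (hb1 : b ≠ 1) :
    a = b := by
  obtain ⟨y, -, hy⟩ := (Nat.card_eq_two_iff' (1 : ↥(Subgroup.center P))).mp hZ
  have h1 : (⟨a, ha⟩ : ↥(Subgroup.center P)) = y :=
    hy _ (fun h => ha1 (congrArg Subtype.val h))
  have h2 : (⟨b, hb⟩ : ↥(Subgroup.center P)) = y :=
    hy _ (fun h => hb1 (congrArg Subtype.val h))
  exact congrArg Subtype.val (h1.trans h2.symm)

theorem aut_fix_center (hZ : Nat.card (Subgroup.center P) = 2) (τ : MulAut P)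
    (hτ2 : ∀ q, τ (τ q) = q) {ζ : P} (hζ : ζ ∈ Subgroup.center P) : τ ζ = ζ := by
  by_cases h1 : ζ = 1
  · rw [h1, map_one]
  · have hτζ : τ ζ ∈ Subgroup.center P := by
      rw [Subgroup.mem_center_iff]
      intro g
      have h := Subgroup.mem_center_iff.mp hζ (τ g)
      have h2 := congrArg τ h
      rw [map_mul, map_mul, hτ2] at h2
      exact h2
    have hne : τ ζ ≠ 1 := by
      intro h
      apply h1
      have : τ ζ = τ 1 := by rw [h, map_one]
      exact τ.injective this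
    exact center_eq_of_ne_one hZ hτζ hζ hne h1

theorem sq_mem_center (hcomm : ∀ a b : P, a * b * a⁻¹ * b⁻¹ ∈ Subgroup.center P)
    (hZ : Nat.card (Subgroup.center P) = 2) (x : P) : x * x ∈ Subgroup.center P := by
  rw [Subgroup.mem_center_iff]
  intro b
  have hζ := hcomm x b
  have h := Subgroup.mem_center_iff.mp hζ
  have h2 := center_sq_eq_one hZ hζ
  have e : x * x * b = b * (x * x) := by
    calc x * x * b = x * (x * b * x⁻¹ * b⁻¹) * (b * x) := by group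
      _ = (x * b * x⁻¹ * b⁻¹) * x * (b * x) := by rw [h x]
      _ = ((x * b * x⁻¹ * b⁻¹) * (x * b * x⁻¹ * b⁻¹)) * b * x * x := by group
      _ = b * (x * x) := by rw [h2, one_mul, mul_assoc]
  exact e.symm

theorem comm_key (hcomm : ∀ a b : P, a * b * a⁻¹ * b⁻¹ ∈ Subgroup.center P)
    (hZ : Nat.card (Subgroup.center P) = 2) (τ : MulAut P) (hτ2 : ∀ q, τ (τ q) = q) (q x : P) :
    (τ q * q⁻¹) * x * (τ q * q⁻¹)⁻¹ * x⁻¹ = q * (τ x * x⁻¹) * q⁻¹ * (τ x * x⁻¹)⁻¹ := by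
  rw [bcomm_mul_left hcomm (τ q) q⁻¹ x, bcomm_mul_right hcomm q (τ x) x⁻¹]
  have e1 : τ q * x * (τ q)⁻¹ * x⁻¹ = q * τ x * q⁻¹ * (τ x)⁻¹ := by
    have h1 : τ (q * τ x * q⁻¹ * (τ x)⁻¹) = q * τ x * q⁻¹ * (τ x)⁻¹ :=
      aut_fix_center hZ τ hτ2 (hcomm q (τ x))
    rw [← h1]
    simp only [map_mul, map_inv, hτ2]
  have hz := Subgroup.mem_center_iff.mp (hcomm x q)
  have e2a : q⁻¹ * x * q⁻¹⁻¹ * x⁻¹ = x * q * x⁻¹ * q⁻¹ := by
    calc q⁻¹ * x * q⁻¹⁻¹ * x⁻¹ = q⁻¹ * (x * q * x⁻¹ * q⁻¹) * q := by group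
      _ = (x * q * x⁻¹ * q⁻¹) * q⁻¹ * q := by rw [hz q⁻¹]
      _ = x * q * x⁻¹ * q⁻¹ := by group
  have e2b : q * x⁻¹ * q⁻¹ * x⁻¹⁻¹ = x * q * x⁻¹ * q⁻¹ := by
    calc q * x⁻¹ * q⁻¹ * x⁻¹⁻¹ = x⁻¹ * (x * q * x⁻¹ * q⁻¹) * x := by group
      _ = (x * q * x⁻¹ * q⁻¹) * x⁻¹ * x := by rw [hz x⁻¹]
      _ = x * q * x⁻¹ * q⁻¹ := by group
  rw [e1, e2a, e2b]

theorem comm_closure_le (hcomm : ∀ a b : P, a * b * a⁻¹ * b⁻¹ ∈ Subgroup.center P)
    (hZ : Nat.card (Subgroup.center P) = 2) (τ : MulAut P) (hτ2 : ∀ q, τ (τ q) = q)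
    (P₀ : Subgroup P) (hP₀ : ∀ q, q ∈ P₀ ↔ τ q * q⁻¹ ∈ Subgroup.center P) :
    Subgroup.closure (Set.range fun q : P => τ q * q⁻¹) ≤
      P₀ ⊓ Subgroup.centralizer (P₀ : Set P) := by
  rw [Subgroup.closure_le]
  intro y hy
  obtain ⟨q, rfl⟩ := hy
  show τ q * q⁻¹ ∈ P₀ ⊓ Subgroup.centralizer (P₀ : Set P)
  refine Subgroup.mem_inf.mpr ⟨?_, ?_⟩
  · rw [hP₀]
    have e : τ (τ q * q⁻¹) * (τ q * q⁻¹)⁻¹ = (q * (τ q)⁻¹) * (q * (τ q)⁻¹) := by
      rw [map_mul, map_inv, hτ2]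
      group
    rw [e]
    exact sq_mem_center hcomm hZ _
  · rw [Subgroup.mem_centralizer_iff]
    intro r hr
    have hr' : τ r * r⁻¹ ∈ Subgroup.center P := (hP₀ r).mp hr
    have hk := comm_key hcomm hZ τ hτ2 q r
    have h1 : q * (τ r * r⁻¹) * q⁻¹ * (τ r * r⁻¹)⁻¹ = 1 := by
      rw [Subgroup.mem_center_iff.mp hr' q]
      group
    rw [h1] at hk
    calc r * (τ q * q⁻¹)
        = ((τ q * q⁻¹) * r * (τ q * q⁻¹)⁻¹ * r⁻¹)⁻¹ * ((τ q * q⁻¹) * r) := by group
      _ = (τ q * q⁻¹) * r := by rw [hk, inv_one, one_mul]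

theorem center_le_comm_closure [Finite P]
    (hcomm : ∀ a b : P, a * b * a⁻¹ * b⁻¹ ∈ Subgroup.center P)
    (hZ : Nat.card (Subgroup.center P) = 2) (τ : MulAut P) (hne : ∃ q, τ q ≠ q) :
    Subgroup.center P ≤ Subgroup.closure (Set.range fun q : P => τ q * q⁻¹) := by
  classical
  by_contra hle
  have hgen : ∀ q, τ q * q⁻¹ ∈ Subgroup.closure (Set.range fun q : P => τ q * q⁻¹) :=
    fun q => Subgroup.subset_closure ⟨q, rfl⟩
  generalize Subgroup.closure (Set.range fun q : P => τ q * q⁻¹) = N at hle hgen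
  have hbot : N ⊓ Subgroup.center P = ⊥ := by
    have hdvd : Nat.card ↥(N ⊓ Subgroup.center P) ∣ 2 := by
      rw [← hZ]
      exact Subgroup.card_dvd_of_le inf_le_right
    rcases (Nat.dvd_prime Nat.prime_two).mp hdvd with h1 | h2
    · exact Subgroup.eq_bot_of_card_eq _ h1
    · exfalso
      apply hle
      have h3 : N ⊓ Subgroup.center P = Subgroup.center P :=
        Subgroup.eq_of_le_of_card_ge inf_le_right (by rw [h2, hZ])
      rw [← h3]
      exact inf_le_left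
  have hcen : ∀ q, τ q * q⁻¹ ∈ Subgroup.center P := by
    intro q
    rw [Subgroup.mem_center_iff]
    intro r
    have hmem : r * (τ q * q⁻¹) * r⁻¹ * (τ q * q⁻¹)⁻¹ ∈ N ⊓ Subgroup.center P := by
      refine Subgroup.mem_inf.mpr ⟨?_, hcomm r _⟩
      have e : r * (τ q * q⁻¹) * r⁻¹ * (τ q * q⁻¹)⁻¹ =
          (τ r * r⁻¹)⁻¹ * (τ (r * q) * (r * q)⁻¹) * (τ q * q⁻¹)⁻¹ := by
        rw [map_mul]
        group
      rw [e]
      exact N.mul_mem (N.mul_mem (N.inv_mem (hgen r)) (hgen (r * q))) (N.inv_mem (hgen q))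
    rw [hbot, Subgroup.mem_bot] at hmem
    calc r * (τ q * q⁻¹)
        = (r * (τ q * q⁻¹) * r⁻¹ * (τ q * q⁻¹)⁻¹) * ((τ q * q⁻¹) * r) := by group
      _ = (τ q * q⁻¹) * r := by rw [hmem, one_mul]
  obtain ⟨q, hq⟩ := hne
  apply hq
  have h1 : τ q * q⁻¹ ∈ N ⊓ Subgroup.center P := Subgroup.mem_inf.mpr ⟨hgen q, hcen q⟩
  rw [hbot, Subgroup.mem_bot] at h1
  calc τ q = (τ q * q⁻¹) * q := by group
    _ = q := by rw [h1, one_mul]

end

theorem exists_comm_of_hom {P : Type*} [Group P] [Finite P]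
    (hc : commutator P = Subgroup.center P) (hZ : Nat.card (Subgroup.center P) = 2)
    (f : P →* ℂˣ) : ∃ a : P, ∀ q, f q = 1 ↔ a * q * a⁻¹ * q⁻¹ = 1 := by
  classical
  have hconj : ∀ a q : P, (MulAut.conj a) q * q⁻¹ ∈ Subgroup.center P := by
    intro a q
    rw [← hc, MulAut.conj_apply]
    have := Subgroup.commutator_mem_commutator (Subgroup.mem_top a) (Subgroup.mem_top q)
    rw [commutatorElement_def] at this
    exact this
  have hU : Nat.card ℤˣ = 2 := by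
    rw [Nat.card_eq_fintype_card]
    rfl
  let e : Subgroup.center P ≃* ℤˣ := mulEquivOfPrimeCardEq (p := 2) hZ hU
  let ι : Subgroup.center P →* ℂˣ :=
    (Units.map (Int.castRingHom ℂ).toMonoidHom).comp e.toMonoidHom
  have hι : Function.Injective ι := by
    intro x y hxy
    apply e.injective
    have hinj : Function.Injective (Units.map (Int.castRingHom ℂ).toMonoidHom) :=
      Units.map_injective (fun a b h => by
        have h' : ((a : ℤ) : ℂ) = ((b : ℤ) : ℂ) := h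
        exact_mod_cast h')
    exact hinj hxy
  let Ψ : P →* (P →* ℂˣ) :=
    { toFun := fun a => ι.comp (cHom (MulAut.conj a) (hconj a))
      map_one' := by
        apply MonoidHom.ext
        intro q
        show ι (cHom (MulAut.conj (1 : P)) (hconj 1) q) = 1
        have h1 : cHom (MulAut.conj (1 : P)) (hconj 1) q = 1 := by
          apply Subtype.ext
          rw [cHom_coe]
          simp
        rw [h1, map_one]
      map_mul' := by
        intro a b
        apply MonoidHom.ext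
        intro q
        show ι (cHom (MulAut.conj (a * b)) (hconj (a * b)) q) =
          ι (cHom (MulAut.conj a) (hconj a) q) * ι (cHom (MulAut.conj b) (hconj b) q)
        have h1 : cHom (MulAut.conj (a * b)) (hconj (a * b)) q =
            cHom (MulAut.conj a) (hconj a) q * cHom (MulAut.conj b) (hconj b) q := by
          apply Subtype.ext
          rw [Subgroup.coe_mul, cHom_coe, cHom_coe, cHom_coe]
          have hz := Subgroup.mem_center_iff.mp (hconj b q)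
          simp only [MulAut.conj_apply] at hz ⊢
          calc a * b * q * (a * b)⁻¹ * q⁻¹
              = a * (b * q * b⁻¹ * q⁻¹) * (q * a⁻¹ * q⁻¹) := by group
            _ = (b * q * b⁻¹ * q⁻¹) * a * (q * a⁻¹ * q⁻¹) := by rw [hz a]
            _ = (b * q * b⁻¹ * q⁻¹) * (a * q * a⁻¹ * q⁻¹) := by group
            _ = a * q * a⁻¹ * q⁻¹ * (b * q * b⁻¹ * q⁻¹) := by rw [hz (a * q * a⁻¹ * q⁻¹)]
        rw [h1, map_mul] }
  have hΨ : ∀ a q, Ψ a q = ι (cHom (MulAut.conj a) (hconj a) q) := fun _ _ => rfl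
  have hker : Ψ.ker = Subgroup.center P := by
    ext a
    rw [MonoidHom.mem_ker, Subgroup.mem_center_iff]
    constructor
    · intro h g
      have h1 : (Ψ a) g = 1 := by rw [h]; rfl
      rw [hΨ] at h1
      have h2 : ι (cHom (MulAut.conj a) (hconj a) g) = ι 1 := by rw [map_one]; exact h1
      have h3 := congrArg Subtype.val (hι h2)
      have h4 : a * g * a⁻¹ * g⁻¹ = 1 := h3
      calc g * a = (a * g * a⁻¹ * g⁻¹)⁻¹ * (a * g) := by group
        _ = a * g := by rw [h4, inv_one, one_mul]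
    · intro h
      apply MonoidHom.ext
      intro g
      rw [hΨ]
      have h1 : cHom (MulAut.conj a) (hconj a) g = 1 := by
        apply Subtype.ext
        rw [cHom_coe, MulAut.conj_apply, ← h g]
        simp
      rw [h1, map_one]
      rfl
  have hexp : NeZero ((Monoid.exponent (Abelianization P) : ℕ) : ℂ) :=
    ⟨Nat.cast_ne_zero.mpr Monoid.exponent_ne_zero_of_finite⟩
  have hcard1 : Nat.card (P →* ℂˣ) = (Subgroup.center P).index := by
    rw [Nat.card_congr (Abelianization.lift (G := P) (A := ℂˣ)),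
      CommGroup.card_monoidHom_of_hasEnoughRootsOfUnity (Abelianization P) ℂ, ← hc]
    rfl
  have hcard2 : Nat.card Ψ.range = (Subgroup.center P).index := by
    rw [← Subgroup.index_ker, hker]
  have hfin : Finite (P →* ℂˣ) := Nat.finite_of_card_ne_zero (by
    rw [hcard1]
    exact Subgroup.index_ne_zero_of_finite)
  have htop : Ψ.range = ⊤ := Subgroup.eq_top_of_card_eq _ (hcard2.trans hcard1.symm)
  have hmem : f ∈ Ψ.range := by
    rw [htop]
    exact Subgroup.mem_top _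
  obtain ⟨a, ha⟩ := hmem
  refine ⟨a, fun q => ?_⟩
  have h1 : ι (cHom (MulAut.conj a) (hconj a) q) = f q := DFunLike.congr_fun ha q
  rw [← h1]
  constructor
  · intro h
    have h2 : ι (cHom (MulAut.conj a) (hconj a) q) = ι 1 := by rw [map_one]; exact h
    exact congrArg Subtype.val (hι h2)
  · intro h
    have h3 : cHom (MulAut.conj a) (hconj a) q = 1 := Subtype.ext h
    rw [h3, map_one]

theorem double_centralizer_le {P : Type*} [Group P] [Finite P]
    (hc : commutator P = Subgroup.center P) (hZ : Nat.card (Subgroup.center P) = 2)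
    (M : Subgroup P) (hZM : Subgroup.center P ≤ M) :
    Subgroup.centralizer (Subgroup.centralizer (M : Set P) : Set P) ≤ M := by
  intro x hx
  have hexp : NeZero ((Monoid.exponent (Abelianization P) : ℕ) : ℂ) :=
    ⟨Nat.cast_ne_zero.mpr Monoid.exponent_ne_zero_of_finite⟩
  have key : Abelianization.of x ∈ M.map Abelianization.of := by
    apply (CommGroup.forall_monoidHom_apply_eq_one_iff (M := ℂ) (M.map Abelianization.of)
      (Abelianization.of x)).mp
    intro φ hφ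
    obtain ⟨a, ha⟩ := exists_comm_of_hom hc hZ (φ.comp Abelianization.of)
    have haM : a ∈ Subgroup.centralizer (M : Set P) := by
      rw [Subgroup.mem_centralizer_iff]
      intro m hm
      have h1 : φ (Abelianization.of m) = 1 := hφ _ (Subgroup.mem_map_of_mem _ hm)
      have h2 : a * m * a⁻¹ * m⁻¹ = 1 := (ha m).mp h1
      calc m * a = (a * m * a⁻¹ * m⁻¹)⁻¹ * (a * m) := by group
        _ = a * m := by rw [h2, inv_one, one_mul]
    have h3 : a * x = x * a := Subgroup.mem_centralizer_iff.mp hx a haM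
    have h4 : a * x * a⁻¹ * x⁻¹ = 1 := by
      rw [h3]
      group
    exact (ha x).mpr h4
  obtain ⟨m, hm, hmx⟩ := Subgroup.mem_map.mp key
  have h5 : m⁻¹ * x ∈ commutator P := by
    rw [← Abelianization.ker_of, MonoidHom.mem_ker, map_mul, map_inv, hmx, inv_mul_cancel]
  rw [hc] at h5
  have h6 : x = m * (m⁻¹ * x) := by group
  rw [h6]
  exact M.mul_mem hm (hZM h5)

theorem comm_closure_eq {P : Type*} [Group P] [Finite P]
    (hc : commutator P = Subgroup.center P) (hZ : Nat.card (Subgroup.center P) = 2)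
    (τ : MulAut P) (hτ2 : ∀ q, τ (τ q) = q) (hne : ∃ q, τ q ≠ q)
    (P₀ : Subgroup P) (hP₀ : ∀ q, q ∈ P₀ ↔ τ q * q⁻¹ ∈ Subgroup.center P) :
    Subgroup.closure (Set.range fun q : P => τ q * q⁻¹) =
      P₀ ⊓ Subgroup.centralizer (P₀ : Set P) := by
  have hcomm : ∀ a b : P, a * b * a⁻¹ * b⁻¹ ∈ Subgroup.center P := by
    intro a b
    rw [← hc]
    have := Subgroup.commutator_mem_commutator (Subgroup.mem_top a) (Subgroup.mem_top b)
    rw [commutatorElement_def] at this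
    exact this
  apply le_antisymm (comm_closure_le hcomm hZ τ hτ2 P₀ hP₀)
  have hZN := center_le_comm_closure hcomm hZ τ hne
  have hCN : Subgroup.centralizer
      (Subgroup.closure (Set.range fun q : P => τ q * q⁻¹) : Set P) ≤ P₀ := by
    intro x hx
    rw [hP₀, Subgroup.mem_center_iff]
    intro q
    have hk := comm_key hcomm hZ τ hτ2 q x
    have h1 : (τ q * q⁻¹) * x = x * (τ q * q⁻¹) :=
      Subgroup.mem_centralizer_iff.mp hx _ (Subgroup.subset_closure ⟨q, rfl⟩)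
    have h2 : (τ q * q⁻¹) * x * (τ q * q⁻¹)⁻¹ * x⁻¹ = 1 := by
      rw [h1]
      group
    rw [h2] at hk
    calc q * (τ x * x⁻¹)
        = (q * (τ x * x⁻¹) * q⁻¹ * (τ x * x⁻¹)⁻¹) * ((τ x * x⁻¹) * q) := by group
      _ = (τ x * x⁻¹) * q := by rw [← hk, one_mul]
  calc P₀ ⊓ Subgroup.centralizer (P₀ : Set P) ≤ Subgroup.centralizer (P₀ : Set P) := inf_le_right
    _ ≤ Subgroup.centralizer (Subgroup.centralizer
          (Subgroup.closure (Set.range fun q : P => τ q * q⁻¹) : Set P) : Set P) :=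
        Subgroup.centralizer_le (SetLike.coe_subset_coe.mpr hCN)
    _ ≤ Subgroup.closure (Set.range fun q : P => τ q * q⁻¹) :=
        double_centralizer_le hc hZ _ hZN

theorem comm_closure_map {P G : Type*} [Group P] [Finite P] [Group G] (j : P →* G)
    (hj : Function.Injective j)
    (hc : commutator P = Subgroup.center P) (hZ : Nat.card (Subgroup.center P) = 2)
    (τ : MulAut P) (hτ2 : ∀ q, τ (τ q) = q) (hne : ∃ q, τ q ≠ q)
    (α : G) (hα : ∀ y, j (τ y) = α * j y * α⁻¹)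
    (Q Z Q₀ : Subgroup G) (hQ : ∀ x, x ∈ Q ↔ ∃ y, j y = x)
    (hZj : ∀ y, j y ∈ Z ↔ y ∈ Subgroup.center P)
    (hQ₀ : ∀ q : G, q ∈ Q₀ ↔ (q ∈ Q ∧ α * q * α⁻¹ * q⁻¹ ∈ Z)) :
    Subgroup.closure ((fun q : G => α * q * α⁻¹ * q⁻¹) '' (Q : Set G)) =
      (Subgroup.center ↥Q₀).map Q₀.subtype := by
  have hjc : ∀ y, j (τ y * y⁻¹) = α * j y * α⁻¹ * (j y)⁻¹ := by
    intro y
    rw [map_mul, map_inv, hα]
  have himg : (fun q : G => α * q * α⁻¹ * q⁻¹) '' (Q : Set G) =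
      j '' (Set.range fun q : P => τ q * q⁻¹) := by
    ext x
    constructor
    · rintro ⟨q, hq, rfl⟩
      obtain ⟨y, rfl⟩ := (hQ q).mp hq
      exact ⟨τ y * y⁻¹, ⟨y, rfl⟩, hjc y⟩
    · rintro ⟨_, ⟨y, rfl⟩, rfl⟩
      exact ⟨j y, (hQ _).mpr ⟨y, rfl⟩, (hjc y).symm⟩
  have hP₀ : ∀ q, q ∈ Q₀.comap j ↔ τ q * q⁻¹ ∈ Subgroup.center P := by
    intro q
    rw [Subgroup.mem_comap, hQ₀, ← hjc, hZj]
    constructor
    · exact fun h => h.2
    · exact fun h => ⟨(hQ _).mpr ⟨q, rfl⟩, h⟩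
  rw [himg, ← MonoidHom.map_closure, comm_closure_eq hc hZ τ hτ2 hne (Q₀.comap j) hP₀]
  ext x
  rw [Subgroup.mem_map, Subgroup.mem_map]
  constructor
  · rintro ⟨y, hy, rfl⟩
    rw [Subgroup.mem_inf, Subgroup.mem_comap, Subgroup.mem_centralizer_iff] at hy
    obtain ⟨hy1, hy2⟩ := hy
    refine ⟨⟨j y, hy1⟩, ?_, rfl⟩
    rw [Subgroup.mem_center_iff]
    intro g
    apply Subtype.ext
    obtain ⟨g', hg'⟩ := (hQ g).mp ((hQ₀ g).mp g.2).1
    have hg'' : g' ∈ (↑(Q₀.comap j) : Set P) := by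
      show j g' ∈ Q₀
      rw [hg']
      exact g.2
    have h := hy2 g' hg''
    show (g : G) * j y = j y * (g : G)
    rw [← hg', ← map_mul, ← map_mul, h]
  · rintro ⟨⟨x, hx⟩, hxc, rfl⟩
    obtain ⟨y, hy⟩ := (hQ x).mp ((hQ₀ x).mp hx).1
    refine ⟨y, ?_, hy⟩
    rw [Subgroup.mem_inf, Subgroup.mem_comap, Subgroup.mem_centralizer_iff]
    refine ⟨by rw [hy]; exact hx, ?_⟩
    intro h hh
    have hh' : j h ∈ Q₀ := hh
    have h1 := Subgroup.mem_center_iff.mp hxc ⟨j h, hh'⟩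
    have h2 : j h * x = x * j h := congrArg Subtype.val h1
    apply hj
    rw [map_mul, map_mul, hy]
    exact h2

theorem mem_zpowers_two {G : Type*} [Group G] {z x : G} (hz : orderOf z = 2)
    (hx : x ∈ Subgroup.zpowers z) : x = 1 ∨ x = z := by
  obtain ⟨k, rfl⟩ := Subgroup.mem_zpowers_iff.mp hx
  have h := zpow_mod_orderOf z k
  rw [hz] at h
  have h2 : k % ((2 : ℕ) : ℤ) = 0 ∨ k % ((2 : ℕ) : ℤ) = 1 := by omega
  rcases h2 with h2 | h2
  · left
    rw [← h, h2, zpow_zero]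
  · right
    rw [← h, h2, zpow_one]

end Cfsg.Agent.Helper11
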