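import Mathlib
import Cfsg.Agent.Helper11.Extra2

set_option autoImplicit false

namespace Cfsg.Agent.Helper11

theorem comm_iff_commutator_one {G : Type*} [Group G] (e x : G) :
    x * e = e * x ↔ e * x * e⁻¹ * x⁻¹ = 1 := by
  constructor
  · intro h
    calc e * x * e⁻¹ * x⁻¹ = (x * e) * e⁻¹ * x⁻¹ := by rw [h]
      _ = 1 := by group
  · intro h
    calc x * e = (e * x * e⁻¹ * x⁻¹)⁻¹ * (e * x) := by group
      _ = e * x := by rw [h, inv_one, one_mul]

theorem commutator_mem_center_of {E : Type*} [Group E] (hc : commutator E = Subgroup.center E) :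
    ∀ a b : E, a * b * a⁻¹ * b⁻¹ ∈ Subgroup.center E := by
  intro a b
  rw [← hc]
  have h := Subgroup.commutator_mem_commutator (Subgroup.mem_top a) (Subgroup.mem_top b)
  rw [commutatorElement_def] at h
  exact h

/-- In a group with central commutators and centre of order 2, the elements of a subgroup `B`
commuting with a given element `e` form a subgroup of index 2 unless `e` centralizes `B`. -/
theorem card_inf_centralizer_half {E : Type*} [Group E]
    (hcomm : ∀ a b : E, a * b * a⁻¹ * b⁻¹ ∈ Subgroup.center E)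
    (hZ : Nat.card (Subgroup.center E) = 2) (B : Subgroup E) (e : E)
    (h : ∃ b₀ ∈ B, b₀ * e ≠ e * b₀) :
    Nat.card ↥(B ⊓ Subgroup.centralizer ({e} : Set E)) * 2 = Nat.card ↥B := by
  obtain ⟨b₀, hb₀, hne⟩ := h
  have hc0 : e * b₀ * e⁻¹ * b₀⁻¹ ≠ 1 := fun h1 => hne ((comm_iff_commutator_one e b₀).mpr h1)
  have hmemK : ∀ x : E, x ∈ B ⊓ Subgroup.centralizer ({e} : Set E) ↔
      (x ∈ B ∧ e * x * e⁻¹ * x⁻¹ = 1) := by
    intro x
    rw [Subgroup.mem_inf, Subgroup.mem_centralizer_singleton_iff, comm_iff_commutator_one]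
  have hrel : (B ⊓ Subgroup.centralizer ({e} : Set E)).relIndex B = 2 := by
    rw [Subgroup.relIndex_eq_two_iff]
    refine ⟨b₀, hb₀, ?_⟩
    intro b hb
    have hmul := bcomm_mul_right hcomm e b b₀
    by_cases hb1 : e * b * e⁻¹ * b⁻¹ = 1
    · refine Or.inr ⟨(hmemK b).mpr ⟨hb, hb1⟩, ?_⟩
      intro hcon
      have h2 := ((hmemK _).mp hcon).2
      rw [hmul, hb1, one_mul] at h2
      exact hc0 h2
    · refine Or.inl ⟨(hmemK _).mpr ⟨B.mul_mem hb hb₀, ?_⟩,
        fun hcon => hb1 ((hmemK b).mp hcon).2⟩
      rw [hmul, center_eq_of_ne_one hZ (hcomm e b) (hcomm e b₀) hb1 hc0]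
      exact center_sq_eq_one hZ (hcomm e b₀)
  have h1 := Subgroup.relIndex_mul_relIndex (H := (⊥ : Subgroup E))
    (K := B ⊓ Subgroup.centralizer ({e} : Set E)) (L := B) bot_le inf_le_left
  rw [Subgroup.relIndex_bot_left, Subgroup.relIndex_bot_left, hrel] at h1
  exact h1

theorem card_subtype_eq_filter {E : Type*} [Fintype E] (p q : E → Prop) [DecidablePred q]
    (h : ∀ x, p x ↔ q x) : Nat.card {x : E // p x} = (Finset.univ.filter q).card := by
  rw [← Fintype.card_subtype q, ← Nat.card_eq_fintype_card]
  exact Nat.card_congr (Equiv.subtypeEquivRight h)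

theorem card_filter_mem {E : Type*} [Group E] [Fintype E] (H : Subgroup E) (p : E → Prop)
    [DecidablePred p] (hp : ∀ x, p x ↔ x ∈ H) :
    (Finset.univ.filter p).card = Nat.card ↥H :=
  (card_subtype_eq_filter (fun x => x ∈ H) p (fun x => (hp x).symm)).symm

/-- `|B| * |C(B)| = 2 * |E|` for every subgroup `B` containing the centre. -/
theorem card_mul_card_centralizer {E : Type*} [Group E] [Finite E]
    (hcomm : ∀ a b : E, a * b * a⁻¹ * b⁻¹ ∈ Subgroup.center E)
    (hZ : Nat.card (Subgroup.center E) = 2) (B : Subgroup E) (hZB : Subgroup.center E ≤ B) :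
    Nat.card ↥B * Nat.card ↥(Subgroup.centralizer (B : Set E)) = 2 * Nat.card E := by
  classical
  haveI := Fintype.ofFinite E
  have hEc : (Finset.univ : Finset E).card = Nat.card E := by
    rw [Finset.card_univ, Nat.card_eq_fintype_card]
  have hBc : (Finset.univ.filter (fun x : E => x ∈ B)).card = Nat.card ↥B :=
    card_filter_mem B _ (fun x => Iff.rfl)
  have hdc : ∑ e : E, ((Finset.univ.filter (fun x : E => x ∈ B)).filter
        (fun b => b * e = e * b)).card
      = ∑ b ∈ Finset.univ.filter (fun x : E => x ∈ B),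
          (Finset.univ.filter (fun e : E => b * e = e * b)).card := by
    simp_rw [Finset.card_filter]
    exact Finset.sum_comm
  have hL : ∀ e : E, ((Finset.univ.filter (fun x : E => x ∈ B)).filter
        (fun b => b * e = e * b)).card * 2
      = Nat.card ↥B + (if e ∈ Subgroup.centralizer (B : Set E) then Nat.card ↥B else 0) := by
    intro e
    have h1 : ((Finset.univ.filter (fun x : E => x ∈ B)).filter (fun b => b * e = e * b)).card
        = Nat.card ↥(B ⊓ Subgroup.centralizer ({e} : Set E)) := by
      rw [Finset.filter_filter]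
      exact card_filter_mem _ _ (fun x => by
        rw [Subgroup.mem_inf, Subgroup.mem_centralizer_singleton_iff])
    rw [h1]
    by_cases he : e ∈ Subgroup.centralizer (B : Set E)
    · rw [if_pos he]
      have h2 : B ⊓ Subgroup.centralizer ({e} : Set E) = B := by
        apply inf_eq_left.mpr
        intro b hb
        rw [Subgroup.mem_centralizer_singleton_iff]
        exact Subgroup.mem_centralizer_iff.mp he b hb
      rw [h2]
      ring
    · rw [if_neg he, add_zero]
      apply card_inf_centralizer_half hcomm hZ B e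
      by_contra hcon
      apply he
      rw [Subgroup.mem_centralizer_iff]
      intro b hb
      by_contra hne
      exact hcon ⟨b, hb, hne⟩
  have hLsum : (∑ e : E, ((Finset.univ.filter (fun x : E => x ∈ B)).filter
        (fun b => b * e = e * b)).card) * 2
      = Nat.card E * Nat.card ↥B
        + Nat.card ↥(Subgroup.centralizer (B : Set E)) * Nat.card ↥B := by
    rw [Finset.sum_mul, Finset.sum_congr rfl (fun e _ => hL e), Finset.sum_add_distrib,
      Finset.sum_const, smul_eq_mul, hEc, ← Finset.sum_filter, Finset.sum_const, smul_eq_mul,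
      card_filter_mem (Subgroup.centralizer (B : Set E)) _ (fun x => Iff.rfl)]
  have hR : ∀ b ∈ Finset.univ.filter (fun x : E => x ∈ B),
      (Finset.univ.filter (fun e : E => b * e = e * b)).card * 2
      = Nat.card E + (if b ∈ Subgroup.center E then Nat.card E else 0) := by
    intro b _
    have h1 : (Finset.univ.filter (fun e : E => b * e = e * b)).card
        = Nat.card ↥(Subgroup.centralizer ({b} : Set E)) :=
      card_filter_mem _ _ (fun x => by
        rw [Subgroup.mem_centralizer_singleton_iff]
        exact eq_comm)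
    rw [h1]
    by_cases hb : b ∈ Subgroup.center E
    · rw [if_pos hb]
      have h2 : Subgroup.centralizer ({b} : Set E) = ⊤ := by
        rw [eq_top_iff]
        intro x _
        rw [Subgroup.mem_centralizer_singleton_iff]
        exact Subgroup.mem_center_iff.mp hb x
      rw [h2, Subgroup.card_top]
      ring
    · rw [if_neg hb, add_zero]
      have h3 := card_inf_centralizer_half hcomm hZ ⊤ b (by
        by_contra hcon
        apply hb
        rw [Subgroup.mem_center_iff]
        intro g
        by_contra hne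
        exact hcon ⟨g, Subgroup.mem_top g, hne⟩)
      rw [top_inf_eq, Subgroup.card_top] at h3
      exact h3
  have hRsum : (∑ b ∈ Finset.univ.filter (fun x : E => x ∈ B),
        (Finset.univ.filter (fun e : E => b * e = e * b)).card) * 2
      = Nat.card ↥B * Nat.card E + 2 * Nat.card E := by
    rw [Finset.sum_mul, Finset.sum_congr rfl hR, Finset.sum_add_distrib, Finset.sum_const,
      smul_eq_mul, hBc, ← Finset.sum_filter, Finset.sum_const, smul_eq_mul, Finset.filter_filter,
      card_filter_mem (Subgroup.center E) _ (fun x => ⟨fun h => h.2, fun h => ⟨hZB h, h⟩⟩), hZ]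
  rw [hdc] at hLsum
  have hfin := hLsum.symm.trans hRsum
  linarith

theorem nat_sq_bound {b c P : ℕ} (h : b * c = P * P) (hbc : b ≤ c) : b ≤ P := by
  by_contra hcon
  have h1 : P < b := Nat.lt_of_not_le hcon
  have h2 : P * P < b * b := Nat.mul_lt_mul'' h1 h1
  have h3 : b * b ≤ b * c := Nat.mul_le_mul_left b hbc
  omega

/-- An abelian subgroup of order `2 ^ (m + 1)` of an extraspecial-like group of order
`2 ^ (2 * m + 1)` contains the centre and is self-centralizing. -/
theorem extra_centralizer_eq {E : Type*} [Group E] [Finite E] (m : ℕ)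
    (hcomm : ∀ a b : E, a * b * a⁻¹ * b⁻¹ ∈ Subgroup.center E)
    (hZ : Nat.card (Subgroup.center E) = 2)
    (hcard : Nat.card E = 2 ^ (2 * m + 1)) (A : Subgroup E) (hAc : IsMulCommutative ↥A)
    (hAcard : Nat.card ↥A = 2 ^ (m + 1)) :
    Subgroup.center E ≤ A ∧ Subgroup.centralizer (A : Set E) = A := by
  have hAle : A ≤ Subgroup.centralizer (A : Set E) :=
    Subgroup.le_centralizer_iff_isMulCommutative.mpr hAc
  have hpow : 2 * 2 ^ (2 * m + 1) = 2 ^ (m + 1) * 2 ^ (m + 1) := by ring
  have hBle : A ⊔ Subgroup.center E ≤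
      Subgroup.centralizer ((A ⊔ Subgroup.center E : Subgroup E) : Set E) := by
    apply sup_le
    · rw [Subgroup.le_centralizer_iff]
      exact sup_le hAle (Subgroup.center_le_centralizer _)
    · exact Subgroup.center_le_centralizer _
  have hB := card_mul_card_centralizer hcomm hZ (A ⊔ Subgroup.center E) le_sup_right
  rw [hcard, hpow] at hB
  have hB2 : Nat.card ↥(A ⊔ Subgroup.center E) ≤ 2 ^ (m + 1) :=
    nat_sq_bound hB (Subgroup.card_le_of_le hBle)
  have hAB : A = A ⊔ Subgroup.center E :=
    Subgroup.eq_of_le_of_card_ge le_sup_left (by rw [hAcard]; exact hB2)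
  have hZA : Subgroup.center E ≤ A := by
    calc Subgroup.center E ≤ A ⊔ Subgroup.center E := le_sup_right
      _ = A := hAB.symm
  refine ⟨hZA, ?_⟩
  have hA := card_mul_card_centralizer hcomm hZ A hZA
  rw [hcard, hpow, hAcard] at hA
  have hCc : Nat.card ↥(Subgroup.centralizer (A : Set E)) = 2 ^ (m + 1) :=
    Nat.eq_of_mul_eq_mul_left (by positivity) hA
  exact (Subgroup.eq_of_le_of_card_ge hAle (by rw [hCc, hAcard])).symm

theorem sq_mul_eq_one_iff {E : Type*} [Group E]
    (hcomm : ∀ a b : E, a * b * a⁻¹ * b⁻¹ ∈ Subgroup.center E)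
    (hZ : Nat.card (Subgroup.center E) = 2) (x a : E) (ha : a * a = 1) :
    (x * a) * (x * a) = 1 ↔ (x * x = 1 ↔ a * x = x * a) := by
  have hc := hcomm a x
  have hcc := Subgroup.mem_center_iff.mp hc
  have key : (x * a) * (x * a) = (a * x * a⁻¹ * x⁻¹) * (x * x) := by
    calc (x * a) * (x * a) = x * (a * x * a⁻¹ * x⁻¹) * x * (a * a) := by group
      _ = (a * x * a⁻¹ * x⁻¹) * x * x * (a * a) := by rw [hcc x]
      _ = (a * x * a⁻¹ * x⁻¹) * (x * x) * (a * a) := by group
      _ = (a * x * a⁻¹ * x⁻¹) * (x * x) := by rw [ha, mul_one]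
  by_cases hax : a * x = x * a
  · have hc1 : a * x * a⁻¹ * x⁻¹ = 1 := by
      calc a * x * a⁻¹ * x⁻¹ = (x * a) * a⁻¹ * x⁻¹ := by rw [hax]
        _ = 1 := by group
    rw [key, hc1, one_mul]
    exact ⟨fun h => ⟨fun _ => hax, fun _ => h⟩, fun h => h.mpr hax⟩
  · have hc1 : a * x * a⁻¹ * x⁻¹ ≠ 1 := by
      intro h
      apply hax
      calc a * x = (a * x * a⁻¹ * x⁻¹) * (x * a) := by group
        _ = x * a := by rw [h, one_mul]
    rw [key]
    constructor
    · intro h
      constructor
      · intro hxx
        exfalso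
        rw [hxx, mul_one] at h
        exact hc1 h
      · intro h'
        exact absurd h' hax
    · intro h
      have hxx : x * x ≠ 1 := fun h' => hax (h.mp h')
      have heq : a * x * a⁻¹ * x⁻¹ = x * x :=
        center_eq_of_ne_one hZ hc (sq_mem_center hcomm hZ x) hc1 hxx
      rw [heq]
      exact center_sq_eq_one hZ (sq_mem_center hcomm hZ x)

theorem orderOf_eq_four_iff {E : Type*} [Group E] (x : E) (h4 : (x * x) * (x * x) = 1) :
    orderOf x = 4 ↔ ¬ (x * x = 1) := by
  haveI : Fact (Nat.Prime 2) := ⟨Nat.prime_two⟩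
  constructor
  · intro h hxx
    have h1 : orderOf x ∣ 2 := orderOf_dvd_of_pow_eq_one (by rw [pow_two]; exact hxx)
    have h2 := Nat.le_of_dvd (by norm_num) h1
    omega
  · intro hxx
    have h1 : ¬ x ^ 2 ^ 1 = 1 := by
      rw [pow_one, pow_two]; exact hxx
    have h2 : x ^ 2 ^ (1 + 1) = 1 := by
      have e : (2 : ℕ) ^ (1 + 1) = 2 + 2 := by norm_num
      rw [e, pow_add, pow_two]; exact h4
    exact (orderOf_eq_prime_pow h1 h2).trans (by norm_num)

/-- The number of elements of order 4 in an extraspecial 2-group of order `2 ^ (2 * m + 1)`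
containing an elementary abelian subgroup of order `2 ^ (m + 1)`. -/
theorem extra_count_order4 {E : Type*} [Group E] [Finite E] (m : ℕ)
    (hc : commutator E = Subgroup.center E) (hZ : Nat.card (Subgroup.center E) = 2)
    (hcard : Nat.card E = 2 ^ (2 * m + 1)) (A : Subgroup E) (hAc : IsMulCommutative ↥A)
    (hA2 : ∀ a ∈ A, a ^ 2 = 1) (hAcard : Nat.card ↥A = 2 ^ (m + 1)) :
    Nat.card {x : E // orderOf x = 4} = 2 ^ (2 * m) - 2 ^ m := by
  classical
  haveI := Fintype.ofFinite E
  have hcomm := commutator_mem_center_of hc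
  obtain ⟨hZA, hCA⟩ := extra_centralizer_eq m hcomm hZ hcard A hAc hAcard
  have hEc : (Finset.univ : Finset E).card = Nat.card E := by
    rw [Finset.card_univ, Nat.card_eq_fintype_card]
  have hAfc : (Finset.univ.filter (fun x : E => x ∈ A)).card = Nat.card ↥A :=
    card_filter_mem A _ (fun x => Iff.rfl)
  have hAsq : ∀ a ∈ A, a * a = 1 := fun a ha => by rw [← pow_two]; exact hA2 a ha
  have hsqc : ∀ x : E, x * x ∈ Subgroup.center E := fun x => sq_mem_center hcomm hZ x
  have hx4 : ∀ x : E, (x * x) * (x * x) = 1 := fun x => center_sq_eq_one hZ (hsqc x)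
  have hcnt : ∀ x : E, ((Finset.univ.filter (fun a : E => a ∈ A)).filter
        (fun a => (x * a) * (x * a) = 1)).card * 2
      = Nat.card ↥A + (if x ∈ A then Nat.card ↥A else 0) := by
    intro x
    by_cases hx : x ∈ A
    · rw [if_pos hx, Finset.filter_true_of_mem, hAfc]
      · ring
      · intro a ha
        exact hAsq _ (A.mul_mem hx (Finset.mem_filter.mp ha).2)
    · rw [if_neg hx, add_zero]
      have hex : ∃ a₀ ∈ A, a₀ * x ≠ x * a₀ := by
        by_contra hcon
        apply hx
        rw [← hCA, Subgroup.mem_centralizer_iff]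
        intro a ha
        by_contra hne
        exact hcon ⟨a, ha, hne⟩
      have hhalf := card_inf_centralizer_half hcomm hZ A x hex
      have hc1 : ((Finset.univ.filter (fun a : E => a ∈ A)).filter
          (fun a => a * x = x * a)).card
          = Nat.card ↥(A ⊓ Subgroup.centralizer ({x} : Set E)) := by
        rw [Finset.filter_filter]
        exact card_filter_mem _ _ (fun y => by
          rw [Subgroup.mem_inf, Subgroup.mem_centralizer_singleton_iff])
      have hc2 := Finset.card_filter_add_card_filter_not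
        (s := Finset.univ.filter (fun a : E => a ∈ A)) (fun a => a * x = x * a)
      rw [hc1, hAfc] at hc2
      by_cases hxx : x * x = 1
      · have hfl : (Finset.univ.filter (fun a : E => a ∈ A)).filter
              (fun a => (x * a) * (x * a) = 1)
            = (Finset.univ.filter (fun a : E => a ∈ A)).filter (fun a => a * x = x * a) := by
          apply Finset.filter_congr
          intro a ha
          rw [sq_mul_eq_one_iff hcomm hZ x a (hAsq a (Finset.mem_filter.mp ha).2)]
          exact ⟨fun h => h.mp hxx, fun h => ⟨fun _ => h, fun _ => hxx⟩⟩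
        rw [hfl, hc1]
        exact hhalf
      · have hfl : (Finset.univ.filter (fun a : E => a ∈ A)).filter
              (fun a => (x * a) * (x * a) = 1)
            = (Finset.univ.filter (fun a : E => a ∈ A)).filter
              (fun a => ¬ (a * x = x * a)) := by
          apply Finset.filter_congr
          intro a ha
          rw [sq_mul_eq_one_iff hcomm hZ x a (hAsq a (Finset.mem_filter.mp ha).2)]
          exact ⟨fun h hax => hxx (h.mpr hax),
            fun h => ⟨fun h' => absurd h' hxx, fun h' => absurd h' h⟩⟩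
        rw [hfl]
        omega
  have hdc : ∑ x : E, ((Finset.univ.filter (fun a : E => a ∈ A)).filter
        (fun a => (x * a) * (x * a) = 1)).card
      = ∑ a ∈ Finset.univ.filter (fun a : E => a ∈ A),
          (Finset.univ.filter (fun x : E => (x * a) * (x * a) = 1)).card := by
    simp_rw [Finset.card_filter]
    exact Finset.sum_comm
  have hbij : ∀ a : E, (Finset.univ.filter (fun x : E => (x * a) * (x * a) = 1)).card
      = (Finset.univ.filter (fun y : E => y * y = 1)).card := by
    intro a
    apply Finset.card_nbij' (fun x => x * a) (fun y => y * a⁻¹)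
    · intro x hx
      simp only [Finset.mem_coe, Finset.mem_filter, Finset.mem_univ, true_and] at hx ⊢
      exact hx
    · intro y hy
      simp only [Finset.mem_coe, Finset.mem_filter, Finset.mem_univ, true_and] at hy ⊢
      rw [inv_mul_cancel_right]
      exact hy
    · intro x _
      exact mul_inv_cancel_right x a
    · intro y _
      exact inv_mul_cancel_right y a
  have hsum1 : (∑ x : E, ((Finset.univ.filter (fun a : E => a ∈ A)).filter
        (fun a => (x * a) * (x * a) = 1)).card) * 2
      = Nat.card E * Nat.card ↥A + Nat.card ↥A * Nat.card ↥A := by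
    rw [Finset.sum_mul, Finset.sum_congr rfl (fun x _ => hcnt x), Finset.sum_add_distrib,
      Finset.sum_const, smul_eq_mul, hEc, ← Finset.sum_filter, Finset.sum_const, smul_eq_mul,
      hAfc]
  have hsum2 : ∑ a ∈ Finset.univ.filter (fun a : E => a ∈ A),
        (Finset.univ.filter (fun x : E => (x * a) * (x * a) = 1)).card
      = Nat.card ↥A * (Finset.univ.filter (fun y : E => y * y = 1)).card := by
    rw [Finset.sum_congr rfl (fun a _ => hbij a), Finset.sum_const, smul_eq_mul, hAfc]
  rw [hdc, hsum2] at hsum1
  have hApos : 0 < Nat.card ↥A := by rw [hAcard]; positivity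
  have hN2 : (Finset.univ.filter (fun y : E => y * y = 1)).card * 2
      = Nat.card E + Nat.card ↥A := by
    apply Nat.eq_of_mul_eq_mul_left hApos
    linarith
  rw [card_subtype_eq_filter (fun x : E => orderOf x = 4) (fun y : E => ¬ (y * y = 1))
    (fun x => orderOf_eq_four_iff x (hx4 x))]
  have hsplit := Finset.card_filter_add_card_filter_not (s := (Finset.univ : Finset E))
    (fun y : E => y * y = 1)
  rw [hEc, hcard] at hsplit
  rw [hcard, hAcard] at hN2
  have e1 : 2 ^ (2 * m + 1) = 2 * 2 ^ (2 * m) := by ring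
  have e2 : 2 ^ (m + 1) = 2 * 2 ^ m := by ring
  rw [e1] at hsplit
  rw [e1, e2] at hN2
  omega

end Cfsg.Agent.Helper11
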