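import Mathlib
import Cfsg.Agent.Helper17.LinDLs

namespace Cfsg.Agent.Helper11

open Module

universe u v

/-- in a field, distinct exponents below the order give distinct powers -/
theorem fd_pow_ne {L : Type*} [Field L] (a : L) (ha : a ≠ 0) (i j : ℕ) (hij : i < j)
    (hj : j < orderOf a) : a ^ i ≠ a ^ j := by
  intro h
  have h1 : a ^ j = a ^ i * a ^ (j - i) := by
    rw [← pow_add]
    congr 1
    omega
  rw [h1] at h
  have h2 : a ^ (j - i) = 1 := by
    have h3 : a ^ i * 1 = a ^ i * a ^ (j - i) := by
      rw [mul_one]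
      exact h
    exact (mul_left_cancel₀ (pow_ne_zero i ha) h3).symm
  have h4 := orderOf_dvd_of_pow_eq_one h2
  have h5 := Nat.le_of_dvd (by omega) h4
  omega

/-- Frobenius twists of a nontrivial `p`-power root of unity are distinct -/
theorem fd_frob_ne {K : Type*} [Field K] (p : ℕ) [Fact p.Prime] (q : ℕ) (hpq : ¬ p ∣ q)
    (μ : K) (k : ℕ) (hμ : μ ^ (p ^ k) = 1) (hμ1 : μ ≠ 1) (i j : ℕ) (hij : i < j)
    (hj : j < orderOf (q : ZMod p)) : μ ^ (q ^ i) ≠ μ ^ (q ^ j) := by
  intro h
  have hp : p.Prime := Fact.out
  have hμ0 : μ ≠ 0 := by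
    intro h0
    rw [h0, zero_pow (pow_ne_zero k hp.ne_zero)] at hμ
    exact zero_ne_one hμ
  have hq0 : 0 < q := by
    rcases Nat.eq_zero_or_pos q with h0 | h0
    · exact absurd (h0 ▸ dvd_zero p) hpq
    · exact h0
  have hle : q ^ i ≤ q ^ j := Nat.pow_le_pow_right hq0 hij.le
  have h1 : μ ^ (q ^ j) = μ ^ (q ^ i) * μ ^ (q ^ j - q ^ i) := by
    rw [← pow_add]
    congr 1
    omega
  have h2 : μ ^ (q ^ j - q ^ i) = 1 := by
    have h3 : μ ^ (q ^ i) * 1 = μ ^ (q ^ i) * μ ^ (q ^ j - q ^ i) := by
      rw [mul_one, ← h1]
      exact h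
    exact (mul_left_cancel₀ (pow_ne_zero _ hμ0) h3).symm
  have h4 : orderOf μ ∣ q ^ j - q ^ i := orderOf_dvd_of_pow_eq_one h2
  have h5 : orderOf μ ∣ p ^ k := orderOf_dvd_of_pow_eq_one hμ
  obtain ⟨m, hm, hom⟩ := (Nat.dvd_prime_pow hp).mp h5
  have hm0 : m ≠ 0 := by
    intro h0
    rw [h0, pow_zero] at hom
    exact hμ1 (orderOf_eq_one_iff.mp hom)
  have h6 : p ∣ q ^ j - q ^ i := dvd_trans (hom ▸ dvd_pow_self p hm0) h4
  have h7 : ((q ^ j - q ^ i : ℕ) : ZMod p) = 0 := (ZMod.natCast_eq_zero_iff _ _).mpr h6
  rw [Nat.cast_sub hle, sub_eq_zero, Nat.cast_pow, Nat.cast_pow] at h7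
  have hq : (q : ZMod p) ≠ 0 := by
    intro h0
    exact hpq ((ZMod.natCast_eq_zero_iff _ _).mp h0)
  exact fd_pow_ne (q : ZMod p) hq i j hij hj h7.symm

/-- Frobenius count: a subspace of the `μ`-eigenspace of a matrix defined over the finite
field `F` has dimension at most `n / e`. -/
theorem fd_count {F : Type u} [Field F] [Fintype F] (p : ℕ) [Fact p.Prime]
    (hpq : ¬ p ∣ Fintype.card F) (n : ℕ)
    (M : Matrix (Fin n) (Fin n) F)
    (U : Submodule (AlgebraicClosure F) (Fin n → AlgebraicClosure F))
    (μ : AlgebraicClosure F) (k : ℕ) (hμ : μ ^ (p ^ k) = 1) (hμ1 : μ ≠ 1)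
    (hU : ∀ u ∈ U, (M.map (algebraMap F (AlgebraicClosure F))).mulVec u = μ • u) :
    orderOf (Fintype.card F : ZMod p) * finrank (AlgebraicClosure F) U ≤ n := by
  classical
  have hq0 : 0 < Fintype.card F := Fintype.card_pos
  have hτ : ∀ (i : ℕ) (x : AlgebraicClosure F),
      ((FiniteField.frobeniusAlgHom F (AlgebraicClosure F)) ^ i) x = x ^ (Fintype.card F ^ i) := by
    intro i x
    rw [AlgHom.coe_pow, FiniteField.coe_frobeniusAlgHom, pow_iterate]
  have hτsurj : ∀ i : ℕ, Function.Surjective
      ((FiniteField.frobeniusAlgHom F (AlgebraicClosure F)) ^ i) := by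
    intro i x
    obtain ⟨z, hz⟩ := IsAlgClosed.exists_pow_nat_eq x (pow_pos hq0 i : 0 < Fintype.card F ^ i)
    exact ⟨z, by rw [hτ, hz]⟩
  let φ : ℕ → ((Fin n → AlgebraicClosure F) →+ (Fin n → AlgebraicClosure F)) := fun i =>
    { toFun := fun v l => ((FiniteField.frobeniusAlgHom F (AlgebraicClosure F)) ^ i) (v l)
      map_zero' := by
        ext l
        simp
      map_add' := by
        intro a b
        ext l
        simp }
  have hφapp : ∀ i v l, φ i v l = ((FiniteField.frobeniusAlgHom F (AlgebraicClosure F)) ^ i) (v l) :=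
    fun i v l => rfl
  have hφsmul : ∀ (i : ℕ) (c : AlgebraicClosure F) (v : Fin n → AlgebraicClosure F),
      φ i (c • v) = ((FiniteField.frobeniusAlgHom F (AlgebraicClosure F)) ^ i) c • φ i v := by
    intro i c v
    ext l
    rw [hφapp, Pi.smul_apply, Pi.smul_apply, hφapp, smul_eq_mul, smul_eq_mul, map_mul]
  have hφinj : ∀ (i : ℕ) (v : Fin n → AlgebraicClosure F), φ i v = 0 → v = 0 := by
    intro i v h
    ext l
    have h1 := congrFun h l
    rw [hφapp, Pi.zero_apply, hτ] at h1
    exact pow_eq_zero_iff (pow_pos hq0 i).ne' |>.mp h1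
  have hφM : ∀ (i : ℕ) (v : Fin n → AlgebraicClosure F),
      (M.map (algebraMap F (AlgebraicClosure F))).mulVec (φ i v)
        = φ i ((M.map (algebraMap F (AlgebraicClosure F))).mulVec v) := by
    intro i v
    ext l
    rw [hφapp]
    simp only [Matrix.mulVec, dotProduct, Matrix.map_apply, map_sum, map_mul, AlgHom.commutes,
      hφapp]
  have hb : LinearIndependent (AlgebraicClosure F)
      (fun j : Fin (finrank (AlgebraicClosure F) U) =>
        ((Module.finBasis (AlgebraicClosure F) U j : U) : Fin n → AlgebraicClosure F)) :=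
    (Module.finBasis (AlgebraicClosure F) U).linearIndependent.map' U.subtype U.ker_subtype
  have hc : LinearIndependent (AlgebraicClosure F)
      (fun x : Fin (orderOf (Fintype.card F : ZMod p)) × Fin (finrank (AlgebraicClosure F) U) =>
        φ x.1 ((Module.finBasis (AlgebraicClosure F) U x.2 : U) : Fin n → AlgebraicClosure F)) := by
    rw [Fintype.linearIndependent_iff]
    intro g hg x
    rw [Fintype.sum_prod_type] at hg
    have hweig : ∀ i : Fin (orderOf (Fintype.card F : ZMod p)),
        (∑ j, g (i, j) • φ i ((Module.finBasis (AlgebraicClosure F) U j : U) :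
            Fin n → AlgebraicClosure F)) ∈
          Module.End.eigenspace (Matrix.toLin' (M.map (algebraMap F (AlgebraicClosure F))))
            (μ ^ (Fintype.card F ^ (i : ℕ))) := by
      intro i
      rw [Module.End.mem_eigenspace_iff, Matrix.toLin'_apply, Matrix.mulVec_sum, Finset.smul_sum]
      refine Finset.sum_congr rfl fun j _ => ?_
      rw [Matrix.mulVec_smul, hφM, hU _ (Module.finBasis (AlgebraicClosure F) U j).2, hφsmul, hτ,
        smul_comm]
    have hinj : Function.Injective (fun i : Fin (orderOf (Fintype.card F : ZMod p)) =>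
        μ ^ (Fintype.card F ^ (i : ℕ))) := by
      intro i j hij
      by_contra hne
      rcases lt_or_gt_of_ne (fun h => hne (Fin.ext h) : (i : ℕ) ≠ j) with h | h
      · exact fd_frob_ne p _ hpq μ k hμ hμ1 i j h j.2 hij
      · exact fd_frob_ne p _ hpq μ k hμ hμ1 j i h i.2 hij.symm
    have hind := (Module.End.eigenspaces_iSupIndep
      (Matrix.toLin' (M.map (algebraMap F (AlgebraicClosure F))))).comp hinj
    have hw0 := (iSupIndep_iff_finsetSum_eq_zero_imp_eq_zero _).mp hind Finset.univ
      (fun i => ∑ j, g (i, j) • φ i ((Module.finBasis (AlgebraicClosure F) U j : U) :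
            Fin n → AlgebraicClosure F)) (fun i _ => hweig i) hg x.1 (Finset.mem_univ _)
    have hli : LinearIndependent (AlgebraicClosure F)
        (fun j : Fin (finrank (AlgebraicClosure F) U) =>
          φ x.1 ((Module.finBasis (AlgebraicClosure F) U j : U) : Fin n → AlgebraicClosure F)) :=
      hb.map_of_surjective_injective _ (φ x.1) (hτsurj x.1) (hφinj x.1) (hφsmul x.1)
    exact Fintype.linearIndependent_iff.mp hli (fun j => g (x.1, j)) hw0 x.2
  have h := hc.fintype_card_le_finrank
  rw [Fintype.card_prod, Fintype.card_fin, Fintype.card_fin, finrank_fin_fun] at h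
  exact h

/-- a `p`-subgroup-type hom into `GL_n(F)`, `F` finite of order prime to `p`: the derived series
term `log₂ (n / e) + 1` acts trivially, `e` the order of `|F|` modulo `p`. -/
theorem fd_main {F : Type u} [Field F] [Fintype F] (p : ℕ) [Fact p.Prime]
    (hpq : ¬ p ∣ Fintype.card F) (n : ℕ) {P : Type v} [Group P] [Finite P] (hP : IsPGroup p P)
    (ρ : P →* Matrix.GeneralLinearGroup (Fin n) F) :
    derivedSeries P (Nat.log 2 (n / orderOf (Fintype.card F : ZMod p)) + 1) ≤ ρ.ker := by
  classical
  have hp : p.Prime := Fact.out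
  let ρ' : P →* Module.End (AlgebraicClosure F) (Fin n → AlgebraicClosure F) :=
    { toFun := fun g => Matrix.toLin'
        ((ρ g : Matrix (Fin n) (Fin n) F).map (algebraMap F (AlgebraicClosure F)))
      map_one' := by
        simp
        rfl
      map_mul' := by
        intro a b
        simp [Matrix.map_mul, Matrix.toLin'_mul]
        rfl }
  have hρ'app : ∀ (g : P) (w : Fin n → AlgebraicClosure F), ρ' g w =
      ((ρ g : Matrix (Fin n) (Fin n) F).map (algebraMap F (AlgebraicClosure F))).mulVec w :=
    fun g w => rfl
  have hker : ∀ x : P, ρ' x = 1 → ρ x = 1 := by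
    intro x hx
    apply Units.ext
    have h1 : (ρ x : Matrix (Fin n) (Fin n) F).map (algebraMap F (AlgebraicClosure F))
        = (1 : Matrix (Fin n) (Fin n) F).map (algebraMap F (AlgebraicClosure F)) := by
      apply Matrix.toLin'.injective
      have h2 : Matrix.toLin' ((1 : Matrix (Fin n) (Fin n) F).map
          (algebraMap F (AlgebraicClosure F))) = 1 := by
        simp
        rfl
      rw [h2]
      exact hx
    exact Matrix.map_injective (algebraMap F (AlgebraicClosure F)).injective h1
  have hpK : (p : AlgebraicClosure F) ≠ 0 := by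
    intro h
    have h1 : (p : F) = 0 := by
      apply (algebraMap F (AlgebraicClosure F)).injective
      rw [map_natCast, h, map_zero]
    obtain ⟨r, hr⟩ := CharP.exists F
    have hdvd : r ∣ p := (CharP.cast_eq_zero_iff F r p).mp h1
    have hr1 : r ≠ 1 := CharP.char_ne_one F r
    have hrp : r = p := ((Nat.dvd_prime hp).mp hdvd).resolve_left hr1
    obtain ⟨m, -, hm⟩ := FiniteField.card F r
    apply hpq
    rw [hm, hrp]
    exact dvd_pow_self p m.ne_zero
  have he0 : 0 < orderOf (Fintype.card F : ZMod p) := by
    rw [orderOf_pos_iff, isOfFinOrder_iff_pow_eq_one]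
    refine ⟨p - 1, Nat.sub_pos_of_lt hp.one_lt, ?_⟩
    apply ZMod.pow_card_sub_one_eq_one
    intro h0
    exact hpq ((ZMod.natCast_eq_zero_iff _ _).mp h0)
  have key : ∀ d : ℕ, ∀ U : Submodule (AlgebraicClosure F) (Fin n → AlgebraicClosure F),
      finrank (AlgebraicClosure F) U = d → (∀ g : P, ∀ w ∈ U, ρ' g w ∈ U) →
      ∀ x ∈ derivedSeries P (Nat.log 2 (n / orderOf (Fintype.card F : ZMod p)) + 1),
      ∀ w ∈ U, ρ' x w = w := by
    intro d
    induction d using Nat.strong_induction_on with
    | _ d ih =>
      intro U hd hU x hx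
      have htriv : Helper17.ldRestr ρ' U hU x = 1 → ∀ w ∈ U, ρ' x w = w := by
        intro h1 w hw
        have h2 := Helper17.ldRestr_apply ρ' U hU x ⟨w, hw⟩
        rw [h1] at h2
        exact h2.symm
      by_cases hN : ∀ g : P, Helper17.ldRestr ρ' U hU g = 1
      · exact htriv (hN x)
      · push Not at hN
        obtain ⟨g₀, hg₀⟩ := hN
        obtain ⟨z, hz1, hzc⟩ : ∃ z : P, Helper17.ldRestr ρ' U hU z ≠ 1 ∧
            ∀ g : P, Helper17.ldRestr ρ' U hU g * Helper17.ldRestr ρ' U hU z
              = Helper17.ldRestr ρ' U hU z * Helper17.ldRestr ρ' U hU g := by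
          have hψ := QuotientGroup.kerLift_injective (Helper17.ldRestr ρ' U hU).toHomUnits
          have hQ : IsPGroup p (P ⧸ (Helper17.ldRestr ρ' U hU).toHomUnits.ker) := hP.to_quotient _
          have : Nontrivial (P ⧸ (Helper17.ldRestr ρ' U hU).toHomUnits.ker) := by
            refine ⟨⟨(g₀ : P ⧸ (Helper17.ldRestr ρ' U hU).toHomUnits.ker), 1, ?_⟩⟩
            intro h
            rw [QuotientGroup.eq_one_iff, MonoidHom.mem_ker] at h
            apply hg₀
            have h3 := congrArg Units.val h
            simpa using h3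
          have := IsPGroup.center_nontrivial hQ
          obtain ⟨⟨zbar, hzbar⟩, hne⟩ := exists_ne
            (1 : Subgroup.center (P ⧸ (Helper17.ldRestr ρ' U hU).toHomUnits.ker))
          obtain ⟨z, rfl⟩ := QuotientGroup.mk_surjective zbar
          refine ⟨z, ?_, ?_⟩
          · intro h
            apply hne
            apply Subtype.ext
            show (z : P ⧸ (Helper17.ldRestr ρ' U hU).toHomUnits.ker) = 1
            rw [QuotientGroup.eq_one_iff, MonoidHom.mem_ker]
            apply Units.ext
            simpa using h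
          · intro g
            have h1 := Subgroup.mem_center_iff.mp hzbar
              (g : P ⧸ (Helper17.ldRestr ρ' U hU).toHomUnits.ker)
            have h2 : ((g * z : P) : P ⧸ (Helper17.ldRestr ρ' U hU).toHomUnits.ker)
                = ((z * g : P) : P ⧸ (Helper17.ldRestr ρ' U hU).toHomUnits.ker) := by
              rw [QuotientGroup.mk_mul, QuotientGroup.mk_mul, h1]
            have h3 := congrArg (QuotientGroup.kerLift (Helper17.ldRestr ρ' U hU).toHomUnits) h2
            rw [QuotientGroup.kerLift_mk, QuotientGroup.kerLift_mk] at h3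
            have h4 := congrArg Units.val h3
            simpa using h4
        have hcomm : ∀ (g : P) (u : Fin n → AlgebraicClosure F), u ∈ U →
            ρ' z (ρ' g u) = ρ' g (ρ' z u) := by
          intro g u hu
          have h1 := congrArg (fun f : Module.End (AlgebraicClosure F) U =>
            ((f ⟨u, hu⟩ : U) : Fin n → AlgebraicClosure F)) (hzc g)
          exact h1.symm
        by_cases hsc : ∃ μ : AlgebraicClosure F, ∀ u ∈ U, ρ' z u = μ • u
        · obtain ⟨μ, hμ⟩ := hsc
          obtain ⟨k, hk⟩ := hP z
          obtain ⟨u₀, hu₀⟩ : ∃ u₀ : U, Helper17.ldRestr ρ' U hU z u₀ ≠ u₀ := by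
            by_contra hcon
            push Not at hcon
            apply hz1
            ext u
            rw [hcon u]
            rfl
          have hu₀' : μ • (u₀ : Fin n → AlgebraicClosure F) ≠ u₀ := by
            intro h
            apply hu₀
            apply Subtype.ext
            rw [Helper17.ldRestr_apply, hμ _ u₀.2, h]
          have hμ1 : μ ≠ 1 := by
            intro h
            apply hu₀'
            rw [h, one_smul]
          have hu₀0 : (u₀ : Fin n → AlgebraicClosure F) ≠ 0 := by
            intro h
            apply hu₀'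
            rw [h, smul_zero]
          have hpow : ∀ m : ℕ, ∀ u ∈ U, ρ' (z ^ m) u = μ ^ m • u := by
            intro m
            induction m with
            | zero =>
              intro u _
              rw [pow_zero, pow_zero, map_one, one_smul]
              rfl
            | succ m ihm =>
              intro u hu
              rw [pow_succ, map_mul, Module.End.mul_apply, hμ u hu, map_smul, ihm u hu, smul_smul,
                pow_succ, mul_comm]
          have hμk : μ ^ (p ^ k) = 1 := by
            have h1 := hpow (p ^ k) _ u₀.2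
            rw [hk, map_one] at h1
            have h2 : (μ ^ (p ^ k) - 1) • (u₀ : Fin n → AlgebraicClosure F) = 0 := by
              rw [sub_smul, one_smul, ← h1]
              exact sub_self _
            rcases smul_eq_zero.mp h2 with h3 | h3
            · exact sub_eq_zero.mp h3
            · exact absurd h3 hu₀0
          have hcount := fd_count p hpq n (ρ z : Matrix (Fin n) (Fin n) F) U μ k hμk hμ1
            (fun u hu => by rw [← hρ'app, hμ u hu])
          rw [hd] at hcount
          have hdle : d ≤ n / orderOf (Fintype.card F : ZMod p) := by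
            rw [Nat.le_div_iff_mul_le he0, mul_comm]
            exact hcount
          have hss := Helper17.ld_semisimple p hpK d U hd P hP (Helper17.ldRestr ρ' U hU)
          have hx' : x ∈ derivedSeries P (Nat.log 2 d + 1) :=
            derivedSeries_antitone P (Nat.succ_le_succ (Nat.log_mono_right hdle)) hx
          have hx1 := hss hx'
          rw [MonoidHom.mem_ker] at hx1
          exact htriv hx1
        · push Not at hsc
          have hE : ∀ μ : AlgebraicClosure F, ∀ w ∈ U ⊓ (ρ' z).eigenspace μ, ρ' x w = w := by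
            intro μ
            have hlt : U ⊓ (ρ' z).eigenspace μ < U := by
              refine lt_of_le_of_ne inf_le_left ?_
              intro heq
              obtain ⟨u, hu, hne⟩ := hsc μ
              apply hne
              have h1 : u ∈ U ⊓ (ρ' z).eigenspace μ := by
                rw [heq]
                exact hu
              exact Module.End.mem_eigenspace_iff.mp (Submodule.mem_inf.mp h1).2
            have hfin : finrank (AlgebraicClosure F) ↥(U ⊓ (ρ' z).eigenspace μ) < d := by
              rw [← hd]
              exact Submodule.finrank_lt_finrank_of_lt hlt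
            refine ih _ hfin (U ⊓ (ρ' z).eigenspace μ) rfl ?_ x hx
            intro g w hw
            have hw1 := (Submodule.mem_inf.mp hw).1
            have hw2 := (Submodule.mem_inf.mp hw).2
            refine Submodule.mem_inf.mpr ⟨hU g w hw1, ?_⟩
            rw [Module.End.mem_eigenspace_iff, hcomm g w hw1,
              Module.End.mem_eigenspace_iff.mp hw2, map_smul]
          apply htriv
          apply Helper17.ld_eq_one_of_iSup
            (fun μ => (Helper17.ldRestr ρ' U hU z).eigenspace μ)
            (Helper17.ld_isSemisimple p hpK hP (Helper17.ldRestr ρ' U hU) z).iSup_eigenspace_eq_top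
          intro μ u hu
          apply Subtype.ext
          rw [Helper17.ldRestr_apply]
          apply hE μ
          refine Submodule.mem_inf.mpr ⟨u.2, ?_⟩
          rw [Module.End.mem_eigenspace_iff, ← Helper17.ldRestr_apply ρ' U hU z u,
            Module.End.mem_eigenspace_iff.mp hu]
          rfl
  intro x hx
  rw [MonoidHom.mem_ker]
  apply hker
  apply LinearMap.ext
  intro w
  have h1 := key _ ⊤ rfl (fun _ _ _ => Submodule.mem_top) x hx w Submodule.mem_top
  rw [h1]
  rfl

end Cfsg.Agent.Helper11
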