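import Mathlib
import Cfsg.Agent.Helper17.LinDLs
import Cfsg.Agent.Helper18.PerfWr
import Cfsg.Agent.Helper11.FrobDL

namespace Cfsg.Agent.Helper11

open Module
open scoped commutatorElement

universe u v w

/-- eigen-count: `e` injective linear twists sending `U` into eigenspaces for distinct
eigenvalues force `e * dim U ≤ dim V`. -/
theorem fdp_eig_count {K : Type*} [Field K] {V : Type*} [AddCommGroup V] [Module K V]
    [FiniteDimensional K V] (T : Module.End K V) (U : Submodule K V) (e : ℕ) (μ : Fin e → K)
    (hμ : Function.Injective μ) (φ : Fin e → (V →ₗ[K] V)) (hφ : ∀ i, Function.Injective (φ i))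
    (hU : ∀ i, ∀ u ∈ U, φ i u ∈ T.eigenspace (μ i)) :
    e * finrank K U ≤ finrank K V := by
  classical
  have hb : LinearIndependent K (fun j : Fin (finrank K U) =>
      ((Module.finBasis K U j : U) : V)) :=
    (Module.finBasis K U).linearIndependent.map' U.subtype U.ker_subtype
  have hc : LinearIndependent K (fun x : Fin e × Fin (finrank K U) =>
      φ x.1 ((Module.finBasis K U x.2 : U) : V)) := by
    rw [Fintype.linearIndependent_iff]
    intro g hg x
    rw [Fintype.sum_prod_type] at hg
    have hweig : ∀ i : Fin e, (∑ j, g (i, j) • φ i ((Module.finBasis K U j : U) : V)) ∈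
        T.eigenspace (μ i) := by
      intro i
      refine Submodule.sum_mem _ fun j _ => Submodule.smul_mem _ _ ?_
      exact hU i _ (Module.finBasis K U j).2
    have hind := T.eigenspaces_iSupIndep.comp hμ
    have hw0 := (iSupIndep_iff_finsetSum_eq_zero_imp_eq_zero _).mp hind Finset.univ
      (fun i => ∑ j, g (i, j) • φ i ((Module.finBasis K U j : U) : V)) (fun i _ => hweig i) hg
      x.1 (Finset.mem_univ _)
    have hli : LinearIndependent K (fun j : Fin (finrank K U) =>
        φ x.1 ((Module.finBasis K U j : U) : V)) :=
      hb.map' (φ x.1) (LinearMap.ker_eq_bot.mpr (hφ x.1))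
    exact Fintype.linearIndependent_iff.mp hli (fun j => g (x.1, j)) hw0 x.2
  have h := hc.fintype_card_le_finrank
  rw [Fintype.card_prod, Fintype.card_fin, Fintype.card_fin] at h
  exact h

section semisimple

variable {K : Type u} [Field K]

theorem fdp_step (p : ℕ) [Fact p.Prime] [IsAlgClosed K] (hpK : (p : K) ≠ 0) (d : ℕ)
    (ih : ∀ m < d, ∀ (V : Type w) [AddCommGroup V] [Module K V] [FiniteDimensional K V],
      finrank K V = m → ∀ (P : Type v) [Group P] [Finite P], IsPGroup p P →
      ∀ ρ : P →* Module.End K V, derivedSeries P (Nat.log p m + 1) ≤ ρ.ker)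
    (V : Type w) [AddCommGroup V] [Module K V] [FiniteDimensional K V] (hd : finrank K V = d)
    (Q : Type v) [Group Q] [Finite Q] (hQ : IsPGroup p Q) (ρ : Q →* Module.End K V)
    (hρ : Function.Injective ρ) : derivedSeries Q (Nat.log p d + 1) = ⊥ := by
  by_cases hcomm : ∀ x y : Q, x * y = y * x
  · have h1 : derivedSeries Q 1 = ⊥ := by
      rw [derivedSeries_one, eq_bot_iff, commutator_def, Subgroup.commutator_le]
      intro x _ y _
      rw [Subgroup.mem_bot, commutatorElement_def, hcomm x y, mul_inv_cancel_right, mul_inv_cancel]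
    exact le_bot_iff.mp (h1 ▸ derivedSeries_antitone Q (Nat.succ_le_succ (Nat.zero_le _)))
  · push Not at hcomm
    obtain ⟨x₀, y₀, hxy⟩ := hcomm
    have hZtop : Subgroup.center Q ≠ ⊤ := by
      intro h
      have h1 : y₀ ∈ Subgroup.center Q := h ▸ Subgroup.mem_top y₀
      exact hxy (Subgroup.mem_center_iff.mp h1 x₀)
    obtain ⟨a, haZ, hac⟩ : ∃ a : Q, a ∉ Subgroup.center Q ∧
        ∀ g : Q, g * a * g⁻¹ * a⁻¹ ∈ Subgroup.center Q := by
      haveI : Nontrivial (Q ⧸ Subgroup.center Q) := by
        by_contra h
        rw [not_nontrivial_iff_subsingleton] at h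
        exact hZtop (QuotientGroup.subgroup_eq_top_of_subsingleton _ h)
      haveI := IsPGroup.center_nontrivial (hQ.to_quotient (Subgroup.center Q))
      obtain ⟨⟨abar, habar⟩, hne⟩ := exists_ne (1 : Subgroup.center (Q ⧸ Subgroup.center Q))
      obtain ⟨a, rfl⟩ := QuotientGroup.mk_surjective abar
      refine ⟨a, ?_, ?_⟩
      · intro ha
        apply hne
        apply Subtype.ext
        exact (QuotientGroup.eq_one_iff a).mpr ha
      · intro g
        rw [← QuotientGroup.eq_one_iff]
        have h1 := Subgroup.mem_center_iff.mp habar (g : Q ⧸ Subgroup.center Q)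
        simp only [QuotientGroup.mk_mul, QuotientGroup.mk_inv]
        rw [h1, mul_inv_cancel_right, mul_inv_cancel]
    have hss : ∀ x : Q, (ρ x).IsSemisimple := Helper17.ld_isSemisimple p hpK hQ ρ
    have hinv : ∀ (g : Q) (t : V), ρ g⁻¹ (ρ g t) = t := by
      intro g t
      rw [← Module.End.mul_apply, ← map_mul, inv_mul_cancel, map_one]
      rfl
    by_cases hsc : ∀ z ∈ Subgroup.center Q, ∃ c : K, ∀ t : V, ρ z t = c • t
    · -- every central element acts as a scalar
      let ψ : Q →* Subgroup.center Q :=
        { toFun := fun g => ⟨g * a * g⁻¹ * a⁻¹, hac g⟩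
          map_one' := by
            apply Subtype.ext
            simp
          map_mul' := by
            intro g h
            apply Subtype.ext
            have ht := Subgroup.mem_center_iff.mp (hac h)
            show g * h * a * (g * h)⁻¹ * a⁻¹ = g * a * g⁻¹ * a⁻¹ * (h * a * h⁻¹ * a⁻¹)
            calc g * h * a * (g * h)⁻¹ * a⁻¹
                = g * (h * a * h⁻¹ * a⁻¹) * (a * g⁻¹ * a⁻¹) := by group
              _ = (h * a * h⁻¹ * a⁻¹) * g * (a * g⁻¹ * a⁻¹) := by rw [ht g]
              _ = (h * a * h⁻¹ * a⁻¹) * (g * a * g⁻¹ * a⁻¹) := by group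
              _ = g * a * g⁻¹ * a⁻¹ * (h * a * h⁻¹ * a⁻¹) := (ht _).symm }
      have hQN : derivedSeries Q 1 ≤ Subgroup.centralizer {a} := by
        rw [derivedSeries_one, commutator_def, Subgroup.commutator_le]
        intro g _ h _
        rw [Subgroup.mem_centralizer_singleton_iff]
        have hcm : ψ g * ψ h = ψ h * ψ g :=
          Subtype.ext (Subgroup.mem_center_iff.mp (ψ h).2 (ψ g : Q))
        have h1 : ψ ⁅g, h⁆ = 1 := by
          rw [commutatorElement_def, map_mul, map_mul, map_mul, map_inv, map_inv,
            hcm, mul_inv_cancel_right, mul_inv_cancel]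
        have h2 : ⁅g, h⁆ * a * ⁅g, h⁆⁻¹ * a⁻¹ = 1 := congrArg Subtype.val h1
        have h3 := mul_inv_eq_one.mp h2
        exact mul_inv_eq_iff_eq_mul.mp h3
      have hNinv : ∀ lam : K, ∀ g : (Subgroup.centralizer {a} : Subgroup Q),
          ∀ t ∈ (ρ a).eigenspace lam,
            (ρ.comp (Subgroup.centralizer {a} : Subgroup Q).subtype) g t ∈ (ρ a).eigenspace lam := by
        intro lam g t ht
        rw [Module.End.mem_eigenspace_iff] at ht ⊢
        have hg := Subgroup.mem_centralizer_singleton_iff.mp g.2
        have hc : ρ a (ρ (g : Q) t) = ρ (g : Q) (ρ a t) := by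
          rw [← Module.End.mul_apply, ← Module.End.mul_apply, ← map_mul, ← map_mul, hg]
        show ρ a (ρ (g : Q) t) = lam • ρ (g : Q) t
        rw [hc, ht, map_smul]
      obtain ⟨h₀, hh₀⟩ : ∃ h : Q, h * a ≠ a * h := by
        by_contra hcon
        push Not at hcon
        exact haZ (Subgroup.mem_center_iff.mpr hcon)
      have hz₁Z : a * h₀ * a⁻¹ * h₀⁻¹ ∈ Subgroup.center Q := by
        have h1 := Subgroup.inv_mem _ (hac h₀)
        have e : (h₀ * a * h₀⁻¹ * a⁻¹)⁻¹ = a * h₀ * a⁻¹ * h₀⁻¹ := by group
        rwa [e] at h1
      have hz₁ne : a * h₀ * a⁻¹ * h₀⁻¹ ≠ 1 := by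
        intro h1
        apply hh₀
        have h2 := mul_inv_eq_one.mp h1
        have h3 := mul_inv_eq_iff_eq_mul.mp h2
        exact h3.symm
      obtain ⟨ζ, hζ⟩ := hsc _ hz₁Z
      have hrel : a * h₀ = (a * h₀ * a⁻¹ * h₀⁻¹) * h₀ * a := by group
      have hζ1 : ζ ≠ 1 := by
        intro h1
        apply hz₁ne
        apply hρ
        rw [map_one]
        ext t
        rw [hζ t, h1, one_smul]
        rfl
      have hmap : ∀ lam : K, ∀ t ∈ (ρ a).eigenspace lam, ρ h₀ t ∈ (ρ a).eigenspace (ζ * lam) := by
        intro lam t ht
        rw [Module.End.mem_eigenspace_iff] at ht ⊢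
        have h1 : ρ a (ρ h₀ t) = ρ (a * h₀ * a⁻¹ * h₀⁻¹) (ρ h₀ (ρ a t)) := by
          have e1 : ρ a (ρ h₀ t) = ρ (a * h₀) t := by rw [map_mul]; rfl
          have e2' : ∀ z' : Q, ρ z' (ρ h₀ (ρ a t)) = ρ (z' * h₀ * a) t := by
            intro z'
            rw [map_mul, map_mul]; rfl
          rw [e1, e2', ← hrel]
        rw [h1, hζ, ht, map_smul, smul_smul]
      have hp : p.Prime := Fact.out
      have hinjg : ∀ g : Q, Function.Injective (ρ g) :=
        fun g => Function.LeftInverse.injective (hinv g)
      have hdim : ∀ lam : K, p * finrank K ((ρ a).eigenspace lam) ≤ d := by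
        intro lam
        by_cases hbot : (ρ a).eigenspace lam = ⊥
        · rw [hbot, finrank_bot]
          omega
        · have hlam : lam ≠ 0 := by
            intro h0
            apply hbot
            rw [eq_bot_iff]
            intro t ht
            rw [Module.End.mem_eigenspace_iff, h0, zero_smul] at ht
            rw [Submodule.mem_bot, ← hinv a t, ht, map_zero]
          obtain ⟨t₀, -, ht₀⟩ := (Submodule.ne_bot_iff _).mp hbot
          obtain ⟨k, hk⟩ := hQ (a * h₀ * a⁻¹ * h₀⁻¹)
          have hpow : ∀ m : ℕ, ∀ t : V, ρ ((a * h₀ * a⁻¹ * h₀⁻¹) ^ m) t = ζ ^ m • t := by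
            intro m
            induction m with
            | zero =>
              intro t
              rw [pow_zero, pow_zero, map_one, one_smul]
              rfl
            | succ m ihm =>
              intro t
              rw [pow_succ, map_mul, Module.End.mul_apply, hζ t, map_smul, ihm t, smul_smul,
                pow_succ, mul_comm]
          have hζk : ζ ^ (p ^ k) = 1 := by
            have h1 := hpow (p ^ k) t₀
            rw [hk, map_one] at h1
            have h2 : (ζ ^ (p ^ k) - 1) • t₀ = 0 := by
              rw [sub_smul, one_smul, ← h1]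
              exact sub_self _
            rcases smul_eq_zero.mp h2 with h3 | h3
            · exact sub_eq_zero.mp h3
            · exact absurd h3 ht₀
          have hζ0 : ζ ≠ 0 := by
            intro h0
            rw [h0, zero_pow (pow_ne_zero k hp.ne_zero)] at hζk
            exact zero_ne_one hζk
          have hordp : p ≤ orderOf ζ := by
            have h5 : orderOf ζ ∣ p ^ k := orderOf_dvd_of_pow_eq_one hζk
            obtain ⟨m, hm, hom⟩ := (Nat.dvd_prime_pow hp).mp h5
            have hm0 : m ≠ 0 := by
              intro h0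
              rw [h0, pow_zero] at hom
              exact hζ1 (orderOf_eq_one_iff.mp hom)
            rw [hom]
            exact Nat.le_self_pow hm0 p
          have hinjμ : Function.Injective (fun i : Fin p => ζ ^ (i : ℕ) * lam) := by
            intro i j hij
            have hij' : ζ ^ (i : ℕ) = ζ ^ (j : ℕ) := mul_right_cancel₀ hlam hij
            by_contra hne
            rcases lt_or_gt_of_ne (fun h => hne (Fin.ext h) : (i : ℕ) ≠ j) with h | h
            · exact fd_pow_ne ζ hζ0 i j h (lt_of_lt_of_le j.2 hordp) hij'
            · exact fd_pow_ne ζ hζ0 j i h (lt_of_lt_of_le i.2 hordp) hij'.symm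
          have hiter : ∀ m : ℕ, ∀ t ∈ (ρ a).eigenspace lam,
              ρ (h₀ ^ m) t ∈ (ρ a).eigenspace (ζ ^ m * lam) := by
            intro m
            induction m with
            | zero =>
              intro t ht
              rw [pow_zero, pow_zero, map_one, one_mul]
              exact ht
            | succ m ihm =>
              intro t ht
              have h1 := hmap _ _ (ihm t ht)
              rw [pow_succ' h₀, map_mul, Module.End.mul_apply, pow_succ' ζ, mul_assoc]
              exact h1
          have hcount := fdp_eig_count (ρ a) ((ρ a).eigenspace lam) p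
            (fun i : Fin p => ζ ^ (i : ℕ) * lam) hinjμ (fun i : Fin p => ρ (h₀ ^ (i : ℕ)))
            (fun i => hinjg _) (fun i u hu => hiter i u hu)
          rw [hd] at hcount
          exact hcount
      have hpd : p ≤ d := by
        by_contra hlt
        have hall : ∀ lam : K, (ρ a).eigenspace lam = ⊥ := by
          intro lam
          have h1 := hdim lam
          have h0 : finrank K ((ρ a).eigenspace lam) = 0 := by
            by_contra hne
            have h2 : p ≤ p * finrank K ((ρ a).eigenspace lam) :=
              Nat.le_mul_of_pos_right p (Nat.pos_of_ne_zero hne)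
            omega
          exact Submodule.finrank_eq_zero.mp h0
        have htop := (hss a).iSup_eigenspace_eq_top
        simp only [hall, iSup_bot] at htop
        apply haZ
        have ha1 : a = 1 := by
          apply hρ
          ext t
          have ht : t ∈ (⊥ : Submodule K V) := htop ▸ Submodule.mem_top
          rw [Submodule.mem_bot] at ht
          rw [ht, map_zero, map_zero]
        rw [ha1]
        exact Subgroup.one_mem _
      have hN : derivedSeries (Subgroup.centralizer {a} : Subgroup Q) (Nat.log p d) = ⊥ := by
        rw [eq_bot_iff]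
        intro x hx
        have hx1 : ρ (x : Q) = 1 := by
          apply Helper17.ld_eq_one_of_iSup (fun lam => (ρ a).eigenspace lam) (hss a).iSup_eigenspace_eq_top
          intro lam t ht
          have h2 := hdim lam
          have h2' : 2 * finrank K ((ρ a).eigenspace lam) ≤ p * finrank K ((ρ a).eigenspace lam) :=
            Nat.mul_le_mul_right _ hp.two_le
          have hp2 : 2 ≤ p := hp.two_le
          have hlt : finrank K ((ρ a).eigenspace lam) < d := by omega
          have h1 := ih _ hlt ((ρ a).eigenspace lam) rfl (Subgroup.centralizer {a} : Subgroup Q)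
            (hQ.to_subgroup _)
            (Helper17.ldRestr (ρ.comp (Subgroup.centralizer {a} : Subgroup Q).subtype) _ (hNinv lam))
          have hlog : Nat.log p (finrank K ((ρ a).eigenspace lam)) + 1 ≤ Nat.log p d := by
            have h3 : Nat.log p (finrank K ((ρ a).eigenspace lam)) ≤ Nat.log p (d / p) :=
              Nat.log_mono_right ((Nat.le_div_iff_mul_le hp.pos).mpr (by rw [mul_comm]; exact h2))
            rw [Nat.log_div_base] at h3
            have h4 : 0 < Nat.log p d := Nat.log_pos hp.one_lt hpd
            omega
          exact Helper17.ldRestr_ker _ _ (hNinv lam) x (h1 (derivedSeries_antitone _ hlog hx)) t ht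
        rw [Subgroup.mem_bot]
        apply Subtype.ext
        apply hρ
        rw [hx1]
        simp
      have hfin := Helper17.ld_derived_succ_le (Subgroup.centralizer {a} : Subgroup Q) hQN (Nat.log p d)
      rw [hN, Subgroup.map_bot] at hfin
      exact le_bot_iff.mp hfin
    · push Not at hsc
      obtain ⟨z, hz, hzns⟩ := hsc
      rw [eq_bot_iff]
      intro x hx
      have hinvW : ∀ μ : K, ∀ g : Q, ∀ t ∈ (ρ z).eigenspace μ, ρ g t ∈ (ρ z).eigenspace μ := by
        intro μ g t ht
        rw [Module.End.mem_eigenspace_iff] at ht ⊢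
        have hc : ρ z (ρ g t) = ρ g (ρ z t) := by
          rw [← Module.End.mul_apply, ← Module.End.mul_apply, ← map_mul, ← map_mul,
            Subgroup.mem_center_iff.mp hz g]
        rw [hc, ht, map_smul]
      have hx1 : ρ x = 1 := by
        apply Helper17.ld_eq_one_of_iSup (fun μ => (ρ z).eigenspace μ) (hss z).iSup_eigenspace_eq_top
        intro μ t ht
        have hlt : finrank K ((ρ z).eigenspace μ) < d := by
          rw [← hd]
          apply Submodule.finrank_lt
          intro htop
          obtain ⟨s, hs⟩ := hzns μ
          exact hs (Module.End.mem_eigenspace_iff.mp (htop ▸ Submodule.mem_top))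
        have h1 := ih _ hlt ((ρ z).eigenspace μ) rfl Q hQ (Helper17.ldRestr ρ _ (hinvW μ))
        exact Helper17.ldRestr_ker _ _ (hinvW μ) x
          (h1 (derivedSeries_antitone Q (Nat.succ_le_succ (Nat.log_mono_right (le_of_lt hlt))) hx)) t ht
      exact Subgroup.mem_bot.mpr (hρ (by rw [hx1, map_one]))

theorem fdp_semisimple (p : ℕ) [Fact p.Prime] [IsAlgClosed K] (hpK : (p : K) ≠ 0) :
    ∀ (d : ℕ) (V : Type w) [AddCommGroup V] [Module K V] [FiniteDimensional K V],
      finrank K V = d → ∀ (P : Type v) [Group P] [Finite P], IsPGroup p P →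
      ∀ ρ : P →* Module.End K V, derivedSeries P (Nat.log p d + 1) ≤ ρ.ker := by
  intro d
  induction d using Nat.strong_induction_on with
  | _ d ih =>
    intro V _ _ _ hd P _ _ hP ρ
    have hρq : Function.Injective ((Units.coeHom (Module.End K V)).comp
        (QuotientGroup.kerLift ρ.toHomUnits)) := by
      intro x y hxy
      apply QuotientGroup.kerLift_injective ρ.toHomUnits
      exact Units.ext hxy
    have hQ : IsPGroup p (P ⧸ ρ.toHomUnits.ker) := hP.to_quotient _
    have h := fdp_step p hpK d ih V hd (P ⧸ ρ.toHomUnits.ker) hQ _ hρq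
    intro x hx
    have h1 : (QuotientGroup.mk' ρ.toHomUnits.ker) x ∈
        derivedSeries (P ⧸ ρ.toHomUnits.ker) (Nat.log p d + 1) :=
      map_derivedSeries_le_derivedSeries _ _ (Subgroup.mem_map_of_mem _ hx)
    rw [h, Subgroup.mem_bot] at h1
    have h2 : x ∈ ρ.toHomUnits.ker := (QuotientGroup.eq_one_iff x).mp h1
    rw [MonoidHom.mem_ker] at h2 ⊢
    have h3 := congrArg Units.val h2
    simpa using h3


end semisimple

/-- a `p`-subgroup-type hom into `GL_n(F)`, `F` finite of order prime to `p`: the derived series
term `log₂ (n / e) + 1` acts trivially, `e` the order of `|F|` modulo `p`. -/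
theorem fdp_main {F : Type u} [Field F] [Fintype F] (p : ℕ) [Fact p.Prime]
    (hpq : ¬ p ∣ Fintype.card F) (n : ℕ) {P : Type v} [Group P] [Finite P] (hP : IsPGroup p P)
    (ρ : P →* Matrix.GeneralLinearGroup (Fin n) F) :
    derivedSeries P (Nat.log p (n / orderOf (Fintype.card F : ZMod p)) + 1) ≤ ρ.ker := by
  classical
  have hp : p.Prime := Fact.out
  let ρ' : P →* Module.End (AlgebraicClosure F) (Fin n → AlgebraicClosure F) :=
    { toFun := fun g => Matrix.toLin'
        ((ρ g : Matrix (Fin n) (Fin n) F).map (algebraMap F (AlgebraicClosure F)))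
      map_one' := by
        simp
        rfl
      map_mul' := by
        intro a b
        simp [Matrix.map_mul, Matrix.toLin'_mul]
        rfl }
  have hρ'app : ∀ (g : P) (w : Fin n → AlgebraicClosure F), ρ' g w =
      ((ρ g : Matrix (Fin n) (Fin n) F).map (algebraMap F (AlgebraicClosure F))).mulVec w :=
    fun g w => rfl
  have hker : ∀ x : P, ρ' x = 1 → ρ x = 1 := by
    intro x hx
    apply Units.ext
    have h1 : (ρ x : Matrix (Fin n) (Fin n) F).map (algebraMap F (AlgebraicClosure F))
        = (1 : Matrix (Fin n) (Fin n) F).map (algebraMap F (AlgebraicClosure F)) := by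
      apply Matrix.toLin'.injective
      have h2 : Matrix.toLin' ((1 : Matrix (Fin n) (Fin n) F).map
          (algebraMap F (AlgebraicClosure F))) = 1 := by
        simp
        rfl
      rw [h2]
      exact hx
    exact Matrix.map_injective (algebraMap F (AlgebraicClosure F)).injective h1
  have hpK : (p : AlgebraicClosure F) ≠ 0 := by
    intro h
    have h1 : (p : F) = 0 := by
      apply (algebraMap F (AlgebraicClosure F)).injective
      rw [map_natCast, h, map_zero]
    obtain ⟨r, hr⟩ := CharP.exists F
    have hdvd : r ∣ p := (CharP.cast_eq_zero_iff F r p).mp h1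
    have hr1 : r ≠ 1 := CharP.char_ne_one F r
    have hrp : r = p := ((Nat.dvd_prime hp).mp hdvd).resolve_left hr1
    obtain ⟨m, -, hm⟩ := FiniteField.card F r
    apply hpq
    rw [hm, hrp]
    exact dvd_pow_self p m.ne_zero
  have he0 : 0 < orderOf (Fintype.card F : ZMod p) := by
    rw [orderOf_pos_iff, isOfFinOrder_iff_pow_eq_one]
    refine ⟨p - 1, Nat.sub_pos_of_lt hp.one_lt, ?_⟩
    apply ZMod.pow_card_sub_one_eq_one
    intro h0
    exact hpq ((ZMod.natCast_eq_zero_iff _ _).mp h0)
  have key : ∀ d : ℕ, ∀ U : Submodule (AlgebraicClosure F) (Fin n → AlgebraicClosure F),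
      finrank (AlgebraicClosure F) U = d → (∀ g : P, ∀ w ∈ U, ρ' g w ∈ U) →
      ∀ x ∈ derivedSeries P (Nat.log p (n / orderOf (Fintype.card F : ZMod p)) + 1),
      ∀ w ∈ U, ρ' x w = w := by
    intro d
    induction d using Nat.strong_induction_on with
    | _ d ih =>
      intro U hd hU x hx
      have htriv : Helper17.ldRestr ρ' U hU x = 1 → ∀ w ∈ U, ρ' x w = w := by
        intro h1 w hw
        have h2 := Helper17.ldRestr_apply ρ' U hU x ⟨w, hw⟩
        rw [h1] at h2
        exact h2.symm
      by_cases hN : ∀ g : P, Helper17.ldRestr ρ' U hU g = 1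
      · exact htriv (hN x)
      · push Not at hN
        obtain ⟨g₀, hg₀⟩ := hN
        obtain ⟨z, hz1, hzc⟩ : ∃ z : P, Helper17.ldRestr ρ' U hU z ≠ 1 ∧
            ∀ g : P, Helper17.ldRestr ρ' U hU g * Helper17.ldRestr ρ' U hU z
              = Helper17.ldRestr ρ' U hU z * Helper17.ldRestr ρ' U hU g := by
          have hψ := QuotientGroup.kerLift_injective (Helper17.ldRestr ρ' U hU).toHomUnits
          have hQ : IsPGroup p (P ⧸ (Helper17.ldRestr ρ' U hU).toHomUnits.ker) := hP.to_quotient _
          have : Nontrivial (P ⧸ (Helper17.ldRestr ρ' U hU).toHomUnits.ker) := by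
            refine ⟨⟨(g₀ : P ⧸ (Helper17.ldRestr ρ' U hU).toHomUnits.ker), 1, ?_⟩⟩
            intro h
            rw [QuotientGroup.eq_one_iff, MonoidHom.mem_ker] at h
            apply hg₀
            have h3 := congrArg Units.val h
            simpa using h3
          have := IsPGroup.center_nontrivial hQ
          obtain ⟨⟨zbar, hzbar⟩, hne⟩ := exists_ne
            (1 : Subgroup.center (P ⧸ (Helper17.ldRestr ρ' U hU).toHomUnits.ker))
          obtain ⟨z, rfl⟩ := QuotientGroup.mk_surjective zbar
          refine ⟨z, ?_, ?_⟩
          · intro h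
            apply hne
            apply Subtype.ext
            show (z : P ⧸ (Helper17.ldRestr ρ' U hU).toHomUnits.ker) = 1
            rw [QuotientGroup.eq_one_iff, MonoidHom.mem_ker]
            apply Units.ext
            simpa using h
          · intro g
            have h1 := Subgroup.mem_center_iff.mp hzbar
              (g : P ⧸ (Helper17.ldRestr ρ' U hU).toHomUnits.ker)
            have h2 : ((g * z : P) : P ⧸ (Helper17.ldRestr ρ' U hU).toHomUnits.ker)
                = ((z * g : P) : P ⧸ (Helper17.ldRestr ρ' U hU).toHomUnits.ker) := by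
              rw [QuotientGroup.mk_mul, QuotientGroup.mk_mul, h1]
            have h3 := congrArg (QuotientGroup.kerLift (Helper17.ldRestr ρ' U hU).toHomUnits) h2
            rw [QuotientGroup.kerLift_mk, QuotientGroup.kerLift_mk] at h3
            have h4 := congrArg Units.val h3
            simpa using h4
        have hcomm : ∀ (g : P) (u : Fin n → AlgebraicClosure F), u ∈ U →
            ρ' z (ρ' g u) = ρ' g (ρ' z u) := by
          intro g u hu
          have h1 := congrArg (fun f : Module.End (AlgebraicClosure F) U =>
            ((f ⟨u, hu⟩ : U) : Fin n → AlgebraicClosure F)) (hzc g)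
          exact h1.symm
        by_cases hsc : ∃ μ : AlgebraicClosure F, ∀ u ∈ U, ρ' z u = μ • u
        · obtain ⟨μ, hμ⟩ := hsc
          obtain ⟨k, hk⟩ := hP z
          obtain ⟨u₀, hu₀⟩ : ∃ u₀ : U, Helper17.ldRestr ρ' U hU z u₀ ≠ u₀ := by
            by_contra hcon
            push Not at hcon
            apply hz1
            ext u
            rw [hcon u]
            rfl
          have hu₀' : μ • (u₀ : Fin n → AlgebraicClosure F) ≠ u₀ := by
            intro h
            apply hu₀
            apply Subtype.ext
            rw [Helper17.ldRestr_apply, hμ _ u₀.2, h]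
          have hμ1 : μ ≠ 1 := by
            intro h
            apply hu₀'
            rw [h, one_smul]
          have hu₀0 : (u₀ : Fin n → AlgebraicClosure F) ≠ 0 := by
            intro h
            apply hu₀'
            rw [h, smul_zero]
          have hpow : ∀ m : ℕ, ∀ u ∈ U, ρ' (z ^ m) u = μ ^ m • u := by
            intro m
            induction m with
            | zero =>
              intro u _
              rw [pow_zero, pow_zero, map_one, one_smul]
              rfl
            | succ m ihm =>
              intro u hu
              rw [pow_succ, map_mul, Module.End.mul_apply, hμ u hu, map_smul, ihm u hu, smul_smul,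
                pow_succ, mul_comm]
          have hμk : μ ^ (p ^ k) = 1 := by
            have h1 := hpow (p ^ k) _ u₀.2
            rw [hk, map_one] at h1
            have h2 : (μ ^ (p ^ k) - 1) • (u₀ : Fin n → AlgebraicClosure F) = 0 := by
              rw [sub_smul, one_smul, ← h1]
              exact sub_self _
            rcases smul_eq_zero.mp h2 with h3 | h3
            · exact sub_eq_zero.mp h3
            · exact absurd h3 hu₀0
          have hcount := fd_count p hpq n (ρ z : Matrix (Fin n) (Fin n) F) U μ k hμk hμ1
            (fun u hu => by rw [← hρ'app, hμ u hu])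
          rw [hd] at hcount
          have hdle : d ≤ n / orderOf (Fintype.card F : ZMod p) := by
            rw [Nat.le_div_iff_mul_le he0, mul_comm]
            exact hcount
          have hss := fdp_semisimple p hpK d U hd P hP (Helper17.ldRestr ρ' U hU)
          have hx' : x ∈ derivedSeries P (Nat.log p d + 1) :=
            derivedSeries_antitone P (Nat.succ_le_succ (Nat.log_mono_right hdle)) hx
          have hx1 := hss hx'
          rw [MonoidHom.mem_ker] at hx1
          exact htriv hx1
        · push Not at hsc
          have hE : ∀ μ : AlgebraicClosure F, ∀ w ∈ U ⊓ (ρ' z).eigenspace μ, ρ' x w = w := by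
            intro μ
            have hlt : U ⊓ (ρ' z).eigenspace μ < U := by
              refine lt_of_le_of_ne inf_le_left ?_
              intro heq
              obtain ⟨u, hu, hne⟩ := hsc μ
              apply hne
              have h1 : u ∈ U ⊓ (ρ' z).eigenspace μ := by
                rw [heq]
                exact hu
              exact Module.End.mem_eigenspace_iff.mp (Submodule.mem_inf.mp h1).2
            have hfin : finrank (AlgebraicClosure F) ↥(U ⊓ (ρ' z).eigenspace μ) < d := by
              rw [← hd]
              exact Submodule.finrank_lt_finrank_of_lt hlt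
            refine ih _ hfin (U ⊓ (ρ' z).eigenspace μ) rfl ?_ x hx
            intro g w hw
            have hw1 := (Submodule.mem_inf.mp hw).1
            have hw2 := (Submodule.mem_inf.mp hw).2
            refine Submodule.mem_inf.mpr ⟨hU g w hw1, ?_⟩
            rw [Module.End.mem_eigenspace_iff, hcomm g w hw1,
              Module.End.mem_eigenspace_iff.mp hw2, map_smul]
          apply htriv
          apply Helper17.ld_eq_one_of_iSup
            (fun μ => (Helper17.ldRestr ρ' U hU z).eigenspace μ)
            (Helper17.ld_isSemisimple p hpK hP (Helper17.ldRestr ρ' U hU) z).iSup_eigenspace_eq_top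
          intro μ u hu
          apply Subtype.ext
          rw [Helper17.ldRestr_apply]
          apply hE μ
          refine Submodule.mem_inf.mpr ⟨u.2, ?_⟩
          rw [Module.End.mem_eigenspace_iff, ← Helper17.ldRestr_apply ρ' U hU z u,
            Module.End.mem_eigenspace_iff.mp hu]
          rfl
  intro x hx
  rw [MonoidHom.mem_ker]
  apply hker
  apply LinearMap.ext
  intro w
  have h1 := key _ ⊤ rfl (fun _ _ _ => Submodule.mem_top) x hx w Submodule.mem_top
  rw [h1]
  rfl


section wreath

variable {F : Type u} [Field F]

/-- linear wreath representation on `Q → V` -/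
def fdpWr {D Q : Type*} [Group D] [Group Q] {V : Type*} [AddCommGroup V] [Module F V]
    (ρ : D →* Module.End F V) : RegularWreathProduct D Q →* Module.End F (Q → V) where
  toFun w := LinearMap.pi (fun x => (ρ (w.left x)).comp (LinearMap.proj (w.right⁻¹ * x)))
  map_one' := by
    apply LinearMap.ext
    intro v
    funext x
    show ρ ((1 : RegularWreathProduct D Q).left x)
      (v ((1 : RegularWreathProduct D Q).right⁻¹ * x)) = v x
    rw [RegularWreathProduct.one_left, RegularWreathProduct.one_right, Pi.one_apply, map_one,
      inv_one, one_mul]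
    rfl
  map_mul' a b := by
    apply LinearMap.ext
    intro v
    funext x
    show ρ ((a * b).left x) (v ((a * b).right⁻¹ * x))
      = ρ (a.left x) (ρ (b.left (a.right⁻¹ * x)) (v (b.right⁻¹ * (a.right⁻¹ * x))))
    rw [RegularWreathProduct.mul_left, RegularWreathProduct.mul_right, Pi.mul_apply, map_mul,
      mul_inv_rev, mul_assoc]
    rfl

theorem fdpWr_apply {D Q : Type*} [Group D] [Group Q] {V : Type*} [AddCommGroup V] [Module F V]
    (ρ : D →* Module.End F V) (w : RegularWreathProduct D Q) (v : Q → V) (x : Q) :
    fdpWr ρ w v x = ρ (w.left x) (v (w.right⁻¹ * x)) := rfl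

theorem fdpWr_injective {D Q : Type*} [Group D] [Group Q] {V : Type*} [AddCommGroup V]
    [Module F V] [Nontrivial V] (ρ : D →* Module.End F V) (hρ : Function.Injective ρ) :
    Function.Injective (fdpWr (Q := Q) ρ) := by
  classical
  rw [injective_iff_map_eq_one]
  intro w hw
  have h : ∀ (v : Q → V) (x : Q), ρ (w.left x) (v (w.right⁻¹ * x)) = v x := by
    intro v x
    have h1 := congrArg (fun f : Module.End F (Q → V) => f v x) hw
    exact h1
  have hr : w.right = 1 := by
    by_contra hne
    obtain ⟨u, hu⟩ := exists_ne (0 : V)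
    have h1 := h (Pi.single 1 u) 1
    have h2 : w.right⁻¹ * 1 ≠ 1 := by
      intro h2
      apply hne
      rw [mul_one, inv_eq_one] at h2
      exact h2
    rw [Pi.single_eq_same, Pi.single_eq_of_ne h2, map_zero] at h1
    exact hu h1.symm
  have hl : ∀ x, w.left x = 1 := by
    intro x
    apply hρ
    rw [map_one]
    apply LinearMap.ext
    intro u
    exact h (fun _ => u) x
  apply RegularWreathProduct.ext
  · funext x
    exact hl x
  · exact hr

/-- matrices acting on column vectors -/
def fdpMat (n : ℕ) : Matrix.GeneralLinearGroup (Fin n) F →* Module.End F (Fin n → F) where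
  toFun g := Matrix.toLin' (g : Matrix (Fin n) (Fin n) F)
  map_one' := by
    simp
    rfl
  map_mul' := by
    intro a b
    simp [Matrix.toLin'_mul]
    rfl

theorem fdpMat_injective (n : ℕ) : Function.Injective (fdpMat (F := F) n) := by
  intro a b hab
  apply Units.ext
  exact Matrix.toLin'.injective hab

/-- a faithful linear representation of dimension at most `n` embeds the group in `GL_n(F)` -/
theorem fdp_embed {T : Type*} [Group T] {V : Type*} [AddCommGroup V] [Module F V]
    [Module.Finite F V] (ρ : T →* Module.End F V) (hρ : Function.Injective ρ) (n : ℕ)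
    (hn : finrank F V ≤ n) :
    ∃ φ : T →* Matrix.GeneralLinearGroup (Fin n) F, Function.Injective φ := by
  classical
  have hfin : finrank F (V × (Fin (n - finrank F V) → F)) = finrank F (Fin n → F) := by
    rw [Module.finrank_prod, Module.finrank_fin_fun, Module.finrank_fin_fun]
    omega
  let E : (V × (Fin (n - finrank F V) → F)) ≃ₗ[F] (Fin n → F) := LinearEquiv.ofFinrankEq _ _ hfin
  let ψ : T →* Module.End F (Fin n → F) :=
    { toFun := fun g => E.toLinearMap ∘ₗ ((ρ g).prodMap LinearMap.id) ∘ₗ E.symm.toLinearMap
      map_one' := by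
        apply LinearMap.ext
        intro v
        simp
      map_mul' := by
        intro a b
        apply LinearMap.ext
        intro v
        simp [Module.End.mul_apply] }
  have hψ : Function.Injective ψ := by
    intro a b hab
    apply hρ
    apply LinearMap.ext
    intro u
    have h1 := congrArg (fun f : Module.End F (Fin n → F) => E.symm (f (E (u, 0)))) hab
    simp only [ψ, MonoidHom.coe_mk, OneHom.coe_mk, LinearMap.comp_apply, LinearEquiv.coe_coe,
      LinearEquiv.symm_apply_apply, LinearMap.prodMap_apply, LinearMap.id_apply] at h1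
    exact congrArg Prod.fst h1
  let Φ : T →* Matrix (Fin n) (Fin n) F :=
    (LinearMap.toMatrixAlgEquiv' (R := F) (n := Fin n) : Module.End F (Fin n → F) →* _).comp ψ
  refine ⟨Φ.toHomUnits, ?_⟩
  intro a b hab
  apply hψ
  have h1 := congrArg Units.val hab
  rw [MonoidHom.coe_toHomUnits, MonoidHom.coe_toHomUnits] at h1
  exact (LinearMap.toMatrixAlgEquiv' (R := F) (n := Fin n)).injective h1

end wreath

/-- the wreath tower: a `p`-group of derived length `> j` acting faithfully in dimension
`e * p ^ j`. -/
theorem fdp_tower {F : Type u} [Field F] [Fintype F] (p : ℕ) [Fact p.Prime] (e : ℕ) (he : 0 < e)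
    (hpe : p ∣ Fintype.card F ^ e - 1) (j : ℕ) :
    ∃ (T : Type u) (_ : Group T) (_ : Finite T) (V : Type u) (_ : AddCommGroup V)
      (_ : Module F V) (_ : Module.Finite F V) (_ : Nontrivial V) (ρ : T →* Module.End F V),
      Function.Injective ρ ∧ finrank F V = e * p ^ j ∧ (∃ m, Nat.card T = p ^ m) ∧
      derivedSeries T j ≠ ⊥ := by
  classical
  have hp : p.Prime := Fact.out
  induction j with
  | zero =>
    have hdvd : p ∣ Nat.card (Matrix.GeneralLinearGroup (Fin e) F) := by
      rw [Matrix.card_GL_field]
      refine dvd_trans ?_ (Finset.dvd_prod_of_mem _ (Finset.mem_univ (⟨0, he⟩ : Fin e)))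
      simpa using hpe
    obtain ⟨P⟩ : Nonempty (Sylow p (Matrix.GeneralLinearGroup (Fin e) F)) := inferInstance
    have hne : (P : Subgroup (Matrix.GeneralLinearGroup (Fin e) F)) ≠ ⊥ := P.ne_bot_of_dvd_card hdvd
    have hnt : Nontrivial (P : Subgroup (Matrix.GeneralLinearGroup (Fin e) F)) :=
      (Subgroup.nontrivial_iff_ne_bot _).mpr hne
    have : NeZero e := ⟨he.ne'⟩
    refine ⟨(P : Subgroup (Matrix.GeneralLinearGroup (Fin e) F)), inferInstance, inferInstance,
      Fin e → F, inferInstance, inferInstance, inferInstance, inferInstance,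
      (fdpMat e).comp (P : Subgroup (Matrix.GeneralLinearGroup (Fin e) F)).subtype, ?_, ?_,
      ⟨_, P.card_eq_multiplicity⟩, ?_⟩
    · exact (fdpMat_injective e).comp (Subgroup.subtype_injective _)
    · rw [Module.finrank_fin_fun, pow_zero, mul_one]
    · rw [derivedSeries_zero]
      exact top_ne_bot
  | succ j ih =>
    obtain ⟨T, _, _, V, _, _, _, _, ρ, hρ, hV, ⟨m, hm⟩, hT⟩ := ih
    have hC : Nat.card (Multiplicative (ZMod p)) = p := by
      rw [Nat.card_eq_fintype_card, Fintype.card_multiplicative, ZMod.card]
    have hCnt : Nontrivial (Multiplicative (ZMod p)) := by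
      rw [← Finite.one_lt_card_iff_nontrivial, hC]
      exact hp.one_lt
    obtain ⟨σ, hσ⟩ := exists_ne (1 : Multiplicative (ZMod p))
    refine ⟨RegularWreathProduct T (Multiplicative (ZMod p)), inferInstance, inferInstance,
      Multiplicative (ZMod p) → V, inferInstance, inferInstance, inferInstance, inferInstance,
      fdpWr ρ, fdpWr_injective ρ hρ, ?_, ⟨m * p + 1, ?_⟩, ?_⟩
    · rw [Module.finrank_pi_fintype, Finset.sum_const, Finset.card_univ,
        Fintype.card_multiplicative, ZMod.card, smul_eq_mul, hV, pow_succ]
      ring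
    · rw [RegularWreathProduct.card, hm, hC, ← pow_mul, pow_succ]
    · have key := Helper18.PerfWr.long_of_inj 1 j
        (Subgroup.subtype (commutator (RegularWreathProduct T (Multiplicative (ZMod p))) ⊓
          (RegularWreathProduct.rightHom :
            RegularWreathProduct T (Multiplicative (ZMod p)) →* Multiplicative (ZMod p)).ker))
        (Subgroup.subtype_injective _)
        (by rw [Subgroup.range_subtype, derivedSeries_one]; exact inf_le_left)
        (Helper18.PerfWr.ev.comp (Subgroup.inclusion inf_le_right))
        (by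
          intro s
          refine ⟨⟨Helper18.PerfWr.cm s σ, ?_, ?_⟩, ?_⟩
          · exact Subgroup.commutator_mem_commutator (Subgroup.mem_top _) (Subgroup.mem_top _)
          · exact MonoidHom.mem_ker.mpr (Helper18.PerfWr.cm_right s _)
          · exact Helper18.PerfWr.cm_left s _ hσ)
        hT
      rwa [add_comm] at key

/-- Sylow `p`-subgroups of `GL_n(F)` in cross characteristic have derived length exactly
`log_p (n / e) + 1`. -/
theorem fdp_exact {F : Type u} [Field F] [Fintype F] (p : ℕ) [Fact p.Prime]
    (hpq : ¬ p ∣ Fintype.card F) (n : ℕ) (hn : orderOf (Fintype.card F : ZMod p) ≤ n)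
    (P : Sylow p (Matrix.GeneralLinearGroup (Fin n) F)) :
    derivedSeries ↥(P : Subgroup (Matrix.GeneralLinearGroup (Fin n) F))
        (Nat.log p (n / orderOf (Fintype.card F : ZMod p)) + 1) = ⊥ ∧
      derivedSeries ↥(P : Subgroup (Matrix.GeneralLinearGroup (Fin n) F))
        (Nat.log p (n / orderOf (Fintype.card F : ZMod p))) ≠ ⊥ := by
  classical
  have hp : p.Prime := Fact.out
  constructor
  · have h := fdp_main p hpq n P.isPGroup'
      (P : Subgroup (Matrix.GeneralLinearGroup (Fin n) F)).subtype
    rw [eq_bot_iff]
    intro x hx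
    have h2 := h hx
    rw [MonoidHom.mem_ker] at h2
    exact Subgroup.mem_bot.mpr (Subtype.ext h2)
  · have hq : (Fintype.card F : ZMod p) ≠ 0 := by
      intro h0
      exact hpq ((ZMod.natCast_eq_zero_iff _ _).mp h0)
    have he0 : 0 < orderOf (Fintype.card F : ZMod p) := by
      rw [orderOf_pos_iff, isOfFinOrder_iff_pow_eq_one]
      exact ⟨p - 1, Nat.sub_pos_of_lt hp.one_lt, ZMod.pow_card_sub_one_eq_one hq⟩
    have hpe : p ∣ Fintype.card F ^ orderOf (Fintype.card F : ZMod p) - 1 := by
      rw [← ZMod.natCast_eq_zero_iff, Nat.cast_sub (Nat.one_le_pow _ _ Fintype.card_pos),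
        Nat.cast_pow, pow_orderOf_eq_one, Nat.cast_one, sub_self]
    obtain ⟨T, _, _, V, _, _, _, _, ρ, hρ, hV, ⟨m, hm⟩, hT⟩ := fdp_tower (F := F) p
      (orderOf (Fintype.card F : ZMod p)) he0 hpe
      (Nat.log p (n / orderOf (Fintype.card F : ZMod p)))
    have hdim : finrank F V ≤ n := by
      rw [hV]
      have h1 : p ^ Nat.log p (n / orderOf (Fintype.card F : ZMod p))
          ≤ n / orderOf (Fintype.card F : ZMod p) :=
        Nat.pow_log_le_self p (Nat.div_pos hn he0).ne'
      exact le_trans (Nat.mul_le_mul_left _ h1) (Nat.mul_div_le n _)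
    obtain ⟨φ, hφ⟩ := fdp_embed ρ hρ n hdim
    have hQ : IsPGroup p φ.range :=
      (IsPGroup.of_card hm).of_surjective φ.rangeRestrict φ.rangeRestrict_surjective
    obtain ⟨P', hP'⟩ := hQ.exists_le_sylow
    have hinj : Function.Injective (φ.codRestrict
        (P' : Subgroup (Matrix.GeneralLinearGroup (Fin n) F)) (fun s => hP' ⟨s, rfl⟩)) := by
      intro a b hab
      exact hφ (congrArg (fun w : (P' : Subgroup (Matrix.GeneralLinearGroup (Fin n) F)) =>
        (w : Matrix.GeneralLinearGroup (Fin n) F)) hab)
    have h1 : derivedSeries (P' : Subgroup (Matrix.GeneralLinearGroup (Fin n) F))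
        (0 + Nat.log p (n / orderOf (Fintype.card F : ZMod p))) ≠ ⊥ :=
      Helper18.PerfWr.long_of_inj 0 _ _ hinj (by rw [derivedSeries_zero]; exact le_top)
        (MonoidHom.id T) Function.surjective_id hT
    rw [zero_add] at h1
    intro h0
    apply h1
    rw [← map_derivedSeries_eq (f := (Sylow.equiv P P').toMonoidHom) (Sylow.equiv P P').surjective,
      h0, Subgroup.map_bot]

end Cfsg.Agent.Helper11
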