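import Mathlib

set_option autoImplicit false

namespace Cfsg.Agent.Helper11

open scoped commutatorElement

/-- kernel invariant: squares of kernel elements lie in the derived subgroup of the kernel -/
def SlaK {T A : Type*} [Group T] [CommGroup A] (ε : T →* A) : Prop :=
  ∀ x : T, ε x = 1 → x ^ 2 ∈ ⁅ε.ker, ε.ker⁆

theorem sla_sq_mul {G : Type*} [Group G] (a b : G) : (a * b) ^ 2 = a ^ 2 * ⁅a⁻¹, b⁆ * b ^ 2 := by
  rw [commutatorElement_def, pow_two, pow_two, pow_two]
  group

theorem sla_of_ker {T A : Type*} [Group T] [CommGroup A] (ε : T →* A)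
    (h : ∀ y : ε.ker, y ^ 2 ∈ commutator ε.ker) : SlaK ε := by
  intro x hx
  have h1 := h ⟨x, hx⟩
  have h2 := Subgroup.mem_map_of_mem ε.ker.subtype h1
  rw [Subgroup.map_subtype_commutator] at h2
  exact h2

theorem sla_to_ker {T A : Type*} [Group T] [CommGroup A] (ε : T →* A) (h : SlaK ε)
    (y : ε.ker) : y ^ 2 ∈ commutator ε.ker := by
  have h1 := h y.1 y.2
  rw [← Subgroup.map_subtype_commutator] at h1
  obtain ⟨z, hz, hzy⟩ := h1
  have h2 : z = y ^ 2 := Subtype.ext hzy
  rw [← h2]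
  exact hz

/-- wreath step for the kernel invariant, arbitrary abelian target -/
theorem sla_wr {W C A : Type*} [Group W] [Group C] [Fintype C] [CommGroup A] (σ : C)
    (hσ : σ ≠ 1) (hC : ∀ c : C, c = 1 ∨ c = σ) (ε : W →* A) (hW : SlaK ε)
    (ε' : RegularWreathProduct W C →* A) (hε' : ∀ w, ε' w = ∏ x, ε (w.left x)) : SlaK ε' := by
  classical
  intro g hg
  have hσ2 : σ * σ = 1 := by
    rcases hC (σ * σ) with h | h
    · exact h
    · exact absurd (mul_eq_left.mp h) hσ
  have hσi : σ⁻¹ = σ := inv_eq_of_mul_eq_one_right hσ2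
  have hprod : ∀ F : C → A, ∏ x, F x = F 1 * F σ := fun F =>
    Fintype.prod_eq_mul 1 σ (Ne.symm hσ) (fun x hx => absurd (hC x) (by tauto))
  let β : W × W →* RegularWreathProduct W C :=
    { toFun := fun d => ⟨fun x => if x = 1 then d.1 else d.2, 1⟩
      map_one' := by
        ext x
        · simp
        · rfl
      map_mul' := by
        intro a b
        ext x
        · simp only [RegularWreathProduct.mul_left, Pi.mul_apply, inv_one, one_mul, Prod.fst_mul,
            Prod.snd_mul]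
          split_ifs <;> rfl
        · simp }
  have hβ : ∀ d, ε' (β d) = ε d.1 * ε d.2 := by
    intro d
    rw [hε', hprod]
    simp [β, hσ]
  have hd : ε (g.left 1) * ε (g.left σ) = 1 := by
    rw [hε', hprod] at hg
    exact hg
  have hβd : β (g.left 1, g.left σ) = ⟨g.left, 1⟩ := by
    ext x
    · show (if x = 1 then g.left 1 else g.left σ) = g.left x
      rcases hC x with rfl | rfl
      · simp
      · simp [hσ]
    · rfl
  have htK : (RegularWreathProduct.inl σ : RegularWreathProduct W C) ∈ ε'.ker := by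
    rw [MonoidHom.mem_ker, hε']
    simp
  have ht2 : (RegularWreathProduct.inl σ : RegularWreathProduct W C)
      * RegularWreathProduct.inl σ = 1 := by
    rw [← map_mul, hσ2, map_one]
  have ht' : (RegularWreathProduct.inl σ : RegularWreathProduct W C)⁻¹
      = RegularWreathProduct.inl σ := inv_eq_of_mul_eq_one_right ht2
  have hswap : ∀ a b : W, (RegularWreathProduct.inl σ : RegularWreathProduct W C) * β (a, b)
      * RegularWreathProduct.inl σ = β (b, a) := by
    intro a b
    ext x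
    · rcases hC x with rfl | rfl
      · simp [β, hσ, hσi]
      · simp [β, hσ, hσi, hσ2]
    · simp [β, hσ2]
  -- the decomposition
  have hk : ε (g.left 1 * g.left σ) = 1 := by
    rw [map_mul]
    exact hd
  have hxK : β (g.left 1, (g.left 1)⁻¹) ∈ ε'.ker := by
    rw [MonoidHom.mem_ker, hβ, map_inv, mul_inv_cancel]
  have hyK : β (1, g.left 1 * g.left σ) ∈ ε'.ker := by
    rw [MonoidHom.mem_ker, hβ, map_one, one_mul]
    exact hk
  have hxy : β (g.left 1, (g.left 1)⁻¹) * β (1, g.left 1 * g.left σ)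
      = β (g.left 1, g.left σ) := by
    rw [← map_mul]
    congr 1
    ext
    · simp
    · simp
  have hx2 : β (g.left 1, (g.left 1)⁻¹) ^ 2 ∈ ⁅ε'.ker, ε'.ker⁆ := by
    have h1 : β (g.left 1, (g.left 1)⁻¹) ^ 2
        = ⁅β (g.left 1, (g.left 1)⁻¹), RegularWreathProduct.inl σ⁆ := by
      have h2 : (β (g.left 1, (g.left 1)⁻¹))⁻¹ = β ((g.left 1)⁻¹, g.left 1) := by
        rw [← map_inv]
        congr 1
        ext
        · simp
        · simp
      rw [commutatorElement_def, ht', h2, mul_assoc, mul_assoc,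
        ← mul_assoc (RegularWreathProduct.inl σ), hswap, pow_two]
    rw [h1]
    exact Subgroup.commutator_mem_commutator hxK htK
  have hy2 : β (1, g.left 1 * g.left σ) ^ 2 ∈ ⁅ε'.ker, ε'.ker⁆ := by
    have h1 := Subgroup.mem_map_of_mem (β.comp (MonoidHom.inr W W)) (hW _ hk)
    rw [Subgroup.map_commutator] at h1
    have h2 : (β.comp (MonoidHom.inr W W)) ((g.left 1 * g.left σ) ^ 2)
        = β (1, g.left 1 * g.left σ) ^ 2 := by
      rw [map_pow]
      rfl
    rw [h2] at h1
    refine Subgroup.commutator_mono ?_ ?_ h1 <;>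
    · rintro _ ⟨a, ha, rfl⟩
      rw [MonoidHom.mem_ker, MonoidHom.comp_apply, hβ]
      show ε 1 * ε a = 1
      rw [map_one, one_mul]
      exact MonoidHom.mem_ker.mp ha
  rcases hC g.right with hc | hc
  · have h7 : g = β (g.left 1, (g.left 1)⁻¹) * β (1, g.left 1 * g.left σ) := by
      rw [hxy, hβd]
      ext <;> simp [hc]
    rw [h7, sla_sq_mul]
    exact Subgroup.mul_mem _ (Subgroup.mul_mem _ hx2
      (Subgroup.commutator_mem_commutator (Subgroup.inv_mem _ hxK) hyK)) hy2
  · have hgt : g = β (g.left 1, (g.left 1)⁻¹)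
        * (β (1, g.left 1 * g.left σ) * RegularWreathProduct.inl σ) := by
      rw [← mul_assoc, hxy, hβd]
      ext <;> simp [hc]
    have hyt : (β (1, g.left 1 * g.left σ) * RegularWreathProduct.inl σ) ^ 2
        ∈ ⁅ε'.ker, ε'.ker⁆ := by
      rw [sla_sq_mul, pow_two (RegularWreathProduct.inl σ), ht2, mul_one]
      exact Subgroup.mul_mem _ hy2
        (Subgroup.commutator_mem_commutator (Subgroup.inv_mem _ hyK) htK)
    rw [hgt, sla_sq_mul]
    exact Subgroup.mul_mem _ (Subgroup.mul_mem _ hx2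
      (Subgroup.commutator_mem_commutator (Subgroup.inv_mem _ hxK)
        (Subgroup.mul_mem _ hyK htK))) hyt

/-- product step for the kernel invariant, two-valued characters -/
theorem sla_prod {T₁ T₂ A : Type*} [Group T₁] [Group T₂] [CommGroup A] (ε₁ : T₁ →* A)
    (ε₂ : T₂ →* A) (z : A) (hz1 : z ≠ 1) (hzz : z * z = 1)
    (v₁ : ∀ x, ε₁ x = 1 ∨ ε₁ x = z) (v₂ : ∀ x, ε₂ x = 1 ∨ ε₂ x = z)
    (a₁ : ∀ x : T₁, x ^ 2 ∈ commutator T₁) (a₂ : ∀ x : T₂, x ^ 2 ∈ commutator T₂)
    (k₁ : SlaK ε₁) (k₂ : SlaK ε₂) : SlaK (ε₁.coprod ε₂) := by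
  intro x hx
  have hx' : ε₁ x.1 * ε₂ x.2 = 1 := by
    rw [← MonoidHom.coprod_apply]
    exact hx
  have hsq : x ^ 2 = (x.1 ^ 2, 1) * (1, x.2 ^ 2) := by
    ext <;> simp
  rw [hsq]
  have hinl : ∀ a : T₁, ε₁ a = 1 → ((a, 1) : T₁ × T₂) ∈ (ε₁.coprod ε₂).ker := by
    intro a ha
    rw [MonoidHom.mem_ker, MonoidHom.coprod_apply, ha, map_one, mul_one]
  have hinr : ∀ a : T₂, ε₂ a = 1 → ((1, a) : T₁ × T₂) ∈ (ε₁.coprod ε₂).ker := by
    intro a ha
    rw [MonoidHom.mem_ker, MonoidHom.coprod_apply, ha, map_one, mul_one]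
  rcases v₁ x.1 with he | he
  · have he2 : ε₂ x.2 = 1 := by
      rw [he, one_mul] at hx'
      exact hx'
    refine Subgroup.mul_mem _ ?_ ?_
    · have h3 := Subgroup.mem_map_of_mem (MonoidHom.inl T₁ T₂) (k₁ x.1 he)
      rw [Subgroup.map_commutator] at h3
      refine Subgroup.commutator_mono ?_ ?_ h3 <;>
      · rintro _ ⟨a, ha, rfl⟩
        exact hinl a (MonoidHom.mem_ker.mp ha)
    · have h3 := Subgroup.mem_map_of_mem (MonoidHom.inr T₁ T₂) (k₂ x.2 he2)
      rw [Subgroup.map_commutator] at h3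
      refine Subgroup.commutator_mono ?_ ?_ h3 <;>
      · rintro _ ⟨a, ha, rfl⟩
        exact hinr a (MonoidHom.mem_ker.mp ha)
  · have he2 : ε₂ x.2 = z := by
      rcases v₂ x.2 with h4 | h4
      · rw [he, h4, mul_one] at hx'
        exact absurd hx' hz1
      · exact h4
    have cl : commutator T₁
        ≤ (⁅(ε₁.coprod ε₂).ker, (ε₁.coprod ε₂).ker⁆).comap (MonoidHom.inl T₁ T₂) := by
      rw [commutator_def, Subgroup.commutator_le]
      intro g _ h _
      rw [Subgroup.mem_comap]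
      have key : ∀ g : T₁, ∃ b : T₂, (b = 1 ∨ b = x.2) ∧
          ((g, b) : T₁ × T₂) ∈ (ε₁.coprod ε₂).ker := by
        intro g
        rcases v₁ g with h1 | h1
        · exact ⟨1, Or.inl rfl, hinl g h1⟩
        · refine ⟨x.2, Or.inr rfl, ?_⟩
          rw [MonoidHom.mem_ker, MonoidHom.coprod_apply, h1, he2]
          exact hzz
      obtain ⟨a, ha, hga⟩ := key g
      obtain ⟨b, hb, hhb⟩ := key h
      have hab : ⁅a, b⁆ = 1 := by
        rw [commutatorElement_eq_one_iff_mul_comm]
        rcases ha with rfl | rfl <;> rcases hb with rfl | rfl <;> simp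
      have h5 : MonoidHom.inl T₁ T₂ ⁅g, h⁆ = ⁅((g, a) : T₁ × T₂), (h, b)⁆ := by
        apply Prod.ext
        · rfl
        · exact hab.symm
      rw [h5]
      exact Subgroup.commutator_mem_commutator hga hhb
    have cr : commutator T₂
        ≤ (⁅(ε₁.coprod ε₂).ker, (ε₁.coprod ε₂).ker⁆).comap (MonoidHom.inr T₁ T₂) := by
      rw [commutator_def, Subgroup.commutator_le]
      intro g _ h _
      rw [Subgroup.mem_comap]
      have key : ∀ g : T₂, ∃ b : T₁, (b = 1 ∨ b = x.1) ∧
          ((b, g) : T₁ × T₂) ∈ (ε₁.coprod ε₂).ker := by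
        intro g
        rcases v₂ g with h1 | h1
        · exact ⟨1, Or.inl rfl, hinr g h1⟩
        · refine ⟨x.1, Or.inr rfl, ?_⟩
          rw [MonoidHom.mem_ker, MonoidHom.coprod_apply, h1, he]
          exact hzz
      obtain ⟨a, ha, hga⟩ := key g
      obtain ⟨b, hb, hhb⟩ := key h
      have hab : ⁅a, b⁆ = 1 := by
        rw [commutatorElement_eq_one_iff_mul_comm]
        rcases ha with rfl | rfl <;> rcases hb with rfl | rfl <;> simp
      have h5 : MonoidHom.inr T₁ T₂ ⁅g, h⁆ = ⁅((a, g) : T₁ × T₂), (b, h)⁆ := by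
        apply Prod.ext
        · exact hab.symm
        · rfl
      rw [h5]
      exact Subgroup.commutator_mem_commutator hga hhb
    exact Subgroup.mul_mem _ (cl (a₁ x.1)) (cr (a₂ x.2))

end Cfsg.Agent.Helper11
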