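import Mathlib
import Cfsg.Agent.Helper11.FrobDLp

namespace Cfsg.Agent.Helper11

open Module
open scoped commutatorElement Matrix

universe u

section sp

variable {F : Type u} [Field F]

/-- conjugating a representation by a linear equivalence -/
def spdConj {T : Type*} [Group T] {V V' : Type*} [AddCommGroup V] [Module F V]
    [AddCommGroup V'] [Module F V'] (E : V ≃ₗ[F] V') (ρ : T →* Module.End F V) :
    T →* Module.End F V' where
  toFun g := E.toLinearMap ∘ₗ (ρ g) ∘ₗ E.symm.toLinearMap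
  map_one' := by
    apply LinearMap.ext
    intro v
    simp
  map_mul' a b := by
    apply LinearMap.ext
    intro v
    simp [Module.End.mul_apply]

theorem spdConj_apply {T : Type*} [Group T] {V V' : Type*} [AddCommGroup V] [Module F V]
    [AddCommGroup V'] [Module F V'] (E : V ≃ₗ[F] V') (ρ : T →* Module.End F V) (g : T) (v : V') :
    spdConj E ρ g v = E (ρ g (E.symm v)) := rfl

theorem spdConj_injective {T : Type*} [Group T] {V V' : Type*} [AddCommGroup V] [Module F V]
    [AddCommGroup V'] [Module F V'] (E : V ≃ₗ[F] V') (ρ : T →* Module.End F V)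
    (hρ : Function.Injective ρ) : Function.Injective (spdConj E ρ) := by
  intro a b hab
  apply hρ
  apply LinearMap.ext
  intro u
  have h1 := congrArg (fun f : Module.End F V' => E.symm (f (E u))) hab
  simpa [spdConj_apply] using h1

/-- the standard alternating form on `ι → F × F` -/
def spdOm (ι : Type*) [Fintype ι] (v w : ι → F × F) : F :=
  ∑ i, ((v i).2 * (w i).1 - (v i).1 * (w i).2)

/-- wreath step on pair spaces -/
def spdWr {D : Type*} [Group D] (Q : Type*) [Group Q] {ι : Type*}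
    (ρ : D →* Module.End F (ι → F × F)) :
    RegularWreathProduct D Q →* Module.End F (Q × ι → F × F) :=
  spdConj (LinearEquiv.curry F (F × F) Q ι).symm (fdpWr ρ)

theorem spdWr_apply {D : Type*} [Group D] (Q : Type*) [Group Q] {ι : Type*}
    (ρ : D →* Module.End F (ι → F × F)) (w : RegularWreathProduct D Q) (v : Q × ι → F × F)
    (x : Q) (i : ι) :
    spdWr Q ρ w v (x, i) = ρ (w.left x) (fun i' => v (w.right⁻¹ * x, i')) i := rfl

theorem spdWr_om {D : Type*} [Group D] (Q : Type*) [Group Q] [Fintype Q] {ι : Type*} [Fintype ι]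
    (ρ : D →* Module.End F (ι → F × F))
    (hρ : ∀ g v w, spdOm ι (ρ g v) (ρ g w) = spdOm ι v w)
    (g : RegularWreathProduct D Q) (v w : Q × ι → F × F) :
    spdOm (Q × ι) (spdWr Q ρ g v) (spdWr Q ρ g w) = spdOm (Q × ι) v w := by
  unfold spdOm
  rw [Fintype.sum_prod_type, Fintype.sum_prod_type]
  have h1 : ∀ x : Q, ∑ i, ((spdWr Q ρ g v (x, i)).2 * (spdWr Q ρ g w (x, i)).1
        - (spdWr Q ρ g v (x, i)).1 * (spdWr Q ρ g w (x, i)).2)
      = ∑ i, ((v (g.right⁻¹ * x, i)).2 * (w (g.right⁻¹ * x, i)).1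
        - (v (g.right⁻¹ * x, i)).1 * (w (g.right⁻¹ * x, i)).2) := by
    intro x
    exact hρ (g.left x) (fun i' => v (g.right⁻¹ * x, i')) (fun i' => w (g.right⁻¹ * x, i'))
  rw [Finset.sum_congr rfl (fun x _ => h1 x)]
  exact Equiv.sum_comp (Equiv.mulLeft g.right⁻¹)
    (fun y => ∑ i, ((v (y, i)).2 * (w (y, i)).1 - (v (y, i)).1 * (w (y, i)).2))

/-- a group generated by two elements of order dividing 4 with `x y x = y` is a 2-group -/
theorem spd_quat_pgroup {G : Type*} [Group G] (x y : G) (hx : x ^ 4 = 1) (hy : y ^ 4 = 1)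
    (hxy : x * y * x = y) :
    IsPGroup 2 (Subgroup.zpowers y ⊔ Subgroup.zpowers x : Subgroup G) := by
  have h2 : ∀ g : G, g ^ 4 = 1 → IsPGroup 2 (Subgroup.zpowers g) := by
    intro g hg ⟨h, hh⟩
    refine ⟨2, ?_⟩
    obtain ⟨k, rfl⟩ := Subgroup.mem_zpowers_iff.mp hh
    apply Subtype.ext
    show (g ^ k) ^ (2 ^ 2) = 1
    rw [show (2 : ℕ) ^ 2 = 4 from rfl, ← zpow_natCast, ← zpow_mul, mul_comm, zpow_mul,
      zpow_natCast, hg, one_zpow]
  have hc : y * x * y⁻¹ = x⁻¹ := by
    have h3 : y * x = x⁻¹ * y := by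
      nth_rewrite 2 [← hxy]
      group
    rw [h3]
    group
  have hc' : y⁻¹ * x * y = x⁻¹ := by
    have h3 : x = y⁻¹ * x⁻¹ * y := by
      rw [← hc]
      group
    calc y⁻¹ * x * y = (y⁻¹ * x⁻¹ * y)⁻¹ := by group
      _ = x⁻¹ := by rw [← h3]
  apply IsPGroup.to_sup_of_normal_right' (h2 y hy) (h2 x hx)
  rw [Subgroup.zpowers_le, Subgroup.mem_normalizer_iff]
  intro h
  constructor
  · intro hh
    obtain ⟨k, rfl⟩ := Subgroup.mem_zpowers_iff.mp hh
    rw [Subgroup.mem_zpowers_iff]
    refine ⟨-k, ?_⟩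
    rw [← conj_zpow, hc, inv_zpow']
  · intro hh
    obtain ⟨k, hk⟩ := Subgroup.mem_zpowers_iff.mp hh
    rw [Subgroup.mem_zpowers_iff]
    refine ⟨-k, ?_⟩
    have h3 : h = y⁻¹ * x ^ k * y := by
      rw [hk]
      group
    rw [h3]
    have h4 : y⁻¹ * x ^ k * y = (y⁻¹ * x * y) ^ k := by
      have h5 := conj_zpow (a := y⁻¹) (b := x) (i := k)
      rw [inv_inv] at h5
      exact h5.symm
    rw [h4, hc', inv_zpow']

theorem spd_derived_ne_bot {G : Type*} [Group G] (H : Subgroup G) (x y : G) (hx : x ∈ H)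
    (hy : y ∈ H) (hne : x * y ≠ y * x) : derivedSeries H 1 ≠ ⊥ := by
  intro h
  have h1 : ⁅(⟨x, hx⟩ : H), ⟨y, hy⟩⁆ ∈ derivedSeries H 1 := by
    rw [derivedSeries_one]
    exact Subgroup.commutator_mem_commutator (Subgroup.mem_top _) (Subgroup.mem_top _)
  rw [h, Subgroup.mem_bot, commutatorElement_eq_one_iff_mul_comm] at h1
  exact hne (congrArg Subtype.val h1)

/-- the quaternion generators in `SL₂` -/
def spdX : Matrix.SpecialLinearGroup (Fin 2) F :=
  ⟨!![0, 1; -1, 0], by simp [Matrix.det_fin_two_of]⟩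

def spdY (a b : F) (hab : a ^ 2 + b ^ 2 = -1) : Matrix.SpecialLinearGroup (Fin 2) F :=
  ⟨!![a, b; b, -a], by
    rw [Matrix.det_fin_two_of]
    linear_combination (-1 : F) * hab⟩

theorem spdX_pow : (spdX : Matrix.SpecialLinearGroup (Fin 2) F) ^ 4 = 1 := by
  apply Subtype.ext
  show ((spdX : Matrix.SpecialLinearGroup (Fin 2) F) ^ 4).1 = 1
  rw [Matrix.SpecialLinearGroup.coe_pow]
  ext i j
  fin_cases i <;> fin_cases j <;>
    simp [spdX, pow_succ, Matrix.mul_apply, Fin.sum_univ_two]

theorem spdY_pow (a b : F) (hab : a ^ 2 + b ^ 2 = -1) : spdY a b hab ^ 4 = 1 := by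
  apply Subtype.ext
  show (spdY a b hab ^ 4).1 = 1
  rw [Matrix.SpecialLinearGroup.coe_pow]
  have h1 : (spdY a b hab).1 * (spdY a b hab).1 = -1 := by
    ext i j
    fin_cases i <;> fin_cases j <;>
      simp [spdY, Matrix.mul_apply, Fin.sum_univ_two] <;>
      first | linear_combination hab | ring1
  rw [show (4 : ℕ) = 2 + 2 from rfl, pow_add, pow_two, h1]
  simp

theorem spdXYX (a b : F) (hab : a ^ 2 + b ^ 2 = -1) :
    spdX * spdY a b hab * spdX = spdY a b hab := by
  apply Subtype.ext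
  show (spdX : Matrix.SpecialLinearGroup (Fin 2) F).1 * (spdY a b hab).1 * (spdX).1
    = (spdY a b hab).1
  ext i j
  fin_cases i <;> fin_cases j <;>
    simp [spdX, spdY, Matrix.mul_apply, Fin.sum_univ_two]

theorem spdXY_ne (a b : F) (hab : a ^ 2 + b ^ 2 = -1) (h2 : (2 : F) ≠ 0) :
    spdX * spdY a b hab ≠ spdY a b hab * spdX := by
  intro h
  have h1 : (spdX : Matrix.SpecialLinearGroup (Fin 2) F).1 * (spdY a b hab).1
      = (spdY a b hab).1 * (spdX).1 := congrArg Subtype.val h
  have h00 := congrFun (congrFun h1 0) 0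
  have h01 := congrFun (congrFun h1 0) 1
  simp [spdX, spdY, Matrix.mul_apply, Fin.sum_univ_two] at h00 h01
  have hb : b = 0 := by
    have h3 : (2 : F) * b = 0 := by linear_combination h00
    exact (mul_eq_zero.mp h3).resolve_left h2
  have ha : a = 0 := by
    have h3 : (2 : F) * a = 0 := by linear_combination (-1 : F) * h01
    exact (mul_eq_zero.mp h3).resolve_left h2
  rw [ha, hb] at hab
  have h4 : (1 : F) = 0 := by linear_combination hab
  exact one_ne_zero h4

/-- the natural action of `SL₂` on `Unit → F × F` -/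
def spdBase : Matrix.SpecialLinearGroup (Fin 2) F →* Module.End F (Unit → F × F) :=
  spdConj ((LinearEquiv.finTwoArrow F F).trans (LinearEquiv.funUnique Unit F (F × F)).symm)
    ((fdpMat 2).comp Matrix.SpecialLinearGroup.toGL)

theorem spdBase_injective : Function.Injective (spdBase (F := F)) :=
  spdConj_injective _ _ ((fdpMat_injective 2).comp Matrix.SpecialLinearGroup.toGL_injective)

theorem spdBase_apply (g : Matrix.SpecialLinearGroup (Fin 2) F) (v : Unit → F × F) :
    spdBase g v () = (g.1 0 0 * (v ()).1 + g.1 0 1 * (v ()).2,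
      g.1 1 0 * (v ()).1 + g.1 1 1 * (v ()).2) := by
  show ((g.1 *ᵥ ![(v ()).1, (v ()).2]) 0, (g.1 *ᵥ ![(v ()).1, (v ()).2]) 1) = _
  simp [Matrix.mulVec, dotProduct, Fin.sum_univ_two]

theorem spdBase_om (g : Matrix.SpecialLinearGroup (Fin 2) F) (v w : Unit → F × F) :
    spdOm Unit (spdBase g v) (spdBase g w) = spdOm Unit v w := by
  have hdet : g.1 0 0 * g.1 1 1 - g.1 0 1 * g.1 1 0 = 1 := by
    rw [← Matrix.det_fin_two]
    exact g.2
  unfold spdOm
  rw [Fintype.sum_unique, Fintype.sum_unique]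
  show ((spdBase g v ()).2 * (spdBase g w ()).1 - (spdBase g v ()).1 * (spdBase g w ()).2)
    = ((v ()).2 * (w ()).1 - (v ()).1 * (w ()).2)
  rw [spdBase_apply, spdBase_apply]
  linear_combination ((v ()).2 * (w ()).1 - (v ()).1 * (w ()).2) * hdet

/-- the symplectic wreath tower -/
theorem spd_tower [Fintype F] (hodd : Fintype.card F % 2 = 1) (j : ℕ) :
    ∃ (T : Type u) (_ : Group T) (_ : Finite T) (ι : Type) (_ : Fintype ι)
      (ρ : T →* Module.End F (ι → F × F)),
      Function.Injective ρ ∧ Fintype.card ι = 2 ^ j ∧ (∃ m, Nat.card T = 2 ^ m) ∧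
      (∀ g v w, spdOm ι (ρ g v) (ρ g w) = spdOm ι v w) ∧ derivedSeries T (j + 1) ≠ ⊥ := by
  classical
  induction j with
  | zero =>
    obtain ⟨a, b, hab⟩ : ∃ a b : F, a ^ 2 + b ^ 2 = -1 := by
      obtain ⟨a, b, h⟩ := FiniteField.exists_root_sum_quadratic (R := F)
        (f := Polynomial.X ^ 2) (g := Polynomial.X ^ 2 - Polynomial.C (-1))
        (Polynomial.degree_X_pow 2) (Polynomial.degree_X_pow_sub_C (by decide) _) hodd
      refine ⟨a, b, ?_⟩
      simp at h
      linear_combination h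
    have h2 : (2 : F) ≠ 0 := by
      apply Ring.two_ne_zero
      intro hc
      have h3 := FiniteField.even_card_iff_char_two.mp hc
      omega
    have hG := spd_quat_pgroup (spdX : Matrix.SpecialLinearGroup (Fin 2) F) (spdY a b hab)
      spdX_pow (spdY_pow a b hab) (spdXYX a b hab)
    refine ⟨↥(Subgroup.zpowers (spdY a b hab) ⊔
        Subgroup.zpowers (spdX : Matrix.SpecialLinearGroup (Fin 2) F)), inferInstance,
      inferInstance, Unit, inferInstance, spdBase.comp (Subgroup.subtype _), ?_, ?_,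
      IsPGroup.iff_card.mp hG, ?_, ?_⟩
    · exact spdBase_injective.comp (Subgroup.subtype_injective _)
    · simp
    · intro g v w
      exact spdBase_om _ v w
    · exact spd_derived_ne_bot _ spdX (spdY a b hab)
        (Subgroup.mem_sup_right (Subgroup.mem_zpowers _))
        (Subgroup.mem_sup_left (Subgroup.mem_zpowers _)) (spdXY_ne a b hab h2)
  | succ j ih =>
    obtain ⟨T, _, _, ι, _, ρ, hρ, hι, ⟨m, hm⟩, hom, hT⟩ := ih
    have hC : Nat.card (Multiplicative (ZMod 2)) = 2 := by
      rw [Nat.card_eq_fintype_card, Fintype.card_multiplicative, ZMod.card]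
    have hCnt : Nontrivial (Multiplicative (ZMod 2)) := by
      rw [← Finite.one_lt_card_iff_nontrivial, hC]
      norm_num
    obtain ⟨σ, hσ⟩ := exists_ne (1 : Multiplicative (ZMod 2))
    have hne : Nonempty ι := by
      rw [← Fintype.card_pos_iff, hι]
      positivity
    refine ⟨RegularWreathProduct T (Multiplicative (ZMod 2)), inferInstance, inferInstance,
      Multiplicative (ZMod 2) × ι, inferInstance, spdWr (Multiplicative (ZMod 2)) ρ, ?_, ?_,
      ⟨m * 2 + 1, ?_⟩, ?_, ?_⟩
    · exact spdConj_injective _ _ (fdpWr_injective ρ hρ)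
    · rw [Fintype.card_prod, Fintype.card_multiplicative, ZMod.card, hι, pow_succ, mul_comm]
    · rw [RegularWreathProduct.card, hm, hC, ← pow_mul, pow_succ]
    · exact spdWr_om _ ρ hom
    · have key := Helper18.PerfWr.long_of_inj 1 (j + 1)
        (Subgroup.subtype (commutator (RegularWreathProduct T (Multiplicative (ZMod 2))) ⊓
          (RegularWreathProduct.rightHom :
            RegularWreathProduct T (Multiplicative (ZMod 2)) →* Multiplicative (ZMod 2)).ker))
        (Subgroup.subtype_injective _)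
        (by rw [Subgroup.range_subtype, derivedSeries_one]; exact inf_le_left)
        (Helper18.PerfWr.ev.comp (Subgroup.inclusion inf_le_right))
        (by
          intro s
          refine ⟨⟨Helper18.PerfWr.cm s σ, ?_, ?_⟩, ?_⟩
          · exact Subgroup.commutator_mem_commutator (Subgroup.mem_top _) (Subgroup.mem_top _)
          · exact MonoidHom.mem_ker.mpr (Helper18.PerfWr.cm_right s _)
          · exact Helper18.PerfWr.cm_left s _ hσ)
        hT
      rwa [add_comm] at key

/-- pairs to standard coordinates -/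
def spdE3 (n : ℕ) : (Fin n → F × F) ≃ₗ[F] (Fin n ⊕ Fin n → F) where
  toFun v := Sum.elim (fun i => (v i).1) (fun i => (v i).2)
  map_add' v w := by
    funext s
    rcases s with i | i <;> rfl
  map_smul' c v := by
    funext s
    rcases s with i | i <;> rfl
  invFun u := fun i => (u (Sum.inl i), u (Sum.inr i))
  left_inv v := by
    funext i
    rfl
  right_inv u := by
    funext s
    rcases s with i | i <;> rfl

theorem spd_form_sum (n : ℕ) (u v : Fin n ⊕ Fin n → F) :
    u ⬝ᵥ (Matrix.J (Fin n) F *ᵥ v)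
      = ∑ i, (u (Sum.inr i) * v (Sum.inl i) - u (Sum.inl i) * v (Sum.inr i)) := by
  have hl : ∀ i, (Matrix.J (Fin n) F *ᵥ v) (Sum.inl i) = -v (Sum.inr i) := by
    intro i
    simp [Matrix.J, Matrix.fromBlocks_mulVec, Matrix.neg_mulVec]
  have hr : ∀ i, (Matrix.J (Fin n) F *ᵥ v) (Sum.inr i) = v (Sum.inl i) := by
    intro i
    simp [Matrix.J, Matrix.fromBlocks_mulVec]
  simp only [dotProduct, Fintype.sum_sum_type, hl, hr]
  rw [← Finset.sum_add_distrib]
  exact Finset.sum_congr rfl (fun i _ => by ring)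

theorem spd_mem_of_preserves (n : ℕ) (M : Matrix (Fin n ⊕ Fin n) (Fin n ⊕ Fin n) F)
    (hp : ∀ u v, (M *ᵥ u) ⬝ᵥ (Matrix.J (Fin n) F *ᵥ (M *ᵥ v))
      = u ⬝ᵥ (Matrix.J (Fin n) F *ᵥ v)) :
    M ∈ Matrix.symplecticGroup (Fin n) F := by
  rw [SymplecticGroup.mem_iff']
  have h1 : (Matrix.toBilin' (Matrix.J (Fin n) F)).comp (Matrix.toLin' M) (Matrix.toLin' M)
      = Matrix.toBilin' (Matrix.J (Fin n) F) := by
    refine LinearMap.ext₂ fun u v => ?_
    rw [LinearMap.BilinForm.comp_apply, Matrix.toLin'_apply, Matrix.toLin'_apply,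
      Matrix.toBilin'_apply', Matrix.toBilin'_apply']
    exact hp u v
  rw [Matrix.toBilin'_comp] at h1
  exact Matrix.toBilin'.injective h1

theorem spd_embed {T : Type*} [Group T] {ι : Type} [Fintype ι]
    (ρ : T →* Module.End F (ι → F × F)) (hρ : Function.Injective ρ)
    (hom : ∀ g v w, spdOm ι (ρ g v) (ρ g w) = spdOm ι v w) (n : ℕ)
    (hn : Fintype.card ι ≤ n) :
    ∃ φ : T →* ↥(Matrix.symplecticGroup (Fin n) F), Function.Injective φ := by
  classical
  have hcard : Fintype.card (ι ⊕ Fin (n - Fintype.card ι)) = Fintype.card (Fin n) := by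
    rw [Fintype.card_sum, Fintype.card_fin, Fintype.card_fin]
    omega
  let e : ι ⊕ Fin (n - Fintype.card ι) ≃ Fin n := Fintype.equivOfCardEq hcard
  let E : ((ι → F × F) × (Fin (n - Fintype.card ι) → F × F)) ≃ₗ[F] (Fin n ⊕ Fin n → F) :=
    ((LinearEquiv.sumArrowLequivProdArrow ι (Fin (n - Fintype.card ι)) F (F × F)).symm.trans
      (LinearEquiv.funCongrLeft F (F × F) e.symm)).trans (spdE3 n)
  let G : ((ι → F × F) × (Fin (n - Fintype.card ι) → F × F)) →
      ((ι → F × F) × (Fin (n - Fintype.card ι) → F × F)) → ι ⊕ Fin (n - Fintype.card ι) → F :=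
    fun p p' a => (Sum.elim p.1 p.2 a).2 * (Sum.elim p'.1 p'.2 a).1
      - (Sum.elim p.1 p.2 a).1 * (Sum.elim p'.1 p'.2 a).2
  have hE : ∀ p p' : (ι → F × F) × (Fin (n - Fintype.card ι) → F × F),
      (E p) ⬝ᵥ (Matrix.J (Fin n) F *ᵥ (E p'))
        = spdOm ι p.1 p'.1 + spdOm (Fin (n - Fintype.card ι)) p.2 p'.2 := by
    intro p p'
    rw [spd_form_sum]
    have h2 : ∀ i : Fin n, E p (Sum.inr i) * E p' (Sum.inl i) - E p (Sum.inl i) * E p' (Sum.inr i)
        = G p p' (e.symm i) := fun i => rfl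
    rw [Finset.sum_congr rfl (fun i _ => h2 i), Equiv.sum_comp e.symm (G p p'),
      Fintype.sum_sum_type]
    rfl
  let ρ₂ : T →* Module.End F ((ι → F × F) × (Fin (n - Fintype.card ι) → F × F)) :=
    { toFun := fun g => (ρ g).prodMap LinearMap.id
      map_one' := by
        apply LinearMap.ext
        intro v
        simp
      map_mul' := by
        intro a b
        apply LinearMap.ext
        intro v
        simp [Module.End.mul_apply] }
  have hρ₂ : Function.Injective ρ₂ := by
    intro a b hab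
    apply hρ
    apply LinearMap.ext
    intro u
    have h1 := congrArg (fun f : Module.End F ((ι → F × F) ×
      (Fin (n - Fintype.card ι) → F × F)) => (f (u, 0)).1) hab
    exact h1
  have hform : ∀ (g : T) (u u' : Fin n ⊕ Fin n → F),
      (spdConj E ρ₂ g u) ⬝ᵥ (Matrix.J (Fin n) F *ᵥ (spdConj E ρ₂ g u'))
        = u ⬝ᵥ (Matrix.J (Fin n) F *ᵥ u') := by
    intro g u u'
    have h1 := hE (ρ₂ g (E.symm u)) (ρ₂ g (E.symm u'))
    have h2 := hE (E.symm u) (E.symm u')
    rw [E.apply_symm_apply, E.apply_symm_apply] at h2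
    rw [spdConj_apply, spdConj_apply, h1, h2]
    show spdOm ι (ρ g (E.symm u).1) (ρ g (E.symm u').1) + _ = _
    rw [hom]
    rfl
  let Φ : T →* Matrix (Fin n ⊕ Fin n) (Fin n ⊕ Fin n) F :=
    (LinearMap.toMatrixAlgEquiv' (R := F) (n := Fin n ⊕ Fin n) :
      Module.End F (Fin n ⊕ Fin n → F) →* _).comp (spdConj E ρ₂)
  have hmv : ∀ (g : T) (u : Fin n ⊕ Fin n → F), Φ g *ᵥ u = spdConj E ρ₂ g u := by
    intro g u
    rw [← Matrix.toLinAlgEquiv'_apply]
    show Matrix.toLinAlgEquiv' (LinearMap.toMatrixAlgEquiv' (spdConj E ρ₂ g)) u = _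
    rw [Matrix.toLinAlgEquiv'_toMatrixAlgEquiv']
  have hmem : ∀ g : T, Φ g ∈ Matrix.symplecticGroup (Fin n) F := by
    intro g
    apply spd_mem_of_preserves
    intro u v
    rw [hmv, hmv]
    exact hform g u v
  refine ⟨Φ.codRestrict (Matrix.symplecticGroup (Fin n) F) hmem, ?_⟩
  intro a b hab
  apply spdConj_injective E ρ₂ hρ₂
  have h1 : Φ a = Φ b := congrArg Subtype.val hab
  exact (LinearMap.toMatrixAlgEquiv' (R := F) (n := Fin n ⊕ Fin n)).injective h1

end sp

/-- Sylow 2-subgroups of `Sp_{2n}(F)`, `|F|` odd, have derived length exactly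
`log₂ (2n) + 1`. -/
theorem spd_exact {F : Type u} [Field F] [Fintype F] (hodd : Odd (Fintype.card F)) (n : ℕ)
    (hn : 1 ≤ n) (R : Sylow 2 ↥(Matrix.symplecticGroup (Fin n) F)) :
    derivedSeries ↥(R : Subgroup ↥(Matrix.symplecticGroup (Fin n) F))
        (Nat.log 2 (2 * n) + 1) = ⊥ ∧
      derivedSeries ↥(R : Subgroup ↥(Matrix.symplecticGroup (Fin n) F))
        (Nat.log 2 (2 * n)) ≠ ⊥ := by
  classical
  constructor
  · let ψ : ↥(Matrix.symplecticGroup (Fin n) F) →* Matrix.GeneralLinearGroup (Fin (n + n)) F :=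
      (((Matrix.reindexAlgEquiv F F finSumFinEquiv :
          Matrix (Fin n ⊕ Fin n) (Fin n ⊕ Fin n) F ≃ₐ[F] Matrix (Fin (n + n)) (Fin (n + n)) F) :
        Matrix (Fin n ⊕ Fin n) (Fin n ⊕ Fin n) F →* Matrix (Fin (n + n)) (Fin (n + n)) F).comp
        (Matrix.symplecticGroup (Fin n) F).subtype).toHomUnits
    have hψ : Function.Injective ψ := by
      intro a b hab
      have h1 := congrArg Units.val hab
      rw [MonoidHom.coe_toHomUnits, MonoidHom.coe_toHomUnits] at h1
      exact Subtype.ext ((Matrix.reindexAlgEquiv F F finSumFinEquiv).injective h1)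
    have hpq : ¬ 2 ∣ Fintype.card F :=
      fun h => (Nat.not_even_iff_odd.mpr hodd) (even_iff_two_dvd.mpr h)
    have h := fd_main 2 hpq (n + n) R.isPGroup'
      (ψ.comp (R : Subgroup ↥(Matrix.symplecticGroup (Fin n) F)).subtype)
    have hord : orderOf ((Fintype.card F : ℕ) : ZMod 2) = 1 := by
      rw [ZMod.natCast_eq_one_iff_odd.mpr hodd, orderOf_one]
    rw [hord, Nat.div_one] at h
    rw [two_mul, eq_bot_iff]
    intro x hx
    have h2 := h hx
    rw [MonoidHom.mem_ker] at h2
    rw [Subgroup.mem_bot]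
    apply Subtype.ext
    apply hψ
    show ψ (x : ↥(Matrix.symplecticGroup (Fin n) F)) = ψ 1
    rw [map_one]
    exact h2
  · have hoddm : Fintype.card F % 2 = 1 := Nat.odd_iff.mp hodd
    obtain ⟨T, _, _, ι, _, ρ, hρ, hι, ⟨m, hm⟩, hom, hT⟩ :=
      spd_tower (F := F) hoddm (Nat.log 2 n)
    have hιn : Fintype.card ι ≤ n := by
      rw [hι]
      exact Nat.pow_log_le_self 2 (by omega)
    obtain ⟨φ, hφ⟩ := spd_embed ρ hρ hom n hιn
    have hQ : IsPGroup 2 φ.range :=
      (IsPGroup.of_card hm).of_surjective φ.rangeRestrict φ.rangeRestrict_surjective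
    obtain ⟨P', hP'⟩ := hQ.exists_le_sylow
    have hinj : Function.Injective (φ.codRestrict
        (P' : Subgroup ↥(Matrix.symplecticGroup (Fin n) F)) (fun s => hP' ⟨s, rfl⟩)) := by
      intro a b hab
      exact hφ (congrArg (fun w : (P' : Subgroup ↥(Matrix.symplecticGroup (Fin n) F)) =>
        (w : ↥(Matrix.symplecticGroup (Fin n) F))) hab)
    have h1 : derivedSeries (P' : Subgroup ↥(Matrix.symplecticGroup (Fin n) F))
        (0 + (Nat.log 2 n + 1)) ≠ ⊥ :=
      Helper18.PerfWr.long_of_inj 0 _ _ hinj (by rw [derivedSeries_zero]; exact le_top)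
        (MonoidHom.id T) Function.surjective_id hT
    rw [zero_add] at h1
    have hlog : Nat.log 2 (2 * n) = Nat.log 2 n + 1 := by
      rw [mul_comm]
      exact Nat.log_mul_base (by norm_num) (by omega)
    rw [hlog]
    intro h0
    apply h1
    rw [← map_derivedSeries_eq (f := (Sylow.equiv R P').toMonoidHom) (Sylow.equiv R P').surjective,
      h0, Subgroup.map_bot]

end Cfsg.Agent.Helper11
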