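import Mathlib

namespace Cfsg.Agent.Helper11

open scoped commutatorElement

universe u

/-- invariants: abelianization of exponent `p`, and for `p = 2` also for the kernel of `ε` -/
def SaGood (p : ℕ) (T : Type*) [Group T] (ε : T →* ℤˣ) : Prop :=
  (∀ x : T, x ^ p ∈ commutator T) ∧
    (p = 2 → ∀ x : T, ε x = 1 → x ^ 2 ∈ ⁅ε.ker, ε.ker⁆)

theorem sa_good_of_exp (p : ℕ) {T : Type*} [Group T] (ε : T →* ℤˣ) (h : ∀ x : T, x ^ p = 1) :
    SaGood p T ε := by
  refine ⟨fun x => ?_, fun hp x _ => ?_⟩
  · rw [h x]
    exact Subgroup.one_mem _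
  · have h1 := h x
    rw [hp] at h1
    rw [h1]
    exact Subgroup.one_mem _

theorem sa_good_prod (p : ℕ) {T₁ T₂ : Type*} [Group T₁] [Group T₂] (ε₁ : T₁ →* ℤˣ)
    (ε₂ : T₂ →* ℤˣ) (h₁ : SaGood p T₁ ε₁) (h₂ : SaGood p T₂ ε₂) :
    SaGood p (T₁ × T₂) (ε₁.coprod ε₂) := by
  have hl : ∀ a ∈ commutator T₁,
      ((a, 1) : T₁ × T₂) ∈ commutator ((T₁ × T₂)) := by
    intro a ha
    rw [commutator_def] at ha
    have h3 := Subgroup.mem_map_of_mem (MonoidHom.inl T₁ T₂) ha
    rw [Subgroup.map_commutator] at h3
    rw [commutator_def]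
    exact Subgroup.commutator_mono le_top le_top h3
  have hr : ∀ a ∈ commutator T₂,
      ((1, a) : T₁ × T₂) ∈ commutator ((T₁ × T₂)) := by
    intro a ha
    rw [commutator_def] at ha
    have h3 := Subgroup.mem_map_of_mem (MonoidHom.inr T₁ T₂) ha
    rw [Subgroup.map_commutator] at h3
    rw [commutator_def]
    exact Subgroup.commutator_mono le_top le_top h3
  refine ⟨fun x => ?_, fun hp x hx => ?_⟩
  · have h3 : x ^ p = (x.1 ^ p, 1) * (1, x.2 ^ p) := by
      ext <;> simp
    rw [h3]
    exact Subgroup.mul_mem _ (hl _ (h₁.1 x.1)) (hr _ (h₂.1 x.2))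
  · have hx' : ε₁ x.1 * ε₂ x.2 = 1 := by
      rw [← MonoidHom.coprod_apply]
      exact hx
    have hsq : x ^ 2 = (x.1 ^ 2, 1) * (1, x.2 ^ 2) := by
      ext <;> simp
    rw [hsq]
    have hinl : ∀ a : T₁, ε₁ a = 1 → ((a, 1) : T₁ × T₂) ∈ (ε₁.coprod ε₂).ker := by
      intro a ha
      rw [MonoidHom.mem_ker, MonoidHom.coprod_apply, ha, map_one, mul_one]
    have hinr : ∀ a : T₂, ε₂ a = 1 → ((1, a) : T₁ × T₂) ∈ (ε₁.coprod ε₂).ker := by
      intro a ha
      rw [MonoidHom.mem_ker, MonoidHom.coprod_apply, ha, map_one, mul_one]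
    rcases Int.units_eq_one_or (ε₁ x.1) with he | he
    · have he2 : ε₂ x.2 = 1 := by
        rw [he, one_mul] at hx'
        exact hx'
      refine Subgroup.mul_mem _ ?_ ?_
      · have h3 := Subgroup.mem_map_of_mem (MonoidHom.inl T₁ T₂) (h₁.2 hp x.1 he)
        rw [Subgroup.map_commutator] at h3
        refine Subgroup.commutator_mono ?_ ?_ h3 <;>
        · rintro _ ⟨a, ha, rfl⟩
          exact hinl a (MonoidHom.mem_ker.mp ha)
      · have h3 := Subgroup.mem_map_of_mem (MonoidHom.inr T₁ T₂) (h₂.2 hp x.2 he2)
        rw [Subgroup.map_commutator] at h3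
        refine Subgroup.commutator_mono ?_ ?_ h3 <;>
        · rintro _ ⟨a, ha, rfl⟩
          exact hinr a (MonoidHom.mem_ker.mp ha)
    · have he2 : ε₂ x.2 = -1 := by
        rw [he] at hx'
        rcases Int.units_eq_one_or (ε₂ x.2) with h4 | h4
        · rw [h4] at hx'
          exact absurd hx' (by decide)
        · exact h4
      have cl : commutator T₁
          ≤ (⁅(ε₁.coprod ε₂).ker, (ε₁.coprod ε₂).ker⁆).comap (MonoidHom.inl T₁ T₂) := by
        rw [commutator_def, Subgroup.commutator_le]
        intro g _ h _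
        rw [Subgroup.mem_comap]
        have key : ∀ g : T₁, ∃ b : T₂, (b = 1 ∨ b = x.2) ∧
            ((g, b) : T₁ × T₂) ∈ (ε₁.coprod ε₂).ker := by
          intro g
          rcases Int.units_eq_one_or (ε₁ g) with h1 | h1
          · exact ⟨1, Or.inl rfl, hinl g h1⟩
          · refine ⟨x.2, Or.inr rfl, ?_⟩
            rw [MonoidHom.mem_ker, MonoidHom.coprod_apply, h1, he2]
            decide
        obtain ⟨a, ha, hga⟩ := key g
        obtain ⟨b, hb, hhb⟩ := key h
        have hab : ⁅a, b⁆ = 1 := by
          rw [commutatorElement_eq_one_iff_mul_comm]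
          rcases ha with rfl | rfl <;> rcases hb with rfl | rfl <;> simp
        have h5 : MonoidHom.inl T₁ T₂ ⁅g, h⁆ = ⁅((g, a) : T₁ × T₂), (h, b)⁆ := by
          apply Prod.ext
          · rfl
          · exact hab.symm
        rw [h5]
        exact Subgroup.commutator_mem_commutator hga hhb
      have cr : commutator T₂
          ≤ (⁅(ε₁.coprod ε₂).ker, (ε₁.coprod ε₂).ker⁆).comap (MonoidHom.inr T₁ T₂) := by
        rw [commutator_def, Subgroup.commutator_le]
        intro g _ h _
        rw [Subgroup.mem_comap]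
        have key : ∀ g : T₂, ∃ b : T₁, (b = 1 ∨ b = x.1) ∧
            ((b, g) : T₁ × T₂) ∈ (ε₁.coprod ε₂).ker := by
          intro g
          rcases Int.units_eq_one_or (ε₂ g) with h1 | h1
          · exact ⟨1, Or.inl rfl, hinr g h1⟩
          · refine ⟨x.1, Or.inr rfl, ?_⟩
            rw [MonoidHom.mem_ker, MonoidHom.coprod_apply, h1, he]
            decide
        obtain ⟨a, ha, hga⟩ := key g
        obtain ⟨b, hb, hhb⟩ := key h
        have hab : ⁅a, b⁆ = 1 := by
          rw [commutatorElement_eq_one_iff_mul_comm]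
          rcases ha with rfl | rfl <;> rcases hb with rfl | rfl <;> simp
        have h5 : MonoidHom.inr T₁ T₂ ⁅g, h⁆ = ⁅((a, g) : T₁ × T₂), (b, h)⁆ := by
          apply Prod.ext
          · exact hab.symm
          · rfl
        rw [h5]
        exact Subgroup.commutator_mem_commutator hga hhb
      exact Subgroup.mul_mem _ (cl (hp ▸ h₁.1 x.1)) (cr (hp ▸ h₂.1 x.2))

theorem sa_wr_a (p : ℕ) [Fact p.Prime] {W : Type*} [Group W]
    (hW : ∀ w : W, w ^ p ∈ commutator W)
    (g : RegularWreathProduct W (Multiplicative (ZMod p))) :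
    g ^ p ∈ commutator (RegularWreathProduct W (Multiplicative (ZMod p))) := by
  classical
  let ιB : (Multiplicative (ZMod p) → W) →* RegularWreathProduct W (Multiplicative (ZMod p)) :=
    { toFun := fun f => ⟨f, 1⟩
      map_one' := rfl
      map_mul' := by
        intro a b
        ext <;> simp }
  have hg : g = ιB g.left * RegularWreathProduct.inl g.right := by
    ext <;> simp [ιB]
  have hc : g.right ^ p = 1 := by
    have h1 := pow_card_eq_one' (G := Multiplicative (ZMod p)) (x := g.right)
    rwa [Nat.card_eq_fintype_card, Fintype.card_multiplicative, ZMod.card] at h1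
  have h2 : g.left ^ p ∈ commutator (Multiplicative (ZMod p) → W) := by
    rw [commutator_def, ← Subgroup.pi_top Set.univ, Subgroup.commutator_pi_pi_of_finite]
    intro x _
    have h3 := hW (g.left x)
    rw [commutator_def] at h3
    exact h3
  have h4 : (Abelianization.of.comp ιB) (g.left ^ p) = 1 :=
    Abelianization.commutator_subset_ker (Abelianization.of.comp ιB) h2
  have h5 : Abelianization.of (g ^ p) = 1 := by
    rw [map_pow, hg, map_mul, mul_pow, ← map_pow, ← map_pow, ← map_pow, ← map_pow, hc, map_one,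
      map_one, mul_one]
    exact h4
  have h6 : g ^ p ∈ (Abelianization.of :
      RegularWreathProduct W (Multiplicative (ZMod p)) →* _).ker := h5
  rwa [Abelianization.ker_of] at h6

theorem sa_wr_b {W C : Type*} [Group W] [Group C] [Fintype C] (σ : C) (hσ : σ ≠ 1)
    (hC : ∀ c : C, c = 1 ∨ c = σ) (ε : W →* ℤˣ) (hW : SaGood 2 W ε)
    (ε' : RegularWreathProduct W C →* ℤˣ) (hε' : ∀ w, ε' w = ∏ x, ε (w.left x))
    (g : RegularWreathProduct W C) (hg : ε' g = 1) : g ^ 2 ∈ ⁅ε'.ker, ε'.ker⁆ := by
  classical
  have hσ2 : σ * σ = 1 := by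
    rcases hC (σ * σ) with h | h
    · exact h
    · exact absurd (mul_eq_left.mp h) hσ
  have hprod : ∀ F : C → ℤˣ, ∏ x, F x = F 1 * F σ := fun F =>
    Fintype.prod_eq_mul 1 σ (Ne.symm hσ) (fun x hx => absurd (hC x) (by tauto))
  let β : W × W →* RegularWreathProduct W C :=
    { toFun := fun d => ⟨fun x => if x = 1 then d.1 else d.2, 1⟩
      map_one' := by
        ext x
        · simp
        · rfl
      map_mul' := by
        intro a b
        ext x
        · simp only [RegularWreathProduct.mul_left, Pi.mul_apply, inv_one, one_mul, Prod.fst_mul,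
            Prod.snd_mul]
          split_ifs <;> rfl
        · simp }
  have hβ : ∀ d, ε' (β d) = ε d.1 * ε d.2 := by
    intro d
    rw [hε', hprod]
    simp [β, hσ]
  have hgood := sa_good_prod 2 ε ε hW hW
  have hd : (ε.coprod ε) (g.left 1, g.left σ) = 1 := by
    rw [MonoidHom.coprod_apply]
    rw [hε', hprod] at hg
    exact hg
  have hβd : β (g.left 1, g.left σ) = ⟨g.left, 1⟩ := by
    ext x
    · show (if x = 1 then g.left 1 else g.left σ) = g.left x
      rcases hC x with rfl | rfl
      · simp
      · simp [hσ]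
    · rfl
  have hmap : (⁅(ε.coprod ε).ker, (ε.coprod ε).ker⁆).map β ≤ ⁅ε'.ker, ε'.ker⁆ := by
    rw [Subgroup.map_commutator]
    apply Subgroup.commutator_mono <;>
    · rintro _ ⟨a, ha, rfl⟩
      have ha' := MonoidHom.mem_ker.mp ha
      rw [MonoidHom.coprod_apply] at ha'
      rw [MonoidHom.mem_ker, hβ]
      exact ha'
  have hb2 : (β (g.left 1, g.left σ)) ^ 2 ∈ ⁅ε'.ker, ε'.ker⁆ := by
    rw [← map_pow]
    exact hmap (Subgroup.mem_map_of_mem β (hgood.2 rfl _ hd))
  have hbK : β (g.left 1, g.left σ) ∈ ε'.ker := by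
    rw [MonoidHom.mem_ker, hβ]
    rw [MonoidHom.coprod_apply] at hd
    exact hd
  rcases hC g.right with hc | hc
  · have h7 : g = β (g.left 1, g.left σ) := by
      rw [hβd]
      ext <;> simp [hc]
    rw [h7]
    exact hb2
  · have htK : (RegularWreathProduct.inl σ : RegularWreathProduct W C) ∈ ε'.ker := by
      rw [MonoidHom.mem_ker, hε']
      simp
    have ht2 : (RegularWreathProduct.inl σ : RegularWreathProduct W C)
        * RegularWreathProduct.inl σ = 1 := by
      rw [← map_mul, hσ2, map_one]
    have hgt : g = β (g.left 1, g.left σ) * RegularWreathProduct.inl σ := by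
      rw [hβd]
      ext <;> simp [hc]
    have ht' : (RegularWreathProduct.inl σ : RegularWreathProduct W C)⁻¹
        = RegularWreathProduct.inl σ := inv_eq_of_mul_eq_one_right ht2
    have h8 : ∀ b t : RegularWreathProduct W C, t⁻¹ = t → (b * t) ^ 2 = b ^ 2 * ⁅b⁻¹, t⁆ := by
      intro b t ht
      rw [commutatorElement_def, ht, pow_two, pow_two]
      group
    have h9 := h8 (β (g.left 1, g.left σ)) (RegularWreathProduct.inl σ) ht'
    rw [show g ^ 2 = (β (g.left 1, g.left σ) * RegularWreathProduct.inl σ) ^ 2 from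
      congrArg (fun z => z ^ 2) hgt, h9]
    exact Subgroup.mul_mem _ hb2
      (Subgroup.commutator_mem_commutator (Subgroup.inv_mem _ hbK) htK)

theorem sa_sign_toPerm {S C Λ : Type*} [Group S] [Group C] [Fintype C] [DecidableEq C]
    [Fintype Λ] [DecidableEq Λ] [MulAction S Λ] (w : RegularWreathProduct S C) :
    Equiv.Perm.sign (RegularWreathProduct.toPerm S C Λ w) =
      (∏ x, Equiv.Perm.sign (MulAction.toPerm (w.left x) : Equiv.Perm Λ))
        * Equiv.Perm.sign (Equiv.mulLeft w.right) ^ Fintype.card Λ := by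
  have h : RegularWreathProduct.toPerm S C Λ w =
      (Equiv.prodCongrLeft (fun x => (MulAction.toPerm (w.left x) : Equiv.Perm Λ)))
        * (Equiv.prodCongrRight (fun _ : Λ => Equiv.mulLeft w.right)) := by
    ext ⟨l, x⟩ <;> rfl
  rw [h, map_mul, Equiv.Perm.sign_prodCongrLeft, Equiv.Perm.sign_prodCongrRight,
    Finset.prod_const, Finset.card_univ]

theorem sa_val (p : ℕ) [Fact p.Prime] (n : ℕ) (hn : 0 < n) :
    (∑ i ∈ Finset.range (Nat.log p n), p ^ i)
        + padicValNat p (n - p ^ Nat.log p n).factorial
      = padicValNat p n.factorial := by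
  have hp : p.Prime := Fact.out
  have hle : p ^ Nat.log p n ≤ n := Nat.pow_log_le_self p hn.ne'
  have hlt : n < p ^ (Nat.log p n + 1) := Nat.lt_pow_succ_log_self hp.one_lt n
  have h1 : padicValNat p (p ^ Nat.log p n).factorial = ∑ i ∈ Finset.range (Nat.log p n), p ^ i := by
    rw [← Nat.factorization_def _ hp,
      ← Nat.multiplicity_eq_factorization hp (Nat.factorial_ne_zero _),
      Nat.Prime.multiplicity_factorial_pow hp]
  have h2 : n.factorial = Nat.choose n (p ^ Nat.log p n) * (p ^ Nat.log p n).factorial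
      * (n - p ^ Nat.log p n).factorial := (Nat.choose_mul_factorial_mul_factorial hle).symm
  have h3 : padicValNat p (Nat.choose n (p ^ Nat.log p n)) = 0 := by
    rw [padicValNat_choose hle (Nat.lt_succ_self _), Finset.card_eq_zero,
      Finset.filter_eq_empty_iff]
    intro i hi
    rw [Finset.mem_Ico] at hi
    rw [not_le]
    by_cases hik : i ≤ Nat.log p n
    · have h4 : p ^ Nat.log p n % p ^ i = 0 := Nat.mod_eq_zero_of_dvd (pow_dvd_pow p hik)
      rw [h4, zero_add]
      exact Nat.mod_lt _ (pow_pos hp.pos _)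
    · push Not at hik
      have hpi : p ^ (Nat.log p n + 1) ≤ p ^ i := Nat.pow_le_pow_right hp.pos hik
      have h4 : p ^ Nat.log p n % p ^ i = p ^ Nat.log p n :=
        Nat.mod_eq_of_lt (lt_of_le_of_lt hle (lt_of_lt_of_le hlt hpi))
      have h5 : (n - p ^ Nat.log p n) % p ^ i = n - p ^ Nat.log p n :=
        Nat.mod_eq_of_lt (lt_of_le_of_lt (Nat.sub_le _ _) (lt_of_lt_of_le hlt hpi))
      rw [h4, h5]
      omega
  rw [h2, padicValNat.mul (Nat.mul_ne_zero (Nat.choose_pos hle).ne' (Nat.factorial_ne_zero _))
      (Nat.factorial_ne_zero _),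
    padicValNat.mul (Nat.choose_pos hle).ne' (Nat.factorial_ne_zero _), h3, h1, zero_add]

theorem sa_tower (p : ℕ) [Fact p.Prime] (k : ℕ) :
    ∃ (S : Type) (_ : Group S) (_ : Finite S) (Λ : Type) (_ : Fintype Λ) (_ : DecidableEq Λ)
      (j : S →* Equiv.Perm Λ), Function.Injective j ∧ Fintype.card Λ = p ^ k ∧
      Nat.card S = p ^ (∑ i ∈ Finset.range k, p ^ i) ∧ SaGood p S (Equiv.Perm.sign.comp j) := by
  classical
  have hp : p.Prime := Fact.out
  induction k with
  | zero =>
    refine ⟨Unit, inferInstance, inferInstance, Unit, inferInstance, inferInstance, 1, ?_, ?_,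
      ?_, ?_⟩
    · exact Function.injective_of_subsingleton _
    · simp
    · simp
    · exact sa_good_of_exp p _ (fun x => Subsingleton.elim _ _)
  | succ k ih =>
    obtain ⟨S, _, _, Λ, _, _, j, hj, hΛ, hS, hgood⟩ := ih
    let _ : MulAction S Λ := MulAction.compHom Λ j
    have hfaith : FaithfulSMul S Λ := ⟨fun h => hj (Equiv.ext h)⟩
    have hne : Nonempty Λ := by
      rw [← Fintype.card_pos_iff, hΛ]
      exact pow_pos hp.pos _
    have hC : Nat.card (Multiplicative (ZMod p)) = p := by
      rw [Nat.card_eq_fintype_card, Fintype.card_multiplicative, ZMod.card]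
    refine ⟨RegularWreathProduct S (Multiplicative (ZMod p)), inferInstance, inferInstance,
      Λ × Multiplicative (ZMod p), inferInstance, inferInstance,
      RegularWreathProduct.toPerm S (Multiplicative (ZMod p)) Λ,
      RegularWreathProduct.toPermInj S _ Λ, ?_, ?_, ?_, ?_⟩
    · rw [Fintype.card_prod, hΛ, Fintype.card_multiplicative, ZMod.card, ← pow_succ]
    · rw [RegularWreathProduct.card, hS, hC, geom_sum_succ, pow_succ, pow_mul']
    · exact fun g => sa_wr_a p hgood.1 g
    · intro hp2 g hg
      have hC2 : Nat.card (Multiplicative (ZMod p)) = 2 := by rw [hC, hp2]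
      obtain ⟨σ, hσ, huniq⟩ := (Nat.card_eq_two_iff' (1 : Multiplicative (ZMod p))).mp hC2
      have hCs : ∀ c : Multiplicative (ZMod p), c = 1 ∨ c = σ := by
        intro c
        by_cases hc : c = 1
        · exact Or.inl hc
        · exact Or.inr (huniq c hc)
      rcases Nat.eq_zero_or_pos k with hk | hk
      · -- `S` is trivial
        have hS1 : Nat.card S = 1 := by
          rw [hS, hk]
          simp
        have hsub : Subsingleton S := (Nat.card_eq_one_iff_unique.mp hS1).1
        have hg2 : g ^ 2 = 1 := by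
          have hc : g.right ^ 2 = 1 := by
            have h1 := pow_card_eq_one' (G := Multiplicative (ZMod p)) (x := g.right)
            rwa [hC2] at h1
          rw [pow_two]
          apply RegularWreathProduct.ext
          · exact Subsingleton.elim _ _
          · rw [RegularWreathProduct.mul_right, ← pow_two, hc]
            rfl
        rw [hg2]
        exact Subgroup.one_mem _
      · have heven : Even (Fintype.card Λ) := by
          rw [hΛ, hp2]
          exact (Nat.even_pow' hk.ne').mpr even_two
        have hε' : ∀ w : RegularWreathProduct S (Multiplicative (ZMod p)),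
            (Equiv.Perm.sign.comp (RegularWreathProduct.toPerm S (Multiplicative (ZMod p)) Λ)) w
              = ∏ x, (Equiv.Perm.sign.comp j) (w.left x) := by
          intro w
          rw [MonoidHom.comp_apply, sa_sign_toPerm]
          obtain ⟨m, hm⟩ := heven
          rw [hm, ← two_mul, pow_mul, Int.units_sq, one_pow, mul_one]
          have hmt : ∀ s : S, (MulAction.toPerm s : Equiv.Perm Λ) = j s :=
            fun s => Equiv.ext (fun l => rfl)
          exact Finset.prod_congr rfl (fun x _ => by rw [hmt]; rfl)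
        exact sa_wr_b σ hσ hCs (Equiv.Perm.sign.comp j) (hp2 ▸ hgood) _ hε' g hg

theorem sa_general (p : ℕ) [Fact p.Prime] (n : ℕ) :
    ∃ (T : Type) (_ : Group T) (_ : Finite T) (j : T →* Equiv.Perm (Fin n)),
      Function.Injective j ∧ Nat.card T = p ^ (padicValNat p n.factorial) ∧
      SaGood p T (Equiv.Perm.sign.comp j) := by
  classical
  have hp : p.Prime := Fact.out
  induction n using Nat.strong_induction_on with
  | _ n ih =>
    rcases Nat.eq_zero_or_pos n with rfl | hn
    · refine ⟨Unit, inferInstance, inferInstance, 1, Function.injective_of_subsingleton _, ?_,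
        sa_good_of_exp p _ (fun x => Subsingleton.elim _ _)⟩
      simp
    · obtain ⟨S, _, _, Λ, _, _, jS, hjS, hΛ, hS, hgS⟩ := sa_tower p (Nat.log p n)
      have hle : p ^ Nat.log p n ≤ n := Nat.pow_log_le_self p hn.ne'
      have hlt : n - p ^ Nat.log p n < n := Nat.sub_lt hn (pow_pos hp.pos _)
      obtain ⟨T, _, _, jT, hjT, hT, hgT⟩ := ih _ hlt
      have hcard : Fintype.card (Λ ⊕ Fin (n - p ^ Nat.log p n)) = Fintype.card (Fin n) := by
        rw [Fintype.card_sum, hΛ, Fintype.card_fin, Fintype.card_fin]
        omega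
      refine ⟨S × T, inferInstance, inferInstance,
        (Fintype.equivOfCardEq hcard).permCongrHom.toMonoidHom.comp
          ((Equiv.Perm.sumCongrHom Λ (Fin (n - p ^ Nat.log p n))).comp (jS.prodMap jT)), ?_, ?_,
        ?_⟩
      · exact ((Fintype.equivOfCardEq hcard).permCongrHom.injective).comp
          (Equiv.Perm.sumCongrHom_injective.comp (Prod.map_injective.mpr ⟨hjS, hjT⟩))
      · rw [Nat.card_prod, hS, hT, ← pow_add, sa_val p n hn]
      · have hε : Equiv.Perm.sign.comp ((Fintype.equivOfCardEq hcard).permCongrHom.toMonoidHom.comp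
            ((Equiv.Perm.sumCongrHom Λ (Fin (n - p ^ Nat.log p n))).comp (jS.prodMap jT)))
            = (Equiv.Perm.sign.comp jS).coprod (Equiv.Perm.sign.comp jT) := by
          apply MonoidHom.ext
          rintro ⟨a, b⟩
          rw [MonoidHom.coprod_apply]
          show Equiv.Perm.sign ((Fintype.equivOfCardEq hcard).permCongr
            (Equiv.sumCongr (jS a) (jT b))) = Equiv.Perm.sign (jS a) * Equiv.Perm.sign (jT b)
          rw [Equiv.Perm.sign_permCongr, Equiv.Perm.sign_sumCongr]
        rw [hε]
        exact sa_good_prod p _ _ hgS hgT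

theorem sa_transport (p : ℕ) {T G : Type*} [Group T] [Group G] (φ : T ≃* G)
    (h : ∀ x : T, x ^ p ∈ commutator T) (y : G) : y ^ p ∈ commutator G := by
  obtain ⟨x, rfl⟩ := φ.surjective y
  have h0 := h x
  rw [commutator_def] at h0
  have h1 := Subgroup.mem_map_of_mem φ.toMonoidHom h0
  rw [Subgroup.map_commutator, Subgroup.map_top_of_surjective φ.toMonoidHom φ.surjective] at h1
  rw [commutator_def, ← map_pow]
  exact h1

theorem sa_sym (p : ℕ) [Fact p.Prime] (n : ℕ) (P : Sylow p (Equiv.Perm (Fin n)))
    (x : (P : Subgroup (Equiv.Perm (Fin n)))) :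
    x ^ p ∈ commutator (P : Subgroup (Equiv.Perm (Fin n))) := by
  classical
  have hp : p.Prime := Fact.out
  obtain ⟨T, _, _, j, hj, hT, hg⟩ := sa_general p n
  have hcard : Nat.card j.range = p ^ (Nat.card (Equiv.Perm (Fin n))).factorization p := by
    rw [← Nat.card_congr (MonoidHom.ofInjective hj).toEquiv, hT, Nat.card_perm, Nat.card_fin,
      Nat.factorization_def _ hp]
  exact sa_transport p ((MonoidHom.ofInjective hj).trans
    (P.equiv (Sylow.ofCard j.range hcard)).symm) hg.1 x

theorem sa_alt (p : ℕ) [Fact p.Prime] (n : ℕ) (Q : Sylow p (alternatingGroup (Fin n)))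
    (x : (Q : Subgroup (alternatingGroup (Fin n)))) :
    x ^ p ∈ commutator (Q : Subgroup (alternatingGroup (Fin n))) := by
  classical
  have hp : p.Prime := Fact.out
  by_cases hn : n ≤ 1
  · have hsub : Subsingleton (Fin n) := Fin.subsingleton_iff_le_one.mpr hn
    have hsubP : Subsingleton (Equiv.Perm (Fin n)) :=
      ⟨fun a b => Equiv.ext (fun i => Subsingleton.elim _ _)⟩
    have h1 : x ^ p = 1 := Subsingleton.elim _ _
    rw [h1]
    exact Subgroup.one_mem _
  · push Not at hn
    have hnt : Nontrivial (Fin n) := Fin.nontrivial_iff_two_le.mpr hn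
    obtain ⟨T, _, _, j, hj, hT, hg⟩ := sa_general p n
    have hA : 2 * Nat.card (alternatingGroup (Fin n)) = n.factorial := by
      rw [two_mul_nat_card_alternatingGroup, Nat.card_perm, Nat.card_fin]
    have hApos : Nat.card (alternatingGroup (Fin n)) ≠ 0 := Nat.card_pos.ne'
    let κ : (Equiv.Perm.sign.comp j).ker →* alternatingGroup (Fin n) :=
      { toFun := fun k => ⟨j k.1, Equiv.Perm.mem_alternatingGroup.mpr (MonoidHom.mem_ker.mp k.2)⟩
        map_one' := Subtype.ext (map_one j)
        map_mul' := fun a b => Subtype.ext (map_mul j a.1 b.1) }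
    have hκ : Function.Injective κ := fun a b hab =>
      Subtype.ext (hj (congrArg (fun z : alternatingGroup (Fin n) =>
        (z : Equiv.Perm (Fin n))) hab))
    have hKA : Nat.card (Equiv.Perm.sign.comp j).ker ∣ Nat.card (alternatingGroup (Fin n)) := by
      rw [Nat.card_congr (MonoidHom.ofInjective hκ).toEquiv]
      exact Subgroup.card_subgroup_dvd_card _
    have hmain : Nat.card (Equiv.Perm.sign.comp j).ker
          = p ^ (Nat.card (alternatingGroup (Fin n))).factorization p ∧
        ∀ y ∈ (Equiv.Perm.sign.comp j).ker,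
          y ^ p ∈ ⁅(Equiv.Perm.sign.comp j).ker, (Equiv.Perm.sign.comp j).ker⁆ := by
      rw [Nat.factorization_def _ hp]
      by_cases hp2 : p = 2
      · constructor
        · have hval : 1 + padicValNat p (Nat.card (alternatingGroup (Fin n)))
              = padicValNat p n.factorial := by
            rw [← hA, padicValNat.mul (by norm_num) hApos, hp2]
            simp
          have hPG : IsPGroup p (Equiv.Perm.sign.comp j).ker :=
            (IsPGroup.of_card hT).to_subgroup _
          obtain ⟨b, hb⟩ := IsPGroup.iff_card.mp hPG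
          have hble : b ≤ padicValNat p (Nat.card (alternatingGroup (Fin n))) := by
            rw [← padicValNat_dvd_iff_le hApos, ← hb]
            exact hKA
          have hidx := Subgroup.card_mul_index (Equiv.Perm.sign.comp j).ker
          rw [Subgroup.index_ker, hT, hb] at hidx
          have hr2 : Nat.card (Equiv.Perm.sign.comp j).range ∣ 2 := by
            have h3 := Subgroup.card_subgroup_dvd_card (Equiv.Perm.sign.comp j).range
            rwa [Nat.card_eq_fintype_card (α := ℤˣ), Fintype.card_units_int] at h3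
          rcases (Nat.dvd_prime Nat.prime_two).mp hr2 with h4 | h4
          · rw [h4, mul_one] at hidx
            have h5 := Nat.pow_right_injective hp.two_le hidx
            omega
          · rw [h4] at hidx
            have h5 : p ^ (b + 1) = p ^ padicValNat p n.factorial := by
              rw [pow_succ, ← hidx, hp2]
            have h6 := Nat.pow_right_injective hp.two_le h5
            rw [hb]
            congr 1
            omega
        · intro y hy
          rw [hp2]
          exact hg.2 hp2 y (MonoidHom.mem_ker.mp hy)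
      · have htriv : ∀ y : T, (Equiv.Perm.sign.comp j) y = 1 := by
          intro y
          have h1 : ((Equiv.Perm.sign.comp j) y) ^ 2 = 1 := Int.units_sq _
          have h2 : ((Equiv.Perm.sign.comp j) y) ^ (p ^ padicValNat p n.factorial) = 1 := by
            rw [← map_pow, ← hT, pow_card_eq_one', map_one]
          have h3 := pow_gcd_eq_one.mpr ⟨h1, h2⟩
          have hcop : Nat.gcd 2 (p ^ padicValNat p n.factorial) = 1 :=
            Nat.Coprime.pow_right _ ((Nat.coprime_primes Nat.prime_two hp).mpr (Ne.symm hp2))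
          rwa [hcop, pow_one] at h3
        have hker : (Equiv.Perm.sign.comp j).ker = ⊤ := by
          rw [eq_top_iff]
          intro y _
          exact MonoidHom.mem_ker.mpr (htriv y)
        constructor
        · rw [hker, Subgroup.card_top, hT]
          congr 1
          have hpv : padicValNat p 2 = 0 :=
            padicValNat_primes (hq := ⟨Nat.prime_two⟩) hp2
          rw [← hA, padicValNat.mul (by norm_num) hApos, hpv, zero_add]
        · intro y _
          rw [hker, ← commutator_def]
          exact hg.1 y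
    have hcard : Nat.card κ.range
        = p ^ (Nat.card (alternatingGroup (Fin n))).factorization p := by
      rw [← Nat.card_congr (MonoidHom.ofInjective hκ).toEquiv]
      exact hmain.1
    have hK : ∀ z : (Equiv.Perm.sign.comp j).ker,
        z ^ p ∈ commutator (Equiv.Perm.sign.comp j).ker := by
      intro z
      have h1 := hmain.2 z.1 z.2
      rw [← Subgroup.map_subtype_commutator] at h1
      obtain ⟨w, hw, hwz⟩ := h1
      have h2 : w = z ^ p := Subtype.ext hwz
      rw [← h2]
      exact hw
    exact sa_transport p ((MonoidHom.ofInjective hκ).trans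
      (Q.equiv (Sylow.ofCard κ.range hcard)).symm) hK x

end Cfsg.Agent.Helper11
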