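import Mathlib
import Cfsg.Agent.Helper11.SpDL
import Cfsg.Agent.Helper11.SylAb
import Cfsg.Agent.Helper1.Quat
import Cfsg.Agent.S2301
import Cfsg.Agent.Helper7.SpDeg

set_option autoImplicit false

namespace Cfsg.Agent.Helper11

open scoped commutatorElement

universe u

/-- generalized quaternion groups have elementary abelian abelianization -/
theorem spa_quat_good {G : Type*} [Group G] [Finite G] (m : ℕ) (a x : G) (hm : 2 ≤ m)
    (hoa : orderOf a = 2 ^ m) (hcard : Nat.card G = 2 ^ (m + 1))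
    (hx : x ∉ Subgroup.zpowers a) (hxa : x * a * x⁻¹ = a⁻¹) (hx2 : x ^ 2 = a ^ (2 ^ (m - 1)))
    (g : G) : g ^ 2 ∈ commutator G := by
  have ha2 : a ^ 2 ∈ commutator G := by
    have h1 : ⁅x, a⁆ ∈ commutator G := by
      rw [commutator_def]
      exact Subgroup.commutator_mem_commutator (Subgroup.mem_top x) (Subgroup.mem_top a)
    have h2 : ⁅x, a⁆ = (a ^ 2)⁻¹ := by
      rw [commutatorElement_def, hxa, pow_two, mul_inv_rev]
    rw [h2] at h1
    exact (Subgroup.inv_mem_iff _).mp h1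
  have hidx : (Subgroup.zpowers a).index = 2 := by
    have h1 := Subgroup.card_mul_index (Subgroup.zpowers a)
    rw [Nat.card_zpowers, hoa, hcard, pow_succ] at h1
    exact Nat.eq_of_mul_eq_mul_left (by positivity) h1
  have hx2' : x ^ 2 ∈ commutator G := by
    rw [hx2]
    obtain ⟨k, hk⟩ : ∃ k, m - 1 = k + 1 := ⟨m - 2, by omega⟩
    rw [hk, pow_succ, mul_comm, pow_mul]
    exact Subgroup.pow_mem _ ha2 _
  by_cases hg : g ∈ Subgroup.zpowers a
  · obtain ⟨k, rfl⟩ := Subgroup.mem_zpowers_iff.mp hg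
    have h1 : (a ^ k) ^ 2 = (a ^ 2) ^ k := by
      rw [← zpow_natCast, ← zpow_natCast, ← zpow_mul, ← zpow_mul, mul_comm]
    rw [h1]
    exact Subgroup.zpow_mem _ ha2 _
  · have h1 : g * x⁻¹ ∈ Subgroup.zpowers a := by
      rw [Subgroup.mul_mem_iff_of_index_two hidx]
      constructor
      · intro h
        exact absurd h hg
      · intro h
        exact absurd ((Subgroup.inv_mem_iff _).mp h) hx
    obtain ⟨k, hk⟩ := Subgroup.mem_zpowers_iff.mp h1
    have hgk : g = a ^ k * x := by
      rw [hk]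
      group
    have h2 : x * a ^ k * x⁻¹ = (a ^ k)⁻¹ := by
      rw [← conj_zpow, hxa, inv_zpow]
    have h3 : g ^ 2 = x ^ 2 := by
      rw [hgk, pow_two, pow_two]
      have h4 : a ^ k * x * (a ^ k * x) = a ^ k * (x * a ^ k * x⁻¹) * (x * x) := by group
      rw [h4, h2, mul_inv_cancel, one_mul]
    rw [h3]
    exact hx2'

section spa

variable {F : Type u} [Field F]

/-- involutions of `SL₂` in odd characteristic are `-1` -/
theorem spa_invol (h2 : (2 : F) ≠ 0) (g : Matrix.SpecialLinearGroup (Fin 2) F) (hg : g ^ 2 = 1)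
    (hg1 : g ≠ 1) : g.1 0 0 = -1 ∧ g.1 0 1 = 0 ∧ g.1 1 0 = 0 ∧ g.1 1 1 = -1 := by
  have hdet : g.1 0 0 * g.1 1 1 - g.1 0 1 * g.1 1 0 = 1 := by
    have h := g.2
    rw [Matrix.det_fin_two] at h
    exact h
  have hsq : g.1 * g.1 = 1 := by
    have h := congrArg Subtype.val hg
    rw [pow_two] at h
    exact h
  have h00 := congrFun (congrFun hsq 0) 0
  have h01 := congrFun (congrFun hsq 0) 1
  have h10 := congrFun (congrFun hsq 1) 0
  have h11 := congrFun (congrFun hsq 1) 1
  simp only [Matrix.mul_apply, Fin.sum_univ_two, Matrix.one_apply_eq, Matrix.one_apply_ne,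
    ne_eq, Fin.zero_eq_one_iff, Fin.one_eq_zero_iff, OfNat.ofNat_ne_one, not_false_eq_true] at h00 h01 h10 h11
  by_cases hs : g.1 0 0 + g.1 1 1 = 0
  · exfalso
    apply h2
    have hd : g.1 1 1 = -g.1 0 0 := by linear_combination hs
    rw [hd] at hdet
    linear_combination -(h00 + hdet)
  · have hb : g.1 0 1 = 0 := by
      have h : g.1 0 1 * (g.1 0 0 + g.1 1 1) = 0 := by linear_combination h01
      rcases mul_eq_zero.mp h with h | h
      · exact h
      · exact absurd h hs
    have hc : g.1 1 0 = 0 := by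
      have h : g.1 1 0 * (g.1 0 0 + g.1 1 1) = 0 := by linear_combination h10
      rcases mul_eq_zero.mp h with h | h
      · exact h
      · exact absurd h hs
    rw [hb, hc] at hdet
    rw [hb] at h00
    have ha : g.1 0 0 = 1 ∨ g.1 0 0 = -1 := by
      have h : (g.1 0 0 - 1) * (g.1 0 0 + 1) = 0 := by linear_combination h00
      rcases mul_eq_zero.mp h with h | h
      · exact Or.inl (by linear_combination h)
      · exact Or.inr (by linear_combination h)
    rcases ha with ha | ha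
    · exfalso
      apply hg1
      have hd : g.1 1 1 = 1 := by
        rw [ha] at hdet
        linear_combination hdet
      apply Subtype.ext
      ext i j
      fin_cases i <;> fin_cases j <;> simp [ha, hb, hc, hd]
    · refine ⟨ha, hb, hc, ?_⟩
      rw [ha] at hdet
      linear_combination -hdet

theorem spa_invol_unique (h2 : (2 : F) ≠ 0) (g h : Matrix.SpecialLinearGroup (Fin 2) F)
    (hg : g ^ 2 = 1) (hg1 : g ≠ 1) (hh : h ^ 2 = 1) (hh1 : h ≠ 1) : g = h := by
  obtain ⟨a1, a2, a3, a4⟩ := spa_invol h2 g hg hg1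
  obtain ⟨b1, b2, b3, b4⟩ := spa_invol h2 h hh hh1
  apply Subtype.ext
  ext i j
  fin_cases i <;> fin_cases j <;> simp [a1, a2, a3, a4, b1, b2, b3, b4]

/-- a Sylow 2-subgroup of `SL₂(F)` with elementary abelian abelianization -/
theorem spa_base [Fintype F] (hodd : Odd (Fintype.card F)) :
    ∃ Q : Subgroup (Matrix.SpecialLinearGroup (Fin 2) F),
      Nat.card Q = 2 ^ (Fintype.card F ^ 2 - 1).factorization 2 ∧
      ∀ g : Q, g ^ 2 ∈ commutator Q := by
  classical
  have hoddm : Fintype.card F % 2 = 1 := Nat.odd_iff.mp hodd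
  obtain ⟨a, b, hab⟩ : ∃ a b : F, a ^ 2 + b ^ 2 = -1 := by
    obtain ⟨a, b, h⟩ := FiniteField.exists_root_sum_quadratic (R := F)
      (f := Polynomial.X ^ 2) (g := Polynomial.X ^ 2 - Polynomial.C (-1))
      (Polynomial.degree_X_pow 2) (Polynomial.degree_X_pow_sub_C (by decide) _) hoddm
    refine ⟨a, b, ?_⟩
    simp at h
    linear_combination h
  have h2 : (2 : F) ≠ 0 := by
    apply Ring.two_ne_zero
    intro hc
    have h3 := FiniteField.even_card_iff_char_two.mp hc
    omega
  have hG := spd_quat_pgroup (spdX : Matrix.SpecialLinearGroup (Fin 2) F) (spdY a b hab)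
    spdX_pow (spdY_pow a b hab) (spdXYX a b hab)
  obtain ⟨Q, hQ⟩ := hG.exists_le_sylow
  have hXQ : (spdX : Matrix.SpecialLinearGroup (Fin 2) F) ∈ (Q : Subgroup _) :=
    hQ (Subgroup.mem_sup_right (Subgroup.mem_zpowers _))
  have hYQ : spdY a b hab ∈ (Q : Subgroup _) :=
    hQ (Subgroup.mem_sup_left (Subgroup.mem_zpowers _))
  have hP : IsPGroup 2 (Q : Subgroup (Matrix.SpecialLinearGroup (Fin 2) F)) := Q.isPGroup'
  have huniq : ∀ H K : Subgroup (Q : Subgroup (Matrix.SpecialLinearGroup (Fin 2) F)),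
      Nat.card H = 2 → Nat.card K = 2 → H = K := by
    have key : ∀ H K : Subgroup (Q : Subgroup (Matrix.SpecialLinearGroup (Fin 2) F)),
        Nat.card H = 2 → Nat.card K = 2 → H ≤ K := by
      intro H K hH hK y hy
      by_cases hy1 : y = 1
      · rw [hy1]
        exact Subgroup.one_mem _
      · have hKne : K ≠ ⊥ := by
          intro h
          rw [h, Subgroup.card_bot] at hK
          omega
        obtain ⟨⟨k, hkK⟩, hk1⟩ := (Subgroup.ne_bot_iff_exists_ne_one).mp hKne
        have hk1' : k ≠ 1 := fun h => hk1 (Subtype.ext h)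
        have hy2 : y ^ 2 = 1 := by
          have h := pow_card_eq_one' (G := H) (x := ⟨y, hy⟩)
          rw [hH] at h
          exact congrArg Subtype.val h
        have hk2 : k ^ 2 = 1 := by
          have h := pow_card_eq_one' (G := K) (x := ⟨k, hkK⟩)
          rw [hK] at h
          exact congrArg Subtype.val h
        have hyk : (y : Matrix.SpecialLinearGroup (Fin 2) F) = k :=
          spa_invol_unique h2 _ _ (by rw [← Subgroup.coe_pow, hy2]; rfl)
            (fun h => hy1 (Subtype.ext h)) (by rw [← Subgroup.coe_pow, hk2]; rfl)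
            (fun h => hk1' (Subtype.ext h))
        have : y = k := Subtype.ext hyk
        rw [this]
        exact hkK
    intro H K hH hK
    exact le_antisymm (key H K hH hK) (key K H hK hH)
  have hnc : ¬ IsCyclic (Q : Subgroup (Matrix.SpecialLinearGroup (Fin 2) F)) := by
    intro hcyc
    have hcomm := (inferInstance :
      IsMulCommutative (Q : Subgroup (Matrix.SpecialLinearGroup (Fin 2) F))).is_comm.comm
      ⟨spdX, hXQ⟩ ⟨spdY a b hab, hYQ⟩
    exact spdXY_ne a b hab h2 (congrArg Subtype.val hcomm)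
  obtain ⟨m, a', x', hm, hoa, hcard, hx, hxa, hx2⟩ := Helper1.quat_structure hP huniq hnc
  refine ⟨Q, ?_, spa_quat_good m a' x' hm hoa hcard hx hxa hx2⟩
  have hq1 : 1 < Fintype.card F := Fintype.one_lt_card
  have hq2 : Fintype.card F ^ 2 - 1 ≠ 0 := by
    have : 1 < Fintype.card F ^ 2 := Nat.one_lt_pow (by norm_num) hq1
    omega
  rw [Q.card_eq_multiplicity, S2301.card_SL2, Nat.factorization_mul (by omega) hq2,
    Finsupp.add_apply, Nat.factorization_eq_zero_of_not_dvd (by omega), zero_add]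

/-- the symplectic wreath tower over the full Sylow 2-subgroup of `SL₂` -/
theorem spa_tower [Fintype F] (c : ℕ) (Q : Subgroup (Matrix.SpecialLinearGroup (Fin 2) F))
    (hQc : Nat.card Q = 2 ^ c) (hQg : ∀ g : Q, g ^ 2 ∈ commutator Q) (j : ℕ) :
    ∃ (T : Type u) (_ : Group T) (_ : Finite T) (ι : Type) (_ : Fintype ι)
      (ρ : T →* Module.End F (ι → F × F)),
      Function.Injective ρ ∧ Fintype.card ι = 2 ^ j ∧
      Nat.card T = 2 ^ (2 ^ j * c + ∑ i ∈ Finset.range j, 2 ^ i) ∧
      (∀ g v w, spdOm ι (ρ g v) (ρ g w) = spdOm ι v w) ∧ ∀ g : T, g ^ 2 ∈ commutator T := by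
  classical
  induction j with
  | zero =>
    have hfin : Finite Q := Nat.finite_of_card_ne_zero (by rw [hQc]; positivity)
    refine ⟨↥Q, inferInstance, inferInstance, Unit, inferInstance,
      spdBase.comp (Subgroup.subtype _), ?_, ?_, ?_, ?_, hQg⟩
    · exact spdBase_injective.comp (Subgroup.subtype_injective _)
    · simp
    · rw [hQc]
      simp
    · intro g v w
      exact spdBase_om _ v w
  | succ j ih =>
    obtain ⟨T, _, _, ι, _, ρ, hρ, hι, hm, hom, hT⟩ := ih
    have hC : Nat.card (Multiplicative (ZMod 2)) = 2 := by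
      rw [Nat.card_eq_fintype_card, Fintype.card_multiplicative, ZMod.card]
    have hne : Nonempty ι := by
      rw [← Fintype.card_pos_iff, hι]
      positivity
    refine ⟨RegularWreathProduct T (Multiplicative (ZMod 2)), inferInstance, inferInstance,
      Multiplicative (ZMod 2) × ι, inferInstance, spdWr (Multiplicative (ZMod 2)) ρ, ?_, ?_,
      ?_, ?_, ?_⟩
    · exact spdConj_injective _ _ (fdpWr_injective ρ hρ)
    · rw [Fintype.card_prod, Fintype.card_multiplicative, ZMod.card, hι, pow_succ, mul_comm]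
    · rw [RegularWreathProduct.card, hm, hC, ← pow_mul, ← pow_succ]
      congr 1
      have h : ∑ k ∈ Finset.range j, 2 ^ (k + 1) = (∑ i ∈ Finset.range j, 2 ^ i) * 2 := by
        rw [Finset.sum_mul]
        exact Finset.sum_congr rfl (fun k _ => pow_succ 2 k)
      rw [Finset.sum_range_succ', h]
      ring
    · exact spdWr_om _ ρ hom
    · exact sa_wr_a 2 hT

/-- block sum of two representations on pair spaces -/
def spaSum {T₁ T₂ : Type*} [Group T₁] [Group T₂] {ι₁ ι₂ : Type*}
    (ρ₁ : T₁ →* Module.End F (ι₁ → F × F)) (ρ₂ : T₂ →* Module.End F (ι₂ → F × F)) :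
    T₁ × T₂ →* Module.End F (ι₁ ⊕ ι₂ → F × F) where
  toFun g :=
    { toFun := fun v => Sum.elim (ρ₁ g.1 (fun i => v (Sum.inl i))) (ρ₂ g.2 (fun i => v (Sum.inr i)))
      map_add' := by
        intro v w
        funext s
        rcases s with i | i
        · exact congrFun (map_add (ρ₁ g.1) (fun i => v (Sum.inl i)) (fun i => w (Sum.inl i))) i
        · exact congrFun (map_add (ρ₂ g.2) (fun i => v (Sum.inr i)) (fun i => w (Sum.inr i))) i
      map_smul' := by
        intro r v
        funext s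
        rcases s with i | i
        · exact congrFun (map_smul (ρ₁ g.1) r (fun i => v (Sum.inl i))) i
        · exact congrFun (map_smul (ρ₂ g.2) r (fun i => v (Sum.inr i))) i }
  map_one' := by
    apply LinearMap.ext
    intro v
    funext s
    rcases s with i | i
    · show ρ₁ 1 (fun i => v (Sum.inl i)) i = v (Sum.inl i)
      rw [map_one]
      rfl
    · show ρ₂ 1 (fun i => v (Sum.inr i)) i = v (Sum.inr i)
      rw [map_one]
      rfl
  map_mul' := by
    intro g h
    apply LinearMap.ext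
    intro v
    funext s
    rcases s with i | i
    · show ρ₁ (g.1 * h.1) (fun i => v (Sum.inl i)) i
        = ρ₁ g.1 (ρ₁ h.1 (fun i => v (Sum.inl i))) i
      rw [map_mul]
      rfl
    · show ρ₂ (g.2 * h.2) (fun i => v (Sum.inr i)) i
        = ρ₂ g.2 (ρ₂ h.2 (fun i => v (Sum.inr i))) i
      rw [map_mul]
      rfl

theorem spaSum_injective {T₁ T₂ : Type*} [Group T₁] [Group T₂] {ι₁ ι₂ : Type*}
    (ρ₁ : T₁ →* Module.End F (ι₁ → F × F)) (ρ₂ : T₂ →* Module.End F (ι₂ → F × F))
    (h₁ : Function.Injective ρ₁) (h₂ : Function.Injective ρ₂) :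
    Function.Injective (spaSum ρ₁ ρ₂) := by
  rintro ⟨a, b⟩ ⟨a', b'⟩ hab
  have e1 : a = a' := by
    apply h₁
    apply LinearMap.ext
    intro v
    funext i
    exact congrArg (fun f : Module.End F (ι₁ ⊕ ι₂ → F × F) => f (Sum.elim v 0) (Sum.inl i)) hab
  have e2 : b = b' := by
    apply h₂
    apply LinearMap.ext
    intro v
    funext i
    exact congrArg (fun f : Module.End F (ι₁ ⊕ ι₂ → F × F) => f (Sum.elim 0 v) (Sum.inr i)) hab
  rw [e1, e2]

theorem spaSum_om {T₁ T₂ : Type*} [Group T₁] [Group T₂] {ι₁ ι₂ : Type*} [Fintype ι₁]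
    [Fintype ι₂]
    (ρ₁ : T₁ →* Module.End F (ι₁ → F × F)) (ρ₂ : T₂ →* Module.End F (ι₂ → F × F))
    (h₁ : ∀ g v w, spdOm ι₁ (ρ₁ g v) (ρ₁ g w) = spdOm ι₁ v w)
    (h₂ : ∀ g v w, spdOm ι₂ (ρ₂ g v) (ρ₂ g w) = spdOm ι₂ v w)
    (g : T₁ × T₂) (v w : ι₁ ⊕ ι₂ → F × F) :
    spdOm (ι₁ ⊕ ι₂) (spaSum ρ₁ ρ₂ g v) (spaSum ρ₁ ρ₂ g w) = spdOm (ι₁ ⊕ ι₂) v w := by
  unfold spdOm
  rw [Fintype.sum_sum_type, Fintype.sum_sum_type]
  congr 1
  · exact h₁ g.1 (fun i => v (Sum.inl i)) (fun i => w (Sum.inl i))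
  · exact h₂ g.2 (fun i => v (Sum.inr i)) (fun i => w (Sum.inr i))

theorem spa_prod_good {T₁ T₂ : Type*} [Group T₁] [Group T₂]
    (h₁ : ∀ g : T₁, g ^ 2 ∈ commutator T₁) (h₂ : ∀ g : T₂, g ^ 2 ∈ commutator T₂)
    (g : T₁ × T₂) : g ^ 2 ∈ commutator (T₁ × T₂) := by
  have k₁ : SaGood 2 T₁ 1 := by
    refine ⟨h₁, fun _ x _ => ?_⟩
    rw [MonoidHom.ker_one, ← commutator_def]
    exact h₁ x
  have k₂ : SaGood 2 T₂ 1 := by
    refine ⟨h₂, fun _ x _ => ?_⟩
    rw [MonoidHom.ker_one, ← commutator_def]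
    exact h₂ x
  exact (sa_good_prod 2 _ _ k₁ k₂).1 g

/-- the model of a Sylow 2-subgroup of `Sp_{2n}` -/
theorem spa_general [Fintype F] (c : ℕ) (Q : Subgroup (Matrix.SpecialLinearGroup (Fin 2) F))
    (hQc : Nat.card Q = 2 ^ c) (hQg : ∀ g : Q, g ^ 2 ∈ commutator Q) (n : ℕ) :
    ∃ (T : Type u) (_ : Group T) (_ : Finite T) (ι : Type) (_ : Fintype ι)
      (ρ : T →* Module.End F (ι → F × F)),
      Function.Injective ρ ∧ Fintype.card ι = n ∧
      Nat.card T = 2 ^ (n * c + padicValNat 2 n.factorial) ∧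
      (∀ g v w, spdOm ι (ρ g v) (ρ g w) = spdOm ι v w) ∧ ∀ g : T, g ^ 2 ∈ commutator T := by
  classical
  induction n using Nat.strong_induction_on with
  | _ n ih =>
    rcases Nat.eq_zero_or_pos n with rfl | hn
    · refine ⟨PUnit, inferInstance, inferInstance, Empty, inferInstance, 1,
        Function.injective_of_subsingleton _, ?_, ?_, ?_, ?_⟩
      · simp
      · simp
      · intro g v w
        simp [spdOm]
      · intro g
        have h1 : g ^ 2 = 1 := Subsingleton.elim _ _
        rw [h1]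
        exact Subgroup.one_mem _
    · obtain ⟨S, _, _, Λ, _, ρS, hρS, hΛ, hS, homS, hgS⟩ := spa_tower c Q hQc hQg (Nat.log 2 n)
      have hle : 2 ^ Nat.log 2 n ≤ n := Nat.pow_log_le_self 2 hn.ne'
      have hlt : n - 2 ^ Nat.log 2 n < n := Nat.sub_lt hn (by positivity)
      obtain ⟨T, _, _, ι, _, ρT, hρT, hι, hT, homT, hgT⟩ := ih _ hlt
      refine ⟨S × T, inferInstance, inferInstance, Λ ⊕ ι, inferInstance, spaSum ρS ρT,
        spaSum_injective ρS ρT hρS hρT, ?_, ?_, spaSum_om ρS ρT homS homT,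
        spa_prod_good hgS hgT⟩
      · rw [Fintype.card_sum, hΛ, hι]
        omega
      · rw [Nat.card_prod, hS, hT, ← pow_add]
        congr 1
        have h1 := sa_val 2 n hn
        have h2 : 2 ^ Nat.log 2 n * c + (n - 2 ^ Nat.log 2 n) * c = n * c := by
          rw [← Nat.add_mul, Nat.add_sub_cancel' hle]
        omega

end spa

theorem spa_term (q : ℕ) (hq : Odd q) (hq1 : 1 < q) (i : ℕ) :
    (q ^ (2 * (i + 1)) - 1).factorization 2
      = (q ^ 2 - 1).factorization 2 + padicValNat 2 (i + 1) := by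
  have hnd : ¬ 2 ∣ q := fun h => (Nat.not_even_iff_odd.mpr hq) (even_iff_two_dvd.mpr h)
  have hd : 2 ∣ q - 1 := by
    obtain ⟨k, hk⟩ := hq
    exact ⟨k, by omega⟩
  have h1 := padicValNat.pow_two_sub_pow (x := q) (y := 1) hq1 hd hnd
    (n := 2 * (i + 1)) (by omega) (even_two_mul _)
  have h2 := padicValNat.pow_two_sub_pow (x := q) (y := 1) hq1 hd hnd
    (n := 2) (by omega) even_two
  rw [one_pow] at h1 h2
  have h3 : padicValNat 2 (2 * (i + 1)) = 1 + padicValNat 2 (i + 1) := by
    rw [padicValNat.mul (by norm_num) (by omega), padicValNat_self]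
  have h4 : padicValNat 2 2 = 1 := padicValNat_self
  rw [Nat.factorization_def _ Nat.prime_two, Nat.factorization_def _ Nat.prime_two]
  omega

theorem spa_val (q : ℕ) (hq : Odd q) (hq1 : 1 < q) (n : ℕ) :
    (q ^ (n ^ 2) * ∏ i : Fin n, (q ^ (2 * ((i : ℕ) + 1)) - 1)).factorization 2
      = n * (q ^ 2 - 1).factorization 2 + padicValNat 2 n.factorial := by
  have hnd : ¬ 2 ∣ q := fun h => (Nat.not_even_iff_odd.mpr hq) (even_iff_two_dvd.mpr h)
  rw [Helper7.sp_val_sum q n 2 (by omega) hnd]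
  induction n with
  | zero => simp
  | succ n ih =>
    rw [Finset.sum_range_succ, ih, spa_term q hq hq1 n, Nat.factorial_succ,
      padicValNat.mul (by omega) (Nat.factorial_ne_zero _)]
    ring

/-- Sylow 2-subgroups of `Sp_{2n}(F)`, `|F|` odd, have elementary abelian abelianization -/
theorem spa_main {F : Type u} [Field F] [Fintype F] (hF : Odd (Fintype.card F)) (n : ℕ)
    (P : Sylow 2 (Matrix.symplecticGroup (Fin n) F))
    (x : (P : Subgroup (Matrix.symplecticGroup (Fin n) F))) :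
    x ^ 2 ∈ commutator (P : Subgroup (Matrix.symplecticGroup (Fin n) F)) := by
  classical
  obtain ⟨Q, hQc, hQg⟩ := spa_base (F := F) hF
  obtain ⟨T, _, _, ι, _, ρ, hρ, hι, hT, hom, hg⟩ := spa_general _ Q hQc hQg n
  obtain ⟨φ, hφ⟩ := spd_embed ρ hρ hom n hι.le
  have hcard : Nat.card φ.range
      = 2 ^ (Nat.card (Matrix.symplecticGroup (Fin n) F)).factorization 2 := by
    rw [← Nat.card_congr (MonoidHom.ofInjective hφ).toEquiv, hT,
      Helper15.card_symplecticGroup (F := F) rfl n, spa_val _ hF Fintype.one_lt_card]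
  exact sa_transport 2 ((MonoidHom.ofInjective hφ).trans
    (P.equiv (Sylow.ofCard φ.range hcard)).symm) hg x

end Cfsg.Agent.Helper11
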