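import Mathlib
import Cfsg.Agent.Helper11.SpAb
import Cfsg.Agent.Helper11.SlAb1
import Cfsg.Agent.Helper2.LinGroups

set_option autoImplicit false

namespace Cfsg.Agent.Helper11

open scoped commutatorElement

open Module

universe u

section sla

variable {F : Type u} [Field F]

/-- determinant character of a representation -/
noncomputable def slaDet {T : Type*} [Group T] {V : Type*} [AddCommGroup V] [Module F V]
    (ρ : T →* Module.End F V) : T →* Fˣ :=
  ((LinearMap.det : Module.End F V →* F).comp ρ).toHomUnits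

theorem slaDet_coe {T : Type*} [Group T] {V : Type*} [AddCommGroup V] [Module F V]
    (ρ : T →* Module.End F V) (g : T) : ((slaDet ρ g : Fˣ) : F) = LinearMap.det (ρ g) := rfl

theorem sla_det_conj {T : Type*} [Group T] {V V' : Type*} [AddCommGroup V] [Module F V]
    [AddCommGroup V'] [Module F V'] (E : V ≃ₗ[F] V') (ρ : T →* Module.End F V) (g : T) :
    LinearMap.det (spdConj E ρ g) = LinearMap.det (ρ g) := by
  have h1 : spdConj E ρ g = (E : V →ₗ[F] V') ∘ₗ (ρ g) ∘ₗ (E.symm : V' →ₗ[F] V) := rfl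
  rw [h1, LinearMap.det_conj]

theorem sla_det_swap {C : Type*} [Group C] [Fintype C] {ι : Type*} [Fintype ι] (r : C)
    (hr : r * r = 1) :
    LinearMap.det (LinearMap.funLeft F (ι → F × F) (fun x : C => r⁻¹ * x)) = 1 := by
  classical
  let E : ((C → ι → F) × (C → ι → F)) ≃ₗ[F] (C → ι → F × F) :=
    { toFun := fun p x i => (p.1 x i, p.2 x i)
      invFun := fun v => (fun x i => (v x i).1, fun x i => (v x i).2)
      map_add' := fun v w => rfl
      map_smul' := fun c v => rfl
      left_inv := fun v => rfl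
      right_inv := fun p => rfl }
  let S' : Module.End F (C → ι → F) := LinearMap.funLeft F (ι → F) (fun x : C => r⁻¹ * x)
  have h1 : LinearMap.funLeft F (ι → F × F) (fun x : C => r⁻¹ * x)
      = (E : _ →ₗ[F] _) ∘ₗ (S'.prodMap S') ∘ₗ (E.symm : _ →ₗ[F] _) := by
    apply LinearMap.ext
    intro v
    rfl
  have h2 : S' * S' = 1 := by
    apply LinearMap.ext
    intro v
    funext x
    show v (r⁻¹ * (r⁻¹ * x)) = v x
    rw [← mul_assoc, ← mul_inv_rev, hr, inv_one, one_mul]
  rw [h1, LinearMap.det_conj, LinearMap.det_prodMap, ← map_mul, h2, map_one]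

theorem sla_det_wr {D : Type*} [Group D] {ι : Type*} [Fintype ι]
    (ρ : D →* Module.End F (ι → F × F))
    (w : RegularWreathProduct D (Multiplicative (ZMod 2))) :
    LinearMap.det (spdWr (Multiplicative (ZMod 2)) ρ w) = ∏ x, LinearMap.det (ρ (w.left x)) := by
  classical
  have h1 : LinearMap.det (spdWr (Multiplicative (ZMod 2)) ρ w) = LinearMap.det (fdpWr ρ w) :=
    sla_det_conj _ _ w
  have h2 : fdpWr ρ w = (LinearMap.pi fun x => (ρ (w.left x)).comp (LinearMap.proj x))
      ∘ₗ (LinearMap.funLeft F (ι → F × F) (fun x => w.right⁻¹ * x)) := by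
    apply LinearMap.ext
    intro v
    rfl
  have hr : w.right * w.right = 1 := by
    have h := pow_card_eq_one' (G := Multiplicative (ZMod 2)) (x := w.right)
    rw [Nat.card_eq_fintype_card, Fintype.card_multiplicative, ZMod.card, pow_two] at h
    exact h
  rw [h1, h2, LinearMap.det_comp, LinearMap.det_pi, sla_det_swap _ hr, mul_one]

theorem slaDet_wr {D : Type*} [Group D] {ι : Type*} [Fintype ι]
    (ρ : D →* Module.End F (ι → F × F))
    (w : RegularWreathProduct D (Multiplicative (ZMod 2))) :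
    slaDet (spdWr (Multiplicative (ZMod 2)) ρ) w = ∏ x, slaDet ρ (w.left x) := by
  apply Units.ext
  rw [Units.coe_prod, slaDet_coe, sla_det_wr]
  rfl

theorem sla_det_sum {T₁ T₂ : Type*} [Group T₁] [Group T₂] {ι₁ ι₂ : Type*} [Fintype ι₁]
    [Fintype ι₂]
    (ρ₁ : T₁ →* Module.End F (ι₁ → F × F)) (ρ₂ : T₂ →* Module.End F (ι₂ → F × F))
    (g : T₁ × T₂) :
    LinearMap.det (spaSum ρ₁ ρ₂ g) = LinearMap.det (ρ₁ g.1) * LinearMap.det (ρ₂ g.2) := by
  classical
  have h1 : spaSum ρ₁ ρ₂ g
      = ((LinearEquiv.sumArrowLequivProdArrow ι₁ ι₂ F (F × F)).symm : _ →ₗ[F] _)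
        ∘ₗ ((ρ₁ g.1).prodMap (ρ₂ g.2))
        ∘ₗ ((LinearEquiv.sumArrowLequivProdArrow ι₁ ι₂ F (F × F)).symm.symm : _ →ₗ[F] _) := by
    apply LinearMap.ext
    intro v
    funext s
    rcases s with i | i <;> rfl
  rw [h1, LinearMap.det_conj, LinearMap.det_prodMap]

theorem slaDet_sum {T₁ T₂ : Type*} [Group T₁] [Group T₂] {ι₁ ι₂ : Type*} [Fintype ι₁]
    [Fintype ι₂]
    (ρ₁ : T₁ →* Module.End F (ι₁ → F × F)) (ρ₂ : T₂ →* Module.End F (ι₂ → F × F)) :
    slaDet (spaSum ρ₁ ρ₂) = (slaDet ρ₁).coprod (slaDet ρ₂) := by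
  apply MonoidHom.ext
  intro g
  apply Units.ext
  rw [MonoidHom.coprod_apply, Units.val_mul, slaDet_coe, slaDet_coe, slaDet_coe, sla_det_sum]

/-- the natural representation of `GL₂` on `Unit → F × F` -/
def slaBase : Matrix.GeneralLinearGroup (Fin 2) F →* Module.End F (Unit → F × F) :=
  spdConj ((LinearEquiv.finTwoArrow F F).trans (LinearEquiv.funUnique Unit F (F × F)).symm)
    (fdpMat 2)

theorem slaBase_injective : Function.Injective (slaBase (F := F)) :=
  spdConj_injective _ _ (fdpMat_injective 2)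

theorem slaBase_det (g : Matrix.GeneralLinearGroup (Fin 2) F) :
    LinearMap.det (slaBase g) = (g : Matrix (Fin 2) (Fin 2) F).det := by
  have h1 : LinearMap.det (slaBase g) = LinearMap.det (fdpMat 2 g) := sla_det_conj _ _ g
  rw [h1]
  exact LinearMap.det_toLin' _

/-- matrix realization of a representation, with determinant control -/
theorem sla_embed {T : Type*} [Group T] {V : Type*} [AddCommGroup V] [Module F V]
    [Module.Finite F V] (ρ : T →* Module.End F V) (hρ : Function.Injective ρ) (n : ℕ)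
    (hn : finrank F V = n) :
    ∃ φ : T →* Matrix.GeneralLinearGroup (Fin n) F, Function.Injective φ ∧
      ∀ g, (φ g : Matrix (Fin n) (Fin n) F).det = LinearMap.det (ρ g) := by
  classical
  have hfin : finrank F V = finrank F (Fin n → F) := by
    rw [Module.finrank_fin_fun, hn]
  let E : V ≃ₗ[F] (Fin n → F) := LinearEquiv.ofFinrankEq _ _ hfin
  let Φ : T →* Matrix (Fin n) (Fin n) F :=
    (LinearMap.toMatrixAlgEquiv' (R := F) (n := Fin n) : Module.End F (Fin n → F) →* _).comp
      (spdConj E ρ)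
  refine ⟨Φ.toHomUnits, ?_, ?_⟩
  · intro a b hab
    apply spdConj_injective E ρ hρ
    have h1 := congrArg Units.val hab
    rw [MonoidHom.coe_toHomUnits, MonoidHom.coe_toHomUnits] at h1
    exact (LinearMap.toMatrixAlgEquiv' (R := F) (n := Fin n)).injective h1
  · intro g
    rw [MonoidHom.coe_toHomUnits]
    show (LinearMap.toMatrix' (spdConj E ρ g)).det = _
    rw [LinearMap.det_toMatrix', sla_det_conj]

/-- a `GL`-valued hom of determinant one, as an `SL`-valued hom -/
def slaToSL {T : Type*} [Group T] {n : ℕ} (φ : T →* Matrix.GeneralLinearGroup (Fin n) F)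
    (h : ∀ g, (φ g : Matrix (Fin n) (Fin n) F).det = 1) :
    T →* Matrix.SpecialLinearGroup (Fin n) F where
  toFun g := ⟨(φ g : Matrix (Fin n) (Fin n) F), h g⟩
  map_one' := Subtype.ext (by simp)
  map_mul' a b := Subtype.ext (by
    show ((φ (a * b) : Matrix.GeneralLinearGroup (Fin n) F) : Matrix (Fin n) (Fin n) F)
      = (φ a : Matrix (Fin n) (Fin n) F) * (φ b : Matrix (Fin n) (Fin n) F)
    rw [map_mul, Units.val_mul])

theorem slaToSL_injective {T : Type*} [Group T] {n : ℕ}
    (φ : T →* Matrix.GeneralLinearGroup (Fin n) F)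
    (h : ∀ g, (φ g : Matrix (Fin n) (Fin n) F).det = 1) (hφ : Function.Injective φ) :
    Function.Injective (slaToSL φ h) := by
  intro a b hab
  apply hφ
  apply Units.ext
  exact congrArg Subtype.val hab

/-- the determinant-one part of a Sylow 2-subgroup of `GL_n` is a Sylow 2-subgroup of `SL_n` -/
theorem sla_ker_card [Fintype F] {T : Type*} [Group T] [Finite T] (n : ℕ) [NeZero n]
    (φ : T →* Matrix.GeneralLinearGroup (Fin n) F) (hφ : Function.Injective φ)
    (hT : Nat.card T = 2 ^ (Nat.card (Matrix.GeneralLinearGroup (Fin n) F)).factorization 2)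
    (d : T →* Fˣ) (hd : ∀ g, ((d g : Fˣ) : F) = (φ g : Matrix (Fin n) (Fin n) F).det) :
    ∃ ψ : d.ker →* Matrix.SpecialLinearGroup (Fin n) F, Function.Injective ψ ∧
      Nat.card ψ.range = 2 ^ (Nat.card (Matrix.SpecialLinearGroup (Fin n) F)).factorization 2 := by
  classical
  have hdet1 : ∀ g : d.ker, ((φ.comp d.ker.subtype) g : Matrix (Fin n) (Fin n) F).det = 1 := by
    intro g
    have h1 := hd g.1
    rw [MonoidHom.mem_ker.mp g.2] at h1
    exact h1.symm
  have hψ : Function.Injective (slaToSL (φ.comp d.ker.subtype) hdet1) :=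
    slaToSL_injective _ _ (hφ.comp (Subgroup.subtype_injective _))
  refine ⟨slaToSL (φ.comp d.ker.subtype) hdet1, hψ, ?_⟩
  have hGL := Helper2.card_GL_eq_card_SL_mul (n := Fin n) (F := F)
  have hSL0 : Nat.card (Matrix.SpecialLinearGroup (Fin n) F) ≠ 0 := Nat.card_pos.ne'
  have hU0 : Nat.card Fˣ ≠ 0 := Nat.card_pos.ne'
  have hβ : (Nat.card (Matrix.GeneralLinearGroup (Fin n) F)).factorization 2
      = (Nat.card (Matrix.SpecialLinearGroup (Fin n) F)).factorization 2
        + (Nat.card Fˣ).factorization 2 := by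
    rw [hGL, Nat.factorization_mul hSL0 hU0, Finsupp.add_apply]
  have hidx := Subgroup.card_mul_index d.ker
  rw [Subgroup.index_ker, hT] at hidx
  obtain ⟨k, hk, hkK⟩ := (Nat.dvd_prime_pow Nat.prime_two).mp (Dvd.intro _ hidx)
  obtain ⟨r, hr, hrR⟩ := (Nat.dvd_prime_pow Nat.prime_two).mp (Dvd.intro_left _ hidx)
  have hra : r ≤ (Nat.card Fˣ).factorization 2 := by
    rw [← Nat.Prime.pow_dvd_iff_le_factorization Nat.prime_two hU0, ← hrR]
    exact Subgroup.card_subgroup_dvd_card _
  have hcardψ : Nat.card (slaToSL (φ.comp d.ker.subtype) hdet1).range = 2 ^ k := by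
    rw [← Nat.card_congr (MonoidHom.ofInjective hψ).toEquiv, hkK]
  have hks : k ≤ (Nat.card (Matrix.SpecialLinearGroup (Fin n) F)).factorization 2 := by
    rw [← Nat.Prime.pow_dvd_iff_le_factorization Nat.prime_two hSL0, ← hcardψ]
    exact Subgroup.card_subgroup_dvd_card _
  have hkr : k + r = (Nat.card (Matrix.GeneralLinearGroup (Fin n) F)).factorization 2 := by
    rw [hkK, hrR, ← pow_add] at hidx
    exact Nat.pow_right_injective (le_refl 2) hidx
  rw [hcardψ]
  congr 1
  omega

end sla

end Cfsg.Agent.Helper11
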