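import Mathlib
import Cfsg.Agent.Helper11.SlAb2

set_option autoImplicit false

namespace Cfsg.Agent.Helper11

open scoped commutatorElement

open Module

universe u

section sla3

variable {F : Type u} [Field F]

theorem sla_two_val [Fintype F] (hq : Fintype.card F % 4 = 3) (u : Fˣ) (k : ℕ)
    (hu : u ^ 2 ^ k = 1) : u = 1 ∨ u = -1 := by
  have h1 : orderOf u ∣ 2 ^ k := orderOf_dvd_of_pow_eq_one hu
  obtain ⟨i, hi, hio⟩ := (Nat.dvd_prime_pow Nat.prime_two).mp h1
  have h2 : orderOf u ∣ Fintype.card F - 1 := by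
    have h := orderOf_dvd_natCard u
    rw [Nat.card_units, Nat.card_eq_fintype_card] at h
    exact h
  have h3 : i ≤ 1 := by
    by_contra hc
    push Not at hc
    have h4 : 2 ^ 2 ∣ Fintype.card F - 1 := by
      refine dvd_trans (pow_dvd_pow 2 hc) ?_
      rw [← hio]
      exact h2
    omega
  have h4 : u ^ 2 = 1 := by
    apply orderOf_dvd_iff_pow_eq_one.mp
    rw [hio]
    exact pow_dvd_pow 2 h3
  have h5 : ((u : F) - 1) * ((u : F) + 1) = 0 := by
    have h := congrArg Units.val h4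
    rw [Units.val_pow_eq_pow_val, Units.val_one] at h
    linear_combination h
  rcases mul_eq_zero.mp h5 with h | h
  · left
    apply Units.ext
    rw [Units.val_one]
    linear_combination h
  · right
    apply Units.ext
    rw [Units.val_neg, Units.val_one]
    linear_combination h

theorem sla_neg_ne (h2 : (2 : F) ≠ 0) : (-1 : Fˣ) ≠ 1 := by
  intro h
  have h1 := congrArg Units.val h
  rw [Units.val_neg, Units.val_one] at h1
  apply h2
  linear_combination -h1

/-- a Sylow 2-subgroup of `GL₂(F)` with the kernel invariant -/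
theorem sla_base [Fintype F] (hodd : Odd (Fintype.card F)) :
    ∃ B : Subgroup (Matrix.GeneralLinearGroup (Fin 2) F),
      Nat.card B = 2 ^ (Nat.card (Matrix.GeneralLinearGroup (Fin 2) F)).factorization 2 ∧
      SlaK (slaDet (slaBase.comp B.subtype)) ∧
      (Fintype.card F % 4 = 3 → ∀ x : B, x ^ 2 ∈ commutator B) := by
  classical
  have hoddm : Fintype.card F % 2 = 1 := Nat.odd_iff.mp hodd
  have h2 : (2 : F) ≠ 0 := by
    apply Ring.two_ne_zero
    intro hc
    have h3 := FiniteField.even_card_iff_char_two.mp hc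
    omega
  let M : Matrix (Fin 2) (Fin 2) F := !![1, 0; 0, -1]
  have hMM : M * M = 1 := by
    ext i j
    fin_cases i <;> fin_cases j <;> simp [M, Matrix.mul_apply, Fin.sum_univ_two]
  let t : Matrix.GeneralLinearGroup (Fin 2) F := ⟨M, M, hMM, hMM⟩
  have ht2 : t * t = 1 := Units.ext hMM
  have htdet : (t : Matrix (Fin 2) (Fin 2) F).det = -1 := by
    show M.det = -1
    simp [M, Matrix.det_fin_two_of]
  have hPt : IsPGroup 2 (Subgroup.zpowers t) := by
    rintro ⟨g, hg⟩
    obtain ⟨i, rfl⟩ := Subgroup.mem_zpowers_iff.mp hg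
    refine ⟨1, Subtype.ext ?_⟩
    show (t ^ i) ^ 2 ^ 1 = 1
    rw [pow_one, ← zpow_natCast, ← zpow_mul, mul_comm, zpow_mul, zpow_natCast, pow_two, ht2,
      one_zpow]
  obtain ⟨B, hB⟩ := hPt.exists_le_sylow
  have htB : t ∈ (B : Subgroup (Matrix.GeneralLinearGroup (Fin 2) F)) :=
    hB (Subgroup.mem_zpowers t)
  obtain ⟨ε, hε⟩ : ∃ ε : (B : Subgroup (Matrix.GeneralLinearGroup (Fin 2) F)) →* Fˣ,
      ε = slaDet (slaBase.comp (B : Subgroup (Matrix.GeneralLinearGroup (Fin 2) F)).subtype) :=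
    ⟨_, rfl⟩
  have hεdet : ∀ g : (B : Subgroup (Matrix.GeneralLinearGroup (Fin 2) F)),
      ((ε g : Fˣ) : F) = (((B : Subgroup (Matrix.GeneralLinearGroup (Fin 2) F)).subtype g :
        Matrix.GeneralLinearGroup (Fin 2) F) : Matrix (Fin 2) (Fin 2) F).det := by
    intro g
    rw [hε, slaDet_coe]
    exact slaBase_det _
  have hcard := B.card_eq_multiplicity
  obtain ⟨ψ, hψ, hψc⟩ := sla_ker_card 2
    (B : Subgroup (Matrix.GeneralLinearGroup (Fin 2) F)).subtype
    (Subgroup.subtype_injective _) hcard ε hεdet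
  obtain ⟨Q, hQc, hQg⟩ := spa_base (F := F) hodd
  have hq1 : 1 < Fintype.card F := Fintype.one_lt_card
  have hq2 : Fintype.card F ^ 2 - 1 ≠ 0 := by
    have : 1 < Fintype.card F ^ 2 := Nat.one_lt_pow (by norm_num) hq1
    omega
  have hQc' : Nat.card Q
      = 2 ^ (Nat.card (Matrix.SpecialLinearGroup (Fin 2) F)).factorization 2 := by
    rw [hQc, S2301.card_SL2, Nat.factorization_mul (by omega) hq2,
      Finsupp.add_apply,
      Nat.factorization_eq_zero_of_not_dvd (n := Fintype.card F) (p := 2) (by omega), zero_add]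
  have hKgood : ∀ y : ε.ker, y ^ 2 ∈ commutator ε.ker :=
    sa_transport 2 (((MonoidHom.ofInjective hψ).trans
      ((Sylow.ofCard ψ.range hψc).equiv (Sylow.ofCard Q hQc'))).symm) hQg
  have hK : SlaK ε := sla_of_ker ε hKgood
  refine ⟨B, hcard, hε ▸ hK, ?_⟩
  intro hq4 x
  have hval : ∀ y : (B : Subgroup (Matrix.GeneralLinearGroup (Fin 2) F)),
      ε y = 1 ∨ ε y = -1 := by
    intro y
    obtain ⟨k, hk⟩ := B.isPGroup' y
    exact sla_two_val hq4 (ε y) k (by rw [← map_pow, hk, map_one])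
  obtain ⟨t', ht'⟩ : ∃ t' : (B : Subgroup (Matrix.GeneralLinearGroup (Fin 2) F)),
      t' = ⟨t, htB⟩ := ⟨_, rfl⟩
  have hεt : ε t' = -1 := by
    apply Units.ext
    rw [hεdet, Units.val_neg, Units.val_one, ht']
    exact htdet
  have ht2' : t' ^ 2 = 1 := by
    rw [ht', pow_two]
    exact Subtype.ext ht2
  have hker : ∀ y : (B : Subgroup (Matrix.GeneralLinearGroup (Fin 2) F)), ε y = 1 →
      y ^ 2 ∈ commutator (B : Subgroup (Matrix.GeneralLinearGroup (Fin 2) F)) := by
    intro y hy
    rw [commutator_def]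
    exact Subgroup.commutator_mono le_top le_top (hK y hy)
  rcases hval x with hx | hx
  · exact hker x hx
  · obtain ⟨y, hy⟩ : ∃ y, y = x * t'⁻¹ := ⟨_, rfl⟩
    have hy1 : ε y = 1 := by
      rw [hy, map_mul, map_inv, hx, hεt, mul_inv_cancel]
    have hxy : x = y * t' := by
      rw [hy]
      group
    rw [hxy, sla_sq_mul, ht2', mul_one]
    refine Subgroup.mul_mem _ (hker _ hy1) ?_
    rw [commutator_def]
    exact Subgroup.commutator_mem_commutator (Subgroup.mem_top _) (Subgroup.mem_top _)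

/-- the wreath tower over a Sylow 2-subgroup of `GL₂` -/
theorem sla_tower [Fintype F] {B : Type u} [Group B] [Finite B]
    (ρ₀ : B →* Module.End F (Unit → F × F)) (hρ₀ : Function.Injective ρ₀) (c : ℕ)
    (hB : Nat.card B = 2 ^ c) (hK : SlaK (slaDet ρ₀)) (j : ℕ) :
    ∃ (T : Type u) (_ : Group T) (_ : Finite T) (ι : Type) (_ : Fintype ι)
      (ρ : T →* Module.End F (ι → F × F)),
      Function.Injective ρ ∧ Fintype.card ι = 2 ^ j ∧
      Nat.card T = 2 ^ (2 ^ j * c + ∑ i ∈ Finset.range j, 2 ^ i) ∧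
      SlaK (slaDet ρ) ∧ ((∀ x : B, x ^ 2 ∈ commutator B) → ∀ x : T, x ^ 2 ∈ commutator T) := by
  classical
  induction j with
  | zero =>
    refine ⟨B, inferInstance, inferInstance, Unit, inferInstance, ρ₀, hρ₀, ?_, ?_, hK,
      fun h => h⟩
    · simp
    · rw [hB]
      simp
  | succ j ih =>
    obtain ⟨T, _, _, ι, _, ρ, hρ, hι, hm, hKT, hT⟩ := ih
    have hC : Nat.card (Multiplicative (ZMod 2)) = 2 := by
      rw [Nat.card_eq_fintype_card, Fintype.card_multiplicative, ZMod.card]
    obtain ⟨σ, hσ, huniq⟩ := (Nat.card_eq_two_iff' (1 : Multiplicative (ZMod 2))).mp hC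
    have hCs : ∀ c : Multiplicative (ZMod 2), c = 1 ∨ c = σ := by
      intro c
      by_cases hc : c = 1
      · exact Or.inl hc
      · exact Or.inr (huniq c hc)
    have hne : Nonempty ι := by
      rw [← Fintype.card_pos_iff, hι]
      positivity
    refine ⟨RegularWreathProduct T (Multiplicative (ZMod 2)), inferInstance, inferInstance,
      Multiplicative (ZMod 2) × ι, inferInstance, spdWr (Multiplicative (ZMod 2)) ρ, ?_, ?_,
      ?_, ?_, ?_⟩
    · exact spdConj_injective _ _ (fdpWr_injective ρ hρ)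
    · rw [Fintype.card_prod, Fintype.card_multiplicative, ZMod.card, hι, pow_succ, mul_comm]
    · rw [RegularWreathProduct.card, hm, hC, ← pow_mul, ← pow_succ]
      congr 1
      have h : ∑ k ∈ Finset.range j, 2 ^ (k + 1) = (∑ i ∈ Finset.range j, 2 ^ i) * 2 := by
        rw [Finset.sum_mul]
        exact Finset.sum_congr rfl (fun k _ => pow_succ 2 k)
      rw [Finset.sum_range_succ', h]
      ring
    · exact sla_wr σ hσ hCs (slaDet ρ) hKT _ (slaDet_wr ρ)
    · intro h
      exact sa_wr_a 2 (hT h)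

/-- the model of a Sylow 2-subgroup of `GL_{2n}`, two-valued determinants -/
theorem sla_general [Fintype F] {B : Type u} [Group B] [Finite B]
    (ρ₀ : B →* Module.End F (Unit → F × F)) (hρ₀ : Function.Injective ρ₀) (c : ℕ)
    (hB : Nat.card B = 2 ^ c) (hK : SlaK (slaDet ρ₀))
    (hz : ∀ (u : Fˣ) (k : ℕ), u ^ 2 ^ k = 1 → u = 1 ∨ u = -1) (hneg : (-1 : Fˣ) ≠ 1)
    (hB1 : ∀ x : B, x ^ 2 ∈ commutator B) (n : ℕ) :
    ∃ (T : Type u) (_ : Group T) (_ : Finite T) (ι : Type) (_ : Fintype ι)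
      (ρ : T →* Module.End F (ι → F × F)),
      Function.Injective ρ ∧ Fintype.card ι = n ∧
      Nat.card T = 2 ^ (n * c + padicValNat 2 n.factorial) ∧
      SlaK (slaDet ρ) ∧ ∀ x : T, x ^ 2 ∈ commutator T := by
  classical
  induction n using Nat.strong_induction_on with
  | _ n ih =>
    rcases Nat.eq_zero_or_pos n with rfl | hn
    · refine ⟨PUnit, inferInstance, inferInstance, Empty, inferInstance, 1,
        Function.injective_of_subsingleton _, ?_, ?_, ?_, ?_⟩
      · simp
      · simp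
      · intro x _
        have h1 : x ^ 2 = 1 := Subsingleton.elim _ _
        rw [h1]
        exact Subgroup.one_mem _
      · intro g
        have h1 : g ^ 2 = 1 := Subsingleton.elim _ _
        rw [h1]
        exact Subgroup.one_mem _
    · obtain ⟨S, _, _, Λ, _, ρS, hρS, hΛ, hS, hKS, hgS⟩ :=
        sla_tower ρ₀ hρ₀ c hB hK (Nat.log 2 n)
      have hle : 2 ^ Nat.log 2 n ≤ n := Nat.pow_log_le_self 2 hn.ne'
      have hlt : n - 2 ^ Nat.log 2 n < n := Nat.sub_lt hn (by positivity)
      obtain ⟨T, _, _, ι, _, ρT, hρT, hι, hT, hKT, hgT⟩ := ih _ hlt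
      have hvS : ∀ x : S, slaDet ρS x = 1 ∨ slaDet ρS x = -1 := by
        intro x
        apply hz _ (2 ^ Nat.log 2 n * c + ∑ i ∈ Finset.range (Nat.log 2 n), 2 ^ i)
        rw [← map_pow, ← hS, pow_card_eq_one', map_one]
      have hvT : ∀ x : T, slaDet ρT x = 1 ∨ slaDet ρT x = -1 := by
        intro x
        apply hz _ ((n - 2 ^ Nat.log 2 n) * c + padicValNat 2 (n - 2 ^ Nat.log 2 n).factorial)
        rw [← map_pow, ← hT, pow_card_eq_one', map_one]
      refine ⟨S × T, inferInstance, inferInstance, Λ ⊕ ι, inferInstance, spaSum ρS ρT,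
        spaSum_injective ρS ρT hρS hρT, ?_, ?_, ?_, spa_prod_good (hgS hB1) hgT⟩
      · rw [Fintype.card_sum, hΛ, hι]
        omega
      · rw [Nat.card_prod, hS, hT, ← pow_add]
        congr 1
        have h1 := sa_val 2 n hn
        have h2 : 2 ^ Nat.log 2 n * c + (n - 2 ^ Nat.log 2 n) * c = n * c := by
          rw [← Nat.add_mul, Nat.add_sub_cancel' hle]
        omega
      · rw [slaDet_sum]
        exact sla_prod _ _ (-1) hneg (by simp) hvS hvT (hgS hB1) hgT hKS hKT

end sla3

end Cfsg.Agent.Helper11
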