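import Mathlib
import Cfsg.Agent.Helper11.SlAb3

set_option autoImplicit false

namespace Cfsg.Agent.Helper11

open scoped commutatorElement

open Module

universe u

theorem sla_odd_term (q : ℕ) (hq : Odd q) (hq1 : 1 < q) (k : ℕ) :
    (q ^ (2 * k + 1) - 1).factorization 2 = (q - 1).factorization 2 := by
  obtain ⟨a, ha⟩ : ∃ a, a = (q - 1).factorization 2 := ⟨_, rfl⟩
  rw [← ha]
  have hq0 : q - 1 ≠ 0 := by omega
  have h1 : 2 ^ a ∣ q - 1 := by
    rw [ha]
    exact Nat.ordProj_dvd (q - 1) 2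
  have h2 : ¬ 2 ^ (a + 1) ∣ q - 1 := by
    rw [ha]
    exact Nat.pow_succ_factorization_not_dvd hq0 Nat.prime_two
  have h3 : 2 ^ (a + 1) ∣ q ^ (2 * k) - 1 := by
    have h4 : q ^ 2 - 1 ∣ (q ^ 2) ^ k - 1 ^ k := Nat.sub_dvd_pow_sub_pow _ _ _
    rw [one_pow, ← pow_mul] at h4
    refine dvd_trans ?_ h4
    have h5 : q ^ 2 - 1 = (q - 1) * (q + 1) := by
      have h := Nat.sq_sub_sq q 1
      rw [one_pow] at h
      rw [h, mul_comm]
    rw [h5, pow_succ]
    refine Nat.mul_dvd_mul h1 ?_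
    obtain ⟨j, hj⟩ := hq
    exact ⟨j + 1, by omega⟩
  obtain ⟨M, hM⟩ : ∃ M, q ^ (2 * k) = M + 1 :=
    ⟨q ^ (2 * k) - 1, by have := Nat.one_le_pow (2 * k) q (by omega); omega⟩
  have h6 : q ^ (2 * k + 1) - 1 = q * (q ^ (2 * k) - 1) + (q - 1) := by
    have h7 : (M + 1) * q = q * M + q := by ring
    rw [pow_succ, hM, Nat.add_sub_cancel, h7]
    omega
  have hne : q ^ (2 * k + 1) - 1 ≠ 0 := by
    rw [h6]
    omega
  have h7 : 2 ^ a ∣ q ^ (2 * k + 1) - 1 := by
    rw [h6]
    exact dvd_add (dvd_mul_of_dvd_right (dvd_trans (pow_dvd_pow 2 (Nat.le_succ a)) h3) q) h1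
  have h8 : ¬ 2 ^ (a + 1) ∣ q ^ (2 * k + 1) - 1 := by
    rw [h6]
    intro h
    exact h2 ((Nat.dvd_add_right (dvd_mul_of_dvd_right h3 q)).mp h)
  have h9 := (Nat.Prime.pow_dvd_iff_le_factorization Nat.prime_two hne).mp h7
  have h10 : ¬ (a + 1 ≤ (q ^ (2 * k + 1) - 1).factorization 2) := fun h =>
    h8 ((Nat.Prime.pow_dvd_iff_le_factorization Nat.prime_two hne).mpr h)
  omega

theorem sla_val_even (q : ℕ) (hq : Odd q) (hq1 : 1 < q) (m : ℕ) :
    ∑ i ∈ Finset.range (2 * m), (q ^ (i + 1) - 1).factorization 2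
      = m * ((q - 1).factorization 2 + (q ^ 2 - 1).factorization 2)
        + padicValNat 2 m.factorial := by
  induction m with
  | zero => simp
  | succ m ih =>
    have h1 : 2 * (m + 1) = 2 * m + 1 + 1 := by ring
    have h2 : q ^ (2 * m + 1 + 1) = q ^ (2 * (m + 1)) := by rw [h1]
    rw [h1, Finset.sum_range_succ, Finset.sum_range_succ, ih, sla_odd_term q hq hq1 m, h2,
      spa_term q hq hq1 m, Nat.factorial_succ,
      padicValNat.mul (by omega) (Nat.factorial_ne_zero _)]
    ring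

section sla4

variable {F : Type u} [Field F]

theorem sla_gl_key [Fintype F] (hodd : Odd (Fintype.card F)) (d : ℕ) :
    (Nat.card (Matrix.GeneralLinearGroup (Fin d) F)).factorization 2
      = ∑ i ∈ Finset.range d, (Fintype.card F ^ (i + 1) - 1).factorization 2 := by
  have hq1 : 1 < Fintype.card F := Fintype.one_lt_card
  have hnd : ¬ 2 ∣ Fintype.card F :=
    fun h => (Nat.not_even_iff_odd.mpr hodd) (even_iff_two_dvd.mpr h)
  rw [Matrix.card_GL_field, Helper7.gl_val_sum (Fintype.card F) d 2 (by omega) hnd]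

theorem sla_gl_two [Fintype F] (hodd : Odd (Fintype.card F)) :
    (Nat.card (Matrix.GeneralLinearGroup (Fin 2) F)).factorization 2
      = (Fintype.card F - 1).factorization 2 + (Fintype.card F ^ 2 - 1).factorization 2 := by
  have hq1 : 1 < Fintype.card F := Fintype.one_lt_card
  have h2 := sla_val_even (Fintype.card F) hodd hq1 1
  rw [mul_one, Nat.factorial_one, padicValNat_one_right, add_zero, one_mul] at h2
  rw [sla_gl_key hodd 2, h2]

theorem sla_gl_val [Fintype F] (hodd : Odd (Fintype.card F)) (m : ℕ) :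
    (Nat.card (Matrix.GeneralLinearGroup (Fin (2 * m)) F)).factorization 2
      = m * (Nat.card (Matrix.GeneralLinearGroup (Fin 2) F)).factorization 2
        + padicValNat 2 m.factorial := by
  have hq1 : 1 < Fintype.card F := Fintype.one_lt_card
  rw [sla_gl_key hodd (2 * m), sla_gl_two hodd, sla_val_even (Fintype.card F) hodd hq1 m]

theorem sla_sl_val_odd [Fintype F] (hodd : Odd (Fintype.card F)) (m : ℕ) :
    (Nat.card (Matrix.SpecialLinearGroup (Fin (2 * m + 1)) F)).factorization 2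
      = m * (Nat.card (Matrix.GeneralLinearGroup (Fin 2) F)).factorization 2
        + padicValNat 2 m.factorial := by
  classical
  have hq1 : 1 < Fintype.card F := Fintype.one_lt_card
  have hGL := Helper2.card_GL_eq_card_SL_mul (n := Fin (2 * m + 1)) (F := F)
  have hSL0 : Nat.card (Matrix.SpecialLinearGroup (Fin (2 * m + 1)) F) ≠ 0 := Nat.card_pos.ne'
  have hU0 : Nat.card Fˣ ≠ 0 := Nat.card_pos.ne'
  have h1 := sla_gl_key hodd (2 * m + 1)
  rw [hGL, Nat.factorization_mul hSL0 hU0, Finsupp.add_apply, Finset.sum_range_succ,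
    sla_val_even (Fintype.card F) hodd hq1 m, sla_odd_term (Fintype.card F) hodd hq1 m,
    Nat.card_units, Nat.card_eq_fintype_card (α := F)] at h1
  rw [sla_gl_two hodd]
  omega

theorem sla_finrank {ι : Type*} [Fintype ι] : finrank F (ι → F × F) = 2 * Fintype.card ι := by
  rw [Module.finrank_pi_fintype, Finset.sum_const, Finset.card_univ, smul_eq_mul,
    Module.finrank_prod, Module.finrank_self]
  ring

/-- adding a one-dimensional summand that corrects the determinant -/
def slaPlus {T : Type*} [Group T] {V : Type*} [AddCommGroup V] [Module F V]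
    (ρ : T →* Module.End F V) (d : T →* Fˣ) : T →* Module.End F (V × F) where
  toFun g := (ρ g).prodMap ((((d g)⁻¹ : Fˣ) : F) • (LinearMap.id : F →ₗ[F] F))
  map_one' := by
    apply LinearMap.ext
    rintro ⟨v, c⟩
    apply Prod.ext
    · show ρ 1 v = v
      rw [map_one]
      rfl
    · show (((d 1)⁻¹ : Fˣ) : F) * c = c
      rw [map_one, inv_one, Units.val_one, one_mul]
  map_mul' a b := by
    apply LinearMap.ext
    rintro ⟨v, c⟩
    apply Prod.ext
    · show ρ (a * b) v = ρ a (ρ b v)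
      rw [map_mul]
      rfl
    · show (((d (a * b))⁻¹ : Fˣ) : F) * c = (((d a)⁻¹ : Fˣ) : F) * ((((d b)⁻¹ : Fˣ) : F) * c)
      rw [map_mul, mul_inv, Units.val_mul, mul_assoc]

theorem slaPlus_det {T : Type*} [Group T] {V : Type*} [AddCommGroup V] [Module F V]
    [Module.Finite F V] (ρ : T →* Module.End F V) (g : T) :
    LinearMap.det (slaPlus ρ (slaDet ρ) g) = 1 := by
  show LinearMap.det ((ρ g).prodMap
    ((((slaDet ρ g)⁻¹ : Fˣ) : F) • (LinearMap.id : F →ₗ[F] F))) = 1
  rw [LinearMap.det_prodMap, LinearMap.det_smul, Module.finrank_self, pow_one, LinearMap.det_id,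
    mul_one, ← slaDet_coe, Units.mul_inv]

theorem slaPlus_injective {T : Type*} [Group T] {V : Type*} [AddCommGroup V] [Module F V]
    (ρ : T →* Module.End F V) (d : T →* Fˣ) (hρ : Function.Injective ρ) :
    Function.Injective (slaPlus ρ d) := by
  intro a b hab
  apply hρ
  apply LinearMap.ext
  intro v
  exact congrArg (fun f : Module.End F (V × F) => (f (v, 0)).1) hab

end sla4

/-- Sylow 2-subgroups of `SL_{2m+1}(F)`, `|F| ≡ 3 mod 4`, have elementary abelian
abelianization -/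
theorem sla_main_odd {F : Type u} [Field F] [Fintype F] (hF : Odd (Fintype.card F))
    (hq : 4 ∣ Fintype.card F + 1) (m : ℕ)
    (P : Sylow 2 (Matrix.SpecialLinearGroup (Fin (2 * m + 1)) F))
    (x : (P : Subgroup (Matrix.SpecialLinearGroup (Fin (2 * m + 1)) F))) :
    x ^ 2 ∈ commutator (P : Subgroup (Matrix.SpecialLinearGroup (Fin (2 * m + 1)) F)) := by
  classical
  have hq4 : Fintype.card F % 4 = 3 := by omega
  have h2 : (2 : F) ≠ 0 := by
    apply Ring.two_ne_zero
    intro hc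
    have h3 := FiniteField.even_card_iff_char_two.mp hc
    omega
  obtain ⟨B, hBc, hBK, hB1⟩ := sla_base (F := F) hF
  obtain ⟨T, _, _, ι, _, ρ, hρ, hι, hT, -, hgood⟩ :=
    sla_general (slaBase.comp (B : Subgroup (Matrix.GeneralLinearGroup (Fin 2) F)).subtype)
      (slaBase_injective.comp (Subgroup.subtype_injective _)) _ hBc hBK
      (fun u k hu => sla_two_val hq4 u k hu) (sla_neg_ne h2) (hB1 hq4) m
  have hfin : finrank F ((ι → F × F) × F) = 2 * m + 1 := by
    rw [Module.finrank_prod, sla_finrank, Module.finrank_self, hι]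
  obtain ⟨φ, hφ, hφd⟩ := sla_embed (slaPlus ρ (slaDet ρ)) (slaPlus_injective ρ _ hρ)
    (2 * m + 1) hfin
  have hφ1 : ∀ g, (φ g : Matrix (Fin (2 * m + 1)) (Fin (2 * m + 1)) F).det = 1 := fun g => by
    rw [hφd, slaPlus_det]
  have hψ := slaToSL_injective φ hφ1 hφ
  have hcard : Nat.card (slaToSL φ hφ1).range
      = 2 ^ (Nat.card (Matrix.SpecialLinearGroup (Fin (2 * m + 1)) F)).factorization 2 := by
    rw [← Nat.card_congr (MonoidHom.ofInjective hψ).toEquiv, hT, sla_sl_val_odd hF m]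
  exact sa_transport 2 ((MonoidHom.ofInjective hψ).trans
    (P.equiv (Sylow.ofCard _ hcard)).symm) hgood x

/-- Sylow 2-subgroups of `SL_{2m}(F)`, `|F|` odd, have elementary abelian abelianization when
`|F| ≡ 3 mod 4`, or `|F| ≡ 1 mod 4` and `m` is a power of two -/
theorem sla_main_even {F : Type u} [Field F] [Fintype F] (hF : Odd (Fintype.card F)) (m : ℕ)
    (hm : 1 ≤ m)
    (hq : 4 ∣ Fintype.card F + 1 ∨ (4 ∣ Fintype.card F - 1 ∧ ∃ j : ℕ, m = 2 ^ j))
    (P : Sylow 2 (Matrix.SpecialLinearGroup (Fin (2 * m)) F))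
    (x : (P : Subgroup (Matrix.SpecialLinearGroup (Fin (2 * m)) F))) :
    x ^ 2 ∈ commutator (P : Subgroup (Matrix.SpecialLinearGroup (Fin (2 * m)) F)) := by
  classical
  have h2 : (2 : F) ≠ 0 := by
    apply Ring.two_ne_zero
    intro hc
    have h3 := FiniteField.even_card_iff_char_two.mp hc
    have h4 := Nat.odd_iff.mp hF
    omega
  obtain ⟨B, hBc, hBK, hB1⟩ := sla_base (F := F) hF
  have hmodel : ∃ (T : Type u) (_ : Group T) (_ : Finite T) (ι : Type) (_ : Fintype ι)
      (ρ : T →* Module.End F (ι → F × F)),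
      Function.Injective ρ ∧ Fintype.card ι = m ∧
      Nat.card T = 2 ^ (m * (Nat.card (Matrix.GeneralLinearGroup (Fin 2) F)).factorization 2
        + padicValNat 2 m.factorial) ∧ SlaK (slaDet ρ) := by
    rcases hq with hq | ⟨hq, j, hj⟩
    · have hq4 : Fintype.card F % 4 = 3 := by omega
      obtain ⟨T, i1, i2, ι, i3, ρ, hρ, hι, hT, hKT, -⟩ :=
        sla_general (slaBase.comp (B : Subgroup (Matrix.GeneralLinearGroup (Fin 2) F)).subtype)
          (slaBase_injective.comp (Subgroup.subtype_injective _)) _ hBc hBK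
          (fun u k hu => sla_two_val hq4 u k hu) (sla_neg_ne h2) (hB1 hq4) m
      exact ⟨T, i1, i2, ι, i3, ρ, hρ, hι, hT, hKT⟩
    · obtain ⟨T, i1, i2, ι, i3, ρ, hρ, hι, hT, hKT, -⟩ :=
        sla_tower (slaBase.comp (B : Subgroup (Matrix.GeneralLinearGroup (Fin 2) F)).subtype)
          (slaBase_injective.comp (Subgroup.subtype_injective _)) _ hBc hBK j
      refine ⟨T, i1, i2, ι, i3, ρ, hρ, hj ▸ hι, ?_, hKT⟩
      rw [hT, hj]
      congr 1
      have h1 := sa_val 2 (2 ^ j) (by positivity)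
      rw [Nat.log_pow (by norm_num), Nat.sub_self, Nat.factorial_zero, padicValNat_one_right,
        add_zero] at h1
      rw [h1]
  obtain ⟨T, _, _, ι, _, ρ, hρ, hι, hT, hKT⟩ := hmodel
  have hfin : finrank F (ι → F × F) = 2 * m := by
    rw [sla_finrank, hι]
  obtain ⟨φ, hφ, hφd⟩ := sla_embed ρ hρ (2 * m) hfin
  have hne : NeZero (2 * m) := ⟨by omega⟩
  have hT' : Nat.card T
      = 2 ^ (Nat.card (Matrix.GeneralLinearGroup (Fin (2 * m)) F)).factorization 2 := by
    rw [hT, sla_gl_val hF m]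
  obtain ⟨ψ, hψ, hψc⟩ := sla_ker_card (2 * m) φ hφ hT' (slaDet ρ)
    (fun g => by rw [slaDet_coe, hφd])
  exact sa_transport 2 ((MonoidHom.ofInjective hψ).trans
    (P.equiv (Sylow.ofCard ψ.range hψc)).symm) (sla_to_ker _ hKT) x

end Cfsg.Agent.Helper11
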