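import Mathlib
import Cfsg.Agent.Helper11.SpAb
import Cfsg.Agent.Helper11.SpRank

set_option autoImplicit false

namespace Cfsg.Agent.Helper11

open Module

open scoped Matrix

universe u

/-- elementary abelian 2-subsets of `Sp_{2n}(F)` have at most `2 ^ n` elements -/
theorem spr_sp {F : Type u} [Field F] (h2 : (2 : F) ≠ 0) (n : ℕ)
    (E : Set (Matrix.symplecticGroup (Fin n) F)) (hsq : ∀ e ∈ E, e * e = 1)
    (hcomm : ∀ a ∈ E, ∀ b ∈ E, a * b = b * a) : Finite E ∧ Nat.card E ≤ 2 ^ n := by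
  classical
  obtain ⟨ω, hω⟩ : ∃ ω : (Fin n ⊕ Fin n → F) →ₗ[F] (Fin n ⊕ Fin n → F) →ₗ[F] F,
      ∀ v w, ω v w = v ⬝ᵥ (Matrix.J (Fin n) F *ᵥ w) :=
    ⟨Matrix.toBilin' (Matrix.J (Fin n) F), fun v w => Matrix.toBilin'_apply' _ v w⟩
  have halt : ∀ v, ω v v = 0 := by
    intro v
    rw [hω, spd_form_sum]
    exact Finset.sum_eq_zero (fun i _ => by ring)
  have hnd : ∀ v, (∀ w, ω v w = 0) → v = 0 := by
    intro v hv
    have h1 : v ᵥ* Matrix.J (Fin n) F = 0 := by
      apply dotProduct_eq_zero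
      intro w
      rw [← Matrix.dotProduct_mulVec, ← hω]
      exact hv w
    have h3 : v = (v ᵥ* Matrix.J (Fin n) F) ᵥ* (-Matrix.J (Fin n) F) := by
      rw [Matrix.vecMul_vecMul, Matrix.mul_neg, Matrix.J_squared, neg_neg, Matrix.vecMul_one]
    rw [h3, h1, Matrix.zero_vecMul]
  have hfr : finrank F (Fin n ⊕ Fin n → F) = n + n := by
    rw [Module.finrank_fintype_fun_eq_card, Fintype.card_sum, Fintype.card_fin]
  obtain ⟨A, hAdef⟩ : ∃ A : Set (Module.End F (Fin n ⊕ Fin n → F)),
      A = Set.range (fun e : E => Matrix.toLin'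
        ((e.1 : Matrix.symplecticGroup (Fin n) F) : Matrix (Fin n ⊕ Fin n) (Fin n ⊕ Fin n) F)) :=
    ⟨_, rfl⟩
  have hmul : ∀ a b : Matrix.symplecticGroup (Fin n) F,
      Matrix.toLin' (a : Matrix (Fin n ⊕ Fin n) (Fin n ⊕ Fin n) F)
        * Matrix.toLin' (b : Matrix (Fin n ⊕ Fin n) (Fin n ⊕ Fin n) F)
      = Matrix.toLin' ((a * b : Matrix.symplecticGroup (Fin n) F) :
          Matrix (Fin n ⊕ Fin n) (Fin n ⊕ Fin n) F) := by
    intro a b
    rw [Module.End.mul_eq_comp, ← Matrix.toLin'_mul]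
    rfl
  have hA : ∀ a ∈ A, a * a = 1 ∧ ∀ v w, ω (a v) (a w) = ω v w := by
    rw [hAdef]
    rintro _ ⟨e, rfl⟩
    constructor
    · show Matrix.toLin' _ * Matrix.toLin' _ = 1
      rw [hmul, hsq e.1 e.2]
      exact Matrix.toLin'_one
    · intro v w
      have hM' := SymplecticGroup.mem_iff'.mp e.1.2
      show ω (Matrix.toLin' _ v) (Matrix.toLin' _ w) = _
      rw [hω, hω, Matrix.toLin'_apply, Matrix.toLin'_apply, ← Matrix.vecMul_transpose,
        ← Matrix.dotProduct_mulVec, Matrix.mulVec_mulVec, Matrix.mulVec_mulVec, hM']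
  have hcommA : ∀ a ∈ A, ∀ b ∈ A, a * b = b * a := by
    rw [hAdef]
    rintro _ ⟨a, rfl⟩ _ ⟨b, rfl⟩
    show Matrix.toLin' _ * Matrix.toLin' _ = Matrix.toLin' _ * Matrix.toLin' _
    rw [hmul, hmul, hcomm a.1 a.2 b.1 b.2]
  obtain ⟨hfin, hcard⟩ := spr_rank h2 (n + n) (Fin n ⊕ Fin n → F) ω halt hnd hfr A hA hcommA
  let g : E → A := fun e => ⟨Matrix.toLin'
    ((e.1 : Matrix.symplecticGroup (Fin n) F) : Matrix (Fin n ⊕ Fin n) (Fin n ⊕ Fin n) F),
    hAdef ▸ ⟨e, rfl⟩⟩
  have hg : Function.Injective g := by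
    intro a b hab
    apply Subtype.ext
    apply Subtype.ext
    exact Matrix.toLin'.injective (congrArg Subtype.val hab)
  have hfinE : Finite E := Finite.of_injective g hg
  refine ⟨hfinE, ?_⟩
  have h3 : (n + n) / 2 = n := by omega
  rw [h3] at hcard
  exact le_trans (Nat.card_le_card_of_injective g hg) hcard

theorem spr_comm_of_sq {G : Type*} [Group G] (a b : G) (ha : a * a = 1) (hb : b * b = 1)
    (hab : (a * b) * (a * b) = 1) : a * b = b * a := by
  have h1 : a * b = (a * b)⁻¹ := eq_inv_of_mul_eq_one_left hab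
  rw [h1, mul_inv_rev, inv_eq_of_mul_eq_one_left ha, inv_eq_of_mul_eq_one_left hb]

section spr

variable {F : Type u} [Field F]

/-- a Sylow 2-subgroup of `SL₂(F)` with its central subgroup of order two -/
theorem spr_base [Fintype F] (hodd : Odd (Fintype.card F)) :
    ∃ Q : Subgroup (Matrix.SpecialLinearGroup (Fin 2) F),
      Nat.card Q = 2 ^ (Fintype.card F ^ 2 - 1).factorization 2 ∧
      ∃ E : Subgroup Q, E.Normal ∧ (∀ x ∈ E, x ^ 2 = 1) ∧ Nat.card E = 2 := by
  classical
  have hoddm : Fintype.card F % 2 = 1 := Nat.odd_iff.mp hodd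
  have h2 : (2 : F) ≠ 0 := by
    apply Ring.two_ne_zero
    intro hc
    have h3 := FiniteField.even_card_iff_char_two.mp hc
    omega
  obtain ⟨Q, hQc, -⟩ := spa_base (F := F) hodd
  refine ⟨Q, hQc, ?_⟩
  have hq1 : 1 < Fintype.card F := Fintype.one_lt_card
  have hq2 : Fintype.card F ^ 2 - 1 ≠ 0 := by
    have : 1 < Fintype.card F ^ 2 := Nat.one_lt_pow (by norm_num) hq1
    omega
  have hev : 2 ∣ Fintype.card F ^ 2 - 1 :=
    even_iff_two_dvd.mp (Nat.Odd.sub_odd (Odd.pow hodd) odd_one)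
  have hpos : 0 < (Fintype.card F ^ 2 - 1).factorization 2 :=
    Nat.Prime.factorization_pos_of_dvd Nat.prime_two hq2 hev
  have hfinQ : Finite Q := Nat.finite_of_card_ne_zero (by rw [hQc]; positivity)
  have hdvd : 2 ∣ Nat.card Q := by
    rw [hQc]
    exact dvd_pow_self 2 hpos.ne'
  obtain ⟨y, hy⟩ := exists_prime_orderOf_dvd_card' 2 hdvd
  have hy2 : y ^ 2 = 1 := by
    have h := pow_orderOf_eq_one y
    rw [hy] at h
    exact h
  have hy1 : y ≠ 1 := by
    intro h
    rw [h, orderOf_one] at hy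
    omega
  obtain ⟨a1, a2, a3, a4⟩ := spa_invol h2 (y : Matrix.SpecialLinearGroup (Fin 2) F)
    (by rw [← Subgroup.coe_pow, hy2]; rfl) (fun h => hy1 (Subtype.ext h))
  have hcen : ∀ g : Q, g * y = y * g := by
    intro g
    apply Subtype.ext
    apply Subtype.ext
    show (g : Matrix.SpecialLinearGroup (Fin 2) F).1 * (y : Matrix.SpecialLinearGroup (Fin 2) F).1
      = (y : Matrix.SpecialLinearGroup (Fin 2) F).1 * (g : Matrix.SpecialLinearGroup (Fin 2) F).1
    ext i j
    fin_cases i <;> fin_cases j <;> simp [Matrix.mul_apply, Fin.sum_univ_two, a1, a2, a3, a4]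
  refine ⟨Subgroup.zpowers y, ⟨?_⟩, ?_, ?_⟩
  · intro e he g
    obtain ⟨k, rfl⟩ := Subgroup.mem_zpowers_iff.mp he
    have h1 : g * y ^ k = y ^ k * g := (Commute.zpow_right (hcen g) k)
    rw [h1, mul_inv_cancel_right]
    exact Subgroup.zpow_mem_zpowers y k
  · intro x hx
    obtain ⟨k, rfl⟩ := Subgroup.mem_zpowers_iff.mp hx
    rw [← zpow_natCast, ← zpow_mul, mul_comm, zpow_mul, zpow_natCast, hy2, one_zpow]
  · rw [Nat.card_zpowers, hy]

/-- the symplectic wreath tower with its normal elementary abelian subgroup -/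
theorem spr_tower [Fintype F] (c : ℕ) (Q : Subgroup (Matrix.SpecialLinearGroup (Fin 2) F))
    (hQc : Nat.card Q = 2 ^ c)
    (hQE : ∃ E : Subgroup Q, E.Normal ∧ (∀ x ∈ E, x ^ 2 = 1) ∧ Nat.card E = 2) (j : ℕ) :
    ∃ (T : Type u) (_ : Group T) (_ : Finite T) (ι : Type) (_ : Fintype ι)
      (ρ : T →* Module.End F (ι → F × F)),
      Function.Injective ρ ∧ Fintype.card ι = 2 ^ j ∧
      Nat.card T = 2 ^ (2 ^ j * c + ∑ i ∈ Finset.range j, 2 ^ i) ∧
      (∀ g v w, spdOm ι (ρ g v) (ρ g w) = spdOm ι v w) ∧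
      ∃ E : Subgroup T, E.Normal ∧ (∀ x ∈ E, x ^ 2 = 1) ∧ Nat.card E = 2 ^ Fintype.card ι := by
  classical
  induction j with
  | zero =>
    have hfin : Finite Q := Nat.finite_of_card_ne_zero (by rw [hQc]; positivity)
    obtain ⟨E, hEn, hEx, hEc⟩ := hQE
    refine ⟨↥Q, inferInstance, inferInstance, Unit, inferInstance,
      spdBase.comp (Subgroup.subtype _), ?_, ?_, ?_, ?_, E, hEn, hEx, ?_⟩
    · exact spdBase_injective.comp (Subgroup.subtype_injective _)
    · simp
    · rw [hQc]
      simp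
    · intro g v w
      exact spdBase_om _ v w
    · rw [hEc]
      simp
  | succ j ih =>
    obtain ⟨T, _, _, ι, _, ρ, hρ, hι, hm, hom, E, hEn, hEx, hEc⟩ := ih
    have hC : Nat.card (Multiplicative (ZMod 2)) = 2 := by
      rw [Nat.card_eq_fintype_card, Fintype.card_multiplicative, ZMod.card]
    have hne : Nonempty ι := by
      rw [← Fintype.card_pos_iff, hι]
      positivity
    let E' : Subgroup (RegularWreathProduct T (Multiplicative (ZMod 2))) :=
      { carrier := {w | w.right = 1 ∧ ∀ x, w.left x ∈ E}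
        one_mem' := ⟨rfl, fun x => E.one_mem⟩
        mul_mem' := by
          intro a b ha hb
          refine ⟨?_, fun x => ?_⟩
          · rw [RegularWreathProduct.mul_right, ha.1, hb.1, one_mul]
          · rw [RegularWreathProduct.mul_left]
            exact E.mul_mem (ha.2 x) (hb.2 _)
        inv_mem' := by
          intro a ha
          refine ⟨?_, fun x => ?_⟩
          · rw [RegularWreathProduct.inv_right, ha.1, inv_one]
          · rw [RegularWreathProduct.inv_left]
            exact E.inv_mem (ha.2 _) }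
    have hE'mem : ∀ w, w ∈ E' ↔ w.right = 1 ∧ ∀ x, w.left x ∈ E := fun w => Iff.rfl
    refine ⟨RegularWreathProduct T (Multiplicative (ZMod 2)), inferInstance, inferInstance,
      Multiplicative (ZMod 2) × ι, inferInstance, spdWr (Multiplicative (ZMod 2)) ρ, ?_, ?_,
      ?_, ?_, E', ⟨?_⟩, ?_, ?_⟩
    · exact spdConj_injective _ _ (fdpWr_injective ρ hρ)
    · rw [Fintype.card_prod, Fintype.card_multiplicative, ZMod.card, hι, pow_succ, mul_comm]
    · rw [RegularWreathProduct.card, hm, hC, ← pow_mul, ← pow_succ]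
      congr 1
      have h : ∑ k ∈ Finset.range j, 2 ^ (k + 1) = (∑ i ∈ Finset.range j, 2 ^ i) * 2 := by
        rw [Finset.sum_mul]
        exact Finset.sum_congr rfl (fun k _ => pow_succ 2 k)
      rw [Finset.sum_range_succ', h]
      ring
    · exact spdWr_om _ ρ hom
    · intro e he w
      rw [hE'mem] at he ⊢
      refine ⟨?_, fun x => ?_⟩
      · rw [RegularWreathProduct.mul_right, RegularWreathProduct.mul_right,
          RegularWreathProduct.inv_right, he.1, mul_one, mul_inv_cancel]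
      · have h1 : (w * e * w⁻¹).left x
            = w.left x * e.left (w.right⁻¹ * x) * (w.left x)⁻¹ := by
          rw [RegularWreathProduct.mul_left, RegularWreathProduct.mul_left,
            RegularWreathProduct.mul_right, RegularWreathProduct.inv_left, he.1]
          simp
        rw [h1]
        exact hEn.conj_mem _ (he.2 _) _
    · intro e he
      rw [hE'mem] at he
      rw [pow_two]
      apply RegularWreathProduct.ext
      · rw [RegularWreathProduct.mul_left, he.1]
        funext x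
        have h1 := hEx (e.left x) (he.2 x)
        rw [pow_two] at h1
        simpa using h1
      · rw [RegularWreathProduct.mul_right, he.1, one_mul]
        rfl
    · let eqv : E' ≃ (Multiplicative (ZMod 2) → E) :=
        { toFun := fun e x => ⟨e.1.left x, e.2.2 x⟩
          invFun := fun f => ⟨⟨fun x => (f x).1, 1⟩, rfl, fun x => (f x).2⟩
          left_inv := by
            intro e
            apply Subtype.ext
            apply RegularWreathProduct.ext
            · rfl
            · exact e.2.1.symm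
          right_inv := fun f => rfl }
      rw [Nat.card_congr eqv, Nat.card_fun, hC, hEc, Fintype.card_prod,
        Fintype.card_multiplicative, ZMod.card, ← pow_mul, mul_comm]

theorem spr_general [Fintype F] (c : ℕ) (Q : Subgroup (Matrix.SpecialLinearGroup (Fin 2) F))
    (hQc : Nat.card Q = 2 ^ c)
    (hQE : ∃ E : Subgroup Q, E.Normal ∧ (∀ x ∈ E, x ^ 2 = 1) ∧ Nat.card E = 2) (n : ℕ) :
    ∃ (T : Type u) (_ : Group T) (_ : Finite T) (ι : Type) (_ : Fintype ι)
      (ρ : T →* Module.End F (ι → F × F)),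
      Function.Injective ρ ∧ Fintype.card ι = n ∧
      Nat.card T = 2 ^ (n * c + padicValNat 2 n.factorial) ∧
      (∀ g v w, spdOm ι (ρ g v) (ρ g w) = spdOm ι v w) ∧
      ∃ E : Subgroup T, E.Normal ∧ (∀ x ∈ E, x ^ 2 = 1) ∧ Nat.card E = 2 ^ n := by
  classical
  induction n using Nat.strong_induction_on with
  | _ n ih =>
    rcases Nat.eq_zero_or_pos n with rfl | hn
    · refine ⟨PUnit, inferInstance, inferInstance, Empty, inferInstance, 1,
        Function.injective_of_subsingleton _, ?_, ?_, ?_, ⊥, inferInstance, ?_, ?_⟩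
      · simp
      · simp
      · intro g v w
        simp [spdOm]
      · intro x _
        exact Subsingleton.elim _ _
      · simp
    · obtain ⟨S, _, _, Λ, _, ρS, hρS, hΛ, hS, homS, ES, hESn, hESx, hESc⟩ :=
        spr_tower c Q hQc hQE (Nat.log 2 n)
      have hle : 2 ^ Nat.log 2 n ≤ n := Nat.pow_log_le_self 2 hn.ne'
      have hlt : n - 2 ^ Nat.log 2 n < n := Nat.sub_lt hn (by positivity)
      obtain ⟨T, _, _, ι, _, ρT, hρT, hι, hT, homT, ET, hETn, hETx, hETc⟩ := ih _ hlt
      refine ⟨S × T, inferInstance, inferInstance, Λ ⊕ ι, inferInstance, spaSum ρS ρT,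
        spaSum_injective ρS ρT hρS hρT, ?_, ?_, spaSum_om ρS ρT homS homT,
        ES.prod ET, inferInstance, ?_, ?_⟩
      · rw [Fintype.card_sum, hΛ, hι]
        omega
      · rw [Nat.card_prod, hS, hT, ← pow_add]
        congr 1
        have h1 := sa_val 2 n hn
        have h2 : 2 ^ Nat.log 2 n * c + (n - 2 ^ Nat.log 2 n) * c = n * c := by
          rw [← Nat.add_mul, Nat.add_sub_cancel' hle]
        omega
      · rintro ⟨a, b⟩ ⟨ha, hb⟩
        apply Prod.ext
        · exact hESx a ha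
        · exact hETx b hb
      · rw [Nat.card_congr (Subgroup.prodEquiv ES ET).toEquiv, Nat.card_prod, hESc, hETc, hΛ,
          ← pow_add]
        congr 1
        omega

end spr

/-- the normal 2-rank of a Sylow 2-subgroup of `Sp_{2n}(F)`, `|F|` odd, is `n` -/
theorem spr_main {F : Type u} [Field F] [Fintype F] (hF : Odd (Fintype.card F)) (n : ℕ)
    (S : Sylow 2 (Matrix.symplecticGroup (Fin n) F)) :
    (∃ E : Subgroup (S : Subgroup (Matrix.symplecticGroup (Fin n) F)),
        E.Normal ∧ (IsMulCommutative E ∧ ∀ a ∈ E, a ^ 2 = 1) ∧ 2 ^ n ≤ Nat.card E) ∧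
      ∀ E : Subgroup (S : Subgroup (Matrix.symplecticGroup (Fin n) F)),
        (IsMulCommutative E ∧ ∀ a ∈ E, a ^ 2 = 1) → Nat.card E ≤ 2 ^ n := by
  classical
  have hoddm : Fintype.card F % 2 = 1 := Nat.odd_iff.mp hF
  have h2 : (2 : F) ≠ 0 := by
    apply Ring.two_ne_zero
    intro hc
    have h3 := FiniteField.even_card_iff_char_two.mp hc
    omega
  constructor
  · obtain ⟨Q, hQc, hQE⟩ := spr_base (F := F) hF
    obtain ⟨T, _, _, ι, _, ρ, hρ, hι, hT, hom, E, hEn, hEx, hEc⟩ := spr_general _ Q hQc hQE n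
    obtain ⟨φ, hφ⟩ := spd_embed ρ hρ hom n hι.le
    have hcard : Nat.card φ.range
        = 2 ^ (Nat.card (Matrix.symplecticGroup (Fin n) F)).factorization 2 := by
      rw [← Nat.card_congr (MonoidHom.ofInjective hφ).toEquiv, hT,
        Helper15.card_symplecticGroup (F := F) rfl n, spa_val _ hF Fintype.one_lt_card]
    obtain ⟨Φ, hΦ⟩ : ∃ Φ : T ≃* (S : Subgroup (Matrix.symplecticGroup (Fin n) F)),
        Φ = (MonoidHom.ofInjective hφ).trans (S.equiv (Sylow.ofCard φ.range hcard)).symm :=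
      ⟨_, rfl⟩
    refine ⟨E.map Φ.toMonoidHom, hEn.map Φ.toMonoidHom Φ.surjective, ⟨?_, ?_⟩, ?_⟩
    · have hsq : ∀ a ∈ E.map Φ.toMonoidHom, a * a = 1 := by
        rintro _ ⟨x, hx, rfl⟩
        rw [← map_mul, ← pow_two, hEx x hx, map_one]
      exact ⟨⟨fun a b => Subtype.ext (spr_comm_of_sq a.1 b.1 (hsq _ a.2) (hsq _ b.2)
        (hsq _ (Subgroup.mul_mem _ a.2 b.2)))⟩⟩
    · rintro _ ⟨x, hx, rfl⟩
      rw [← map_pow, hEx x hx, map_one]
    · rw [← Nat.card_congr (E.equivMapOfInjective Φ.toMonoidHom Φ.injective).toEquiv, hEc]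
  · intro E hE
    obtain ⟨hEc, hEx⟩ := hE
    let g : E → Matrix.symplecticGroup (Fin n) F := fun e =>
      ((e : (S : Subgroup (Matrix.symplecticGroup (Fin n) F))) : Matrix.symplecticGroup (Fin n) F)
    have hg : Function.Injective g := fun a b hab => Subtype.ext (Subtype.ext hab)
    obtain ⟨hfin, hcard⟩ := spr_sp h2 n (Set.range g)
      (by
        rintro _ ⟨e, rfl⟩
        have h1 := hEx e.1 e.2
        rw [pow_two] at h1
        exact congrArg Subtype.val h1)
      (by
        rintro _ ⟨a, rfl⟩ _ ⟨b, rfl⟩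
        have h1 := hEc.is_comm.comm a b
        exact congrArg (fun z : E => ((z : (S : Subgroup (Matrix.symplecticGroup (Fin n) F))) :
          Matrix.symplecticGroup (Fin n) F)) h1)
    rw [← Nat.card_congr (Equiv.ofInjective g hg)] at hcard
    exact hcard

end Cfsg.Agent.Helper11
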