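import Mathlib
import Cfsg.Agent.Helper11.SlAb4
import Cfsg.Agent.Helper11.SpRank2
import Cfsg.Agent.Helper11.GlRank

set_option autoImplicit false

namespace Cfsg.Agent.Helper11

open Module

universe u

/-- a normal elementary abelian 2-subgroup of order `2 ^ e` -/
def GlrLow (T : Type*) [Group T] (e : ℕ) : Prop :=
  ∃ E : Subgroup T, E.Normal ∧ (∀ x ∈ E, x ^ 2 = 1) ∧ Nat.card E = 2 ^ e

/-- all normal elementary abelian 2-subgroups have order at most `2 ^ e` -/
def GlrUp (T : Type*) [Group T] (e : ℕ) : Prop :=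
  ∀ E : Subgroup T, E.Normal → (∀ x ∈ E, x ^ 2 = 1) → Nat.card E ≤ 2 ^ e

theorem glr_low_iso {T S : Type*} [Group T] [Group S] (Φ : T ≃* S) (e : ℕ) (h : GlrLow T e) :
    GlrLow S e := by
  obtain ⟨E, hEn, hEx, hEc⟩ := h
  refine ⟨E.map Φ.toMonoidHom, hEn.map Φ.toMonoidHom Φ.surjective, ?_, ?_⟩
  · rintro _ ⟨x, hx, rfl⟩
    rw [← map_pow, hEx x hx, map_one]
  · rw [← Nat.card_congr (E.equivMapOfInjective Φ.toMonoidHom Φ.injective).toEquiv, hEc]

theorem glr_up_iso {T S : Type*} [Group T] [Group S] (Φ : T ≃* S) (e : ℕ) (h : GlrUp T e) :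
    GlrUp S e := by
  intro E hEn hEx
  have h1 := h (E.map Φ.symm.toMonoidHom) (hEn.map Φ.symm.toMonoidHom Φ.symm.surjective) (by
    rintro _ ⟨x, hx, rfl⟩
    rw [← map_pow, hEx x hx, map_one])
  rw [← Nat.card_congr (E.equivMapOfInjective Φ.symm.toMonoidHom Φ.symm.injective).toEquiv] at h1
  exact h1

theorem glr_low_prod {T₁ T₂ : Type*} [Group T₁] [Group T₂] (e₁ e₂ : ℕ) (h₁ : GlrLow T₁ e₁)
    (h₂ : GlrLow T₂ e₂) : GlrLow (T₁ × T₂) (e₁ + e₂) := by
  obtain ⟨E₁, hn₁, hx₁, hc₁⟩ := h₁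
  obtain ⟨E₂, hn₂, hx₂, hc₂⟩ := h₂
  refine ⟨E₁.prod E₂, inferInstance, ?_, ?_⟩
  · rintro ⟨a, b⟩ ⟨ha, hb⟩
    apply Prod.ext
    · exact hx₁ a ha
    · exact hx₂ b hb
  · rw [Nat.card_congr (Subgroup.prodEquiv E₁ E₂).toEquiv, Nat.card_prod, hc₁, hc₂, ← pow_add]

theorem glr_up_prod {T₁ T₂ : Type*} [Group T₁] [Group T₂] [Finite T₁] [Finite T₂] (e₁ e₂ : ℕ)
    (h₁ : GlrUp T₁ e₁) (h₂ : GlrUp T₂ e₂) : GlrUp (T₁ × T₂) (e₁ + e₂) := by
  intro E hEn hEx
  have k₁ := h₁ (E.map (MonoidHom.fst T₁ T₂))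
    (hEn.map (MonoidHom.fst T₁ T₂) (fun a => ⟨(a, 1), rfl⟩)) (by
      rintro _ ⟨x, hx, rfl⟩
      rw [← map_pow, hEx x hx, map_one])
  have k₂ := h₂ (E.map (MonoidHom.snd T₁ T₂))
    (hEn.map (MonoidHom.snd T₁ T₂) (fun a => ⟨(1, a), rfl⟩)) (by
      rintro _ ⟨x, hx, rfl⟩
      rw [← map_pow, hEx x hx, map_one])
  let f : E → E.map (MonoidHom.fst T₁ T₂) × E.map (MonoidHom.snd T₁ T₂) := fun w =>
    (⟨w.1.1, ⟨w.1, w.2, rfl⟩⟩, ⟨w.1.2, ⟨w.1, w.2, rfl⟩⟩)
  have hf : Function.Injective f := by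
    intro a b hab
    apply Subtype.ext
    apply Prod.ext
    · exact congrArg (fun z : E.map (MonoidHom.fst T₁ T₂) × E.map (MonoidHom.snd T₁ T₂) =>
        (z.1 : T₁)) hab
    · exact congrArg (fun z : E.map (MonoidHom.fst T₁ T₂) × E.map (MonoidHom.snd T₁ T₂) =>
        (z.2 : T₂)) hab
  calc Nat.card E ≤ Nat.card (E.map (MonoidHom.fst T₁ T₂) × E.map (MonoidHom.snd T₁ T₂)) :=
        Nat.card_le_card_of_injective f hf
    _ = Nat.card (E.map (MonoidHom.fst T₁ T₂)) * Nat.card (E.map (MonoidHom.snd T₁ T₂)) :=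
        Nat.card_prod _ _
    _ ≤ 2 ^ e₁ * 2 ^ e₂ := Nat.mul_le_mul k₁ k₂
    _ = 2 ^ (e₁ + e₂) := (pow_add _ _ _).symm

theorem glr_low_wr {T : Type*} [Group T] (e : ℕ) (h : GlrLow T e) :
    GlrLow (RegularWreathProduct T (Multiplicative (ZMod 2))) (2 * e) := by
  classical
  obtain ⟨E, hEn, hEx, hEc⟩ := h
  have hC : Nat.card (Multiplicative (ZMod 2)) = 2 := by
    rw [Nat.card_eq_fintype_card, Fintype.card_multiplicative, ZMod.card]
  let E' : Subgroup (RegularWreathProduct T (Multiplicative (ZMod 2))) :=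
    { carrier := {w | w.right = 1 ∧ ∀ x, w.left x ∈ E}
      one_mem' := ⟨rfl, fun x => E.one_mem⟩
      mul_mem' := by
        intro a b ha hb
        refine ⟨?_, fun x => ?_⟩
        · rw [RegularWreathProduct.mul_right, ha.1, hb.1, one_mul]
        · rw [RegularWreathProduct.mul_left]
          exact E.mul_mem (ha.2 x) (hb.2 _)
      inv_mem' := by
        intro a ha
        refine ⟨?_, fun x => ?_⟩
        · rw [RegularWreathProduct.inv_right, ha.1, inv_one]
        · rw [RegularWreathProduct.inv_left]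
          exact E.inv_mem (ha.2 _) }
  have hE'mem : ∀ w, w ∈ E' ↔ w.right = 1 ∧ ∀ x, w.left x ∈ E := fun w => Iff.rfl
  refine ⟨E', ⟨?_⟩, ?_, ?_⟩
  · intro e he w
    rw [hE'mem] at he ⊢
    refine ⟨?_, fun x => ?_⟩
    · rw [RegularWreathProduct.mul_right, RegularWreathProduct.mul_right,
        RegularWreathProduct.inv_right, he.1, mul_one, mul_inv_cancel]
    · have h1 : (w * e * w⁻¹).left x
          = w.left x * e.left (w.right⁻¹ * x) * (w.left x)⁻¹ := by
        rw [RegularWreathProduct.mul_left, RegularWreathProduct.mul_left,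
          RegularWreathProduct.mul_right, RegularWreathProduct.inv_left, he.1]
        simp
      rw [h1]
      exact hEn.conj_mem _ (he.2 _) _
  · intro e he
    rw [hE'mem] at he
    rw [pow_two]
    apply RegularWreathProduct.ext
    · rw [RegularWreathProduct.mul_left, he.1]
      funext x
      have h1 := hEx (e.left x) (he.2 x)
      rw [pow_two] at h1
      simpa using h1
    · rw [RegularWreathProduct.mul_right, he.1, one_mul]
      rfl
  · let eqv : E' ≃ (Multiplicative (ZMod 2) → E) :=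
      { toFun := fun e x => ⟨e.1.left x, e.2.2 x⟩
        invFun := fun f => ⟨⟨fun x => (f x).1, 1⟩, rfl, fun x => (f x).2⟩
        left_inv := by
          intro e
          apply Subtype.ext
          apply RegularWreathProduct.ext
          · rfl
          · exact e.2.1.symm
        right_inv := fun f => rfl }
    rw [Nat.card_congr eqv, Nat.card_fun, hC, hEc, ← pow_mul, mul_comm]

theorem glr_up_wr {T : Type*} [Group T] [Finite T] (e : ℕ) (hk : ∃ k : T, k ^ 2 ≠ 1)
    (hU : GlrUp T e) : GlrUp (RegularWreathProduct T (Multiplicative (ZMod 2))) (2 * e) := by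
  classical
  intro E hEn hEx
  have hC : Nat.card (Multiplicative (ZMod 2)) = 2 := by
    rw [Nat.card_eq_fintype_card, Fintype.card_multiplicative, ZMod.card]
  obtain ⟨σ, hσ, huniq⟩ := (Nat.card_eq_two_iff' (1 : Multiplicative (ZMod 2))).mp hC
  have hCs : ∀ c : Multiplicative (ZMod 2), c = 1 ∨ c = σ := by
    intro c
    by_cases hc : c = 1
    · exact Or.inl hc
    · exact Or.inr (huniq c hc)
  have hσi : σ⁻¹ ≠ 1 := fun h => hσ (inv_eq_one.mp h)
  obtain ⟨k, hk⟩ := hk
  have hbase : ∀ w ∈ E, w.right = 1 := by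
    intro w hw
    by_contra hne
    have hwσ : w.right = σ := (hCs w.right).resolve_left hne
    obtain ⟨κ, hκ⟩ : ∃ κ : RegularWreathProduct T (Multiplicative (ZMod 2)),
        κ = ⟨fun x => if x = 1 then k else 1, 1⟩ := ⟨_, rfl⟩
    have hκr : κ.right = 1 := by rw [hκ]
    have hκ1 : κ.left 1 = k := by
      rw [hκ]
      simp
    have hκσ : κ.left σ⁻¹ = 1 := by
      rw [hκ]
      simp [hσi]
    obtain ⟨c, hcdef⟩ : ∃ c : RegularWreathProduct T (Multiplicative (ZMod 2)),
        c = w * (κ * w⁻¹ * κ⁻¹) := ⟨_, rfl⟩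
    have hc : c ∈ E := by
      rw [hcdef]
      exact E.mul_mem hw (hEn.conj_mem _ (E.inv_mem hw) κ)
    have hcr : c.right = 1 := by
      rw [hcdef, RegularWreathProduct.mul_right, RegularWreathProduct.mul_right,
        RegularWreathProduct.mul_right, RegularWreathProduct.inv_right,
        RegularWreathProduct.inv_right, hκr, inv_one, mul_one, one_mul, mul_inv_cancel]
    have hcl : c.left 1 = k⁻¹ := by
      rw [hcdef]
      simp only [RegularWreathProduct.mul_left, RegularWreathProduct.mul_right,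
        RegularWreathProduct.inv_left, RegularWreathProduct.inv_right, Pi.mul_apply,
        Pi.inv_apply, hκr, hwσ, inv_one, one_mul, mul_one, inv_inv, mul_inv_cancel, hκσ, hκ1]
      group
    have h1 := congrArg (fun z : RegularWreathProduct T (Multiplicative (ZMod 2)) => z.left 1)
      (hEx c hc)
    simp only [pow_two, RegularWreathProduct.mul_left, Pi.mul_apply, hcr, inv_one, one_mul, hcl,
      RegularWreathProduct.one_left, Pi.one_apply] at h1
    have hkk : k * k = 1 := by
      have h2 : k * k = (k⁻¹ * k⁻¹)⁻¹ := by rw [mul_inv_rev, inv_inv]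
      rw [h2, h1, inv_one]
    exact hk (by rw [pow_two]; exact hkk)
  let P : Multiplicative (ZMod 2) → Subgroup T := fun x =>
    { carrier := {t | ∃ w ∈ E, w.left x = t}
      one_mem' := ⟨1, E.one_mem, rfl⟩
      mul_mem' := by
        rintro _ _ ⟨a, ha, rfl⟩ ⟨b, hb, rfl⟩
        refine ⟨a * b, E.mul_mem ha hb, ?_⟩
        rw [RegularWreathProduct.mul_left, Pi.mul_apply, hbase a ha, inv_one, one_mul]
      inv_mem' := by
        rintro _ ⟨a, ha, rfl⟩
        refine ⟨a⁻¹, E.inv_mem ha, ?_⟩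
        show (a.left (a.right * x))⁻¹ = (a.left x)⁻¹
        rw [hbase a ha, one_mul] }
  have hPn : ∀ x, (P x).Normal := by
    intro x
    refine ⟨?_⟩
    rintro _ ⟨w, hw, rfl⟩ g
    refine ⟨(⟨fun _ => g, 1⟩ : RegularWreathProduct T (Multiplicative (ZMod 2))) * w
      * (⟨fun _ => g, 1⟩ : RegularWreathProduct T (Multiplicative (ZMod 2)))⁻¹,
      hEn.conj_mem _ hw _, ?_⟩
    simp only [RegularWreathProduct.mul_left, RegularWreathProduct.mul_right,
      RegularWreathProduct.inv_left, Pi.mul_apply, Pi.inv_apply, hbase w hw, inv_one, one_mul,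
      mul_one]
  have hPx : ∀ x, ∀ t ∈ P x, t ^ 2 = 1 := by
    rintro x _ ⟨w, hw, rfl⟩
    have h1 := congrArg (fun z : RegularWreathProduct T (Multiplicative (ZMod 2)) => z.left x)
      (hEx w hw)
    simp only [pow_two, RegularWreathProduct.mul_left, Pi.mul_apply, hbase w hw, inv_one,
      one_mul, RegularWreathProduct.one_left, Pi.one_apply] at h1
    rw [pow_two]
    exact h1
  have hb1 := hU (P 1) (hPn 1) (hPx 1)
  have hbσ := hU (P σ) (hPn σ) (hPx σ)
  let f : E → P 1 × P σ := fun w => (⟨w.1.left 1, w.1, w.2, rfl⟩, ⟨w.1.left σ, w.1, w.2, rfl⟩)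
  have hf : Function.Injective f := by
    intro a b hab
    apply Subtype.ext
    apply RegularWreathProduct.ext
    · funext x
      rcases hCs x with hx | hx
      · rw [hx]
        exact congrArg (fun z : P 1 × P σ => (z.1 : T)) hab
      · rw [hx]
        exact congrArg (fun z : P 1 × P σ => (z.2 : T)) hab
    · rw [hbase a.1 a.2, hbase b.1 b.2]
  calc Nat.card E ≤ Nat.card (P 1 × P σ) := Nat.card_le_card_of_injective f hf
    _ = Nat.card (P 1) * Nat.card (P σ) := Nat.card_prod _ _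
    _ ≤ 2 ^ e * 2 ^ e := Nat.mul_le_mul hb1 hbσ
    _ = 2 ^ (2 * e) := by rw [← pow_add, two_mul]

theorem glr_sq_wr {T : Type*} [Group T] (hk : ∃ k : T, k ^ 2 ≠ 1) :
    ∃ k : RegularWreathProduct T (Multiplicative (ZMod 2)), k ^ 2 ≠ 1 := by
  obtain ⟨k, hk⟩ := hk
  refine ⟨⟨fun _ => k, 1⟩, fun h => hk ?_⟩
  have h1 := congrArg (fun z : RegularWreathProduct T (Multiplicative (ZMod 2)) => z.left 1) h
  simp only [pow_two, RegularWreathProduct.mul_left, Pi.mul_apply,
    RegularWreathProduct.one_left, Pi.one_apply] at h1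
  rw [pow_two]
  exact h1

section glr

variable {F : Type u} [Field F]

/-- block sum of two representations -/
def glrSum {T₁ T₂ : Type*} [Group T₁] [Group T₂] {V₁ V₂ : Type*} [AddCommGroup V₁]
    [Module F V₁] [AddCommGroup V₂] [Module F V₂]
    (ρ₁ : T₁ →* Module.End F V₁) (ρ₂ : T₂ →* Module.End F V₂) :
    T₁ × T₂ →* Module.End F (V₁ × V₂) where
  toFun g := (ρ₁ g.1).prodMap (ρ₂ g.2)
  map_one' := by
    apply LinearMap.ext
    rintro ⟨v, w⟩
    apply Prod.ext
    · show ρ₁ 1 v = v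
      rw [map_one]
      rfl
    · show ρ₂ 1 w = w
      rw [map_one]
      rfl
  map_mul' a b := by
    apply LinearMap.ext
    rintro ⟨v, w⟩
    apply Prod.ext
    · show ρ₁ (a.1 * b.1) v = ρ₁ a.1 (ρ₁ b.1 v)
      rw [map_mul]
      rfl
    · show ρ₂ (a.2 * b.2) w = ρ₂ a.2 (ρ₂ b.2 w)
      rw [map_mul]
      rfl

theorem glrSum_injective {T₁ T₂ : Type*} [Group T₁] [Group T₂] {V₁ V₂ : Type*}
    [AddCommGroup V₁] [Module F V₁] [AddCommGroup V₂] [Module F V₂]
    (ρ₁ : T₁ →* Module.End F V₁) (ρ₂ : T₂ →* Module.End F V₂)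
    (h₁ : Function.Injective ρ₁) (h₂ : Function.Injective ρ₂) :
    Function.Injective (glrSum ρ₁ ρ₂) := by
  rintro ⟨a, b⟩ ⟨a', b'⟩ hab
  have e1 : a = a' := by
    apply h₁
    apply LinearMap.ext
    intro v
    exact congrArg (fun f : Module.End F (V₁ × V₂) => (f (v, 0)).1) hab
  have e2 : b = b' := by
    apply h₂
    apply LinearMap.ext
    intro v
    exact congrArg (fun f : Module.End F (V₁ × V₂) => (f (0, v)).2) hab
  rw [e1, e2]

/-- the generic wreath tower -/
theorem glr_tower {B : Type u} [Group B] [Finite B] {V₀ : Type u} [AddCommGroup V₀]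
    [Module F V₀] [Module.Finite F V₀] [Nontrivial V₀]
    (ρ₀ : B →* Module.End F V₀) (hρ₀ : Function.Injective ρ₀) (c : ℕ)
    (hB : Nat.card B = 2 ^ c) (e₀ : ℕ) (hE₀ : GlrLow B e₀) (j : ℕ) :
    ∃ (T : Type u) (_ : Group T) (_ : Finite T) (V : Type u) (_ : AddCommGroup V)
      (_ : Module F V) (_ : Module.Finite F V) (_ : Nontrivial V) (ρ : T →* Module.End F V),
      Function.Injective ρ ∧ finrank F V = 2 ^ j * finrank F V₀ ∧
      Nat.card T = 2 ^ (2 ^ j * c + ∑ i ∈ Finset.range j, 2 ^ i) ∧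
      GlrLow T (2 ^ j * e₀) ∧
      (((∃ k : B, k ^ 2 ≠ 1) ∧ GlrUp B e₀) → ((∃ k : T, k ^ 2 ≠ 1) ∧ GlrUp T (2 ^ j * e₀))) := by
  classical
  induction j with
  | zero =>
    refine ⟨B, inferInstance, inferInstance, V₀, inferInstance, inferInstance, inferInstance,
      inferInstance, ρ₀, hρ₀, ?_, ?_, ?_, ?_⟩
    · simp
    · rw [hB]
      simp
    · rw [pow_zero, one_mul]
      exact hE₀
    · intro h
      rw [pow_zero, one_mul]
      exact h
  | succ j ih =>
    obtain ⟨T, _, _, V, _, _, _, _, ρ, hρ, hV, hm, hlow, hup⟩ := ih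
    have hC : Nat.card (Multiplicative (ZMod 2)) = 2 := by
      rw [Nat.card_eq_fintype_card, Fintype.card_multiplicative, ZMod.card]
    refine ⟨RegularWreathProduct T (Multiplicative (ZMod 2)), inferInstance, inferInstance,
      Multiplicative (ZMod 2) → V, inferInstance, inferInstance, inferInstance, inferInstance,
      fdpWr ρ, fdpWr_injective ρ hρ, ?_, ?_, ?_, ?_⟩
    · rw [Module.finrank_pi_fintype, Finset.sum_const, Finset.card_univ,
        Fintype.card_multiplicative, ZMod.card, smul_eq_mul, hV, pow_succ]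
      ring
    · rw [RegularWreathProduct.card, hm, hC, ← pow_mul, ← pow_succ]
      congr 1
      have h : ∑ k ∈ Finset.range j, 2 ^ (k + 1) = (∑ i ∈ Finset.range j, 2 ^ i) * 2 := by
        rw [Finset.sum_mul]
        exact Finset.sum_congr rfl (fun k _ => pow_succ 2 k)
      rw [Finset.sum_range_succ', h]
      ring
    · have h := glr_low_wr _ hlow
      have h1 : 2 * (2 ^ j * e₀) = 2 ^ (j + 1) * e₀ := by
        rw [pow_succ]
        ring
      rw [h1] at h
      exact h
    · intro hb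
      obtain ⟨hk, hU⟩ := hup hb
      refine ⟨glr_sq_wr hk, ?_⟩
      have h := glr_up_wr _ hk hU
      have h1 : 2 * (2 ^ j * e₀) = 2 ^ (j + 1) * e₀ := by
        rw [pow_succ]
        ring
      rw [h1] at h
      exact h

/-- the generic model: block sum of towers over the binary digits of `n` -/
theorem glr_general {B : Type u} [Group B] [Finite B] {V₀ : Type u} [AddCommGroup V₀]
    [Module F V₀] [Module.Finite F V₀] [Nontrivial V₀]
    (ρ₀ : B →* Module.End F V₀) (hρ₀ : Function.Injective ρ₀) (c : ℕ)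
    (hB : Nat.card B = 2 ^ c) (e₀ : ℕ) (hE₀ : GlrLow B e₀) (n : ℕ) :
    ∃ (T : Type u) (_ : Group T) (_ : Finite T) (V : Type u) (_ : AddCommGroup V)
      (_ : Module F V) (_ : Module.Finite F V) (ρ : T →* Module.End F V),
      Function.Injective ρ ∧ finrank F V = n * finrank F V₀ ∧
      Nat.card T = 2 ^ (n * c + padicValNat 2 n.factorial) ∧
      GlrLow T (n * e₀) ∧
      (((∃ k : B, k ^ 2 ≠ 1) ∧ GlrUp B e₀) → GlrUp T (n * e₀)) := by
  classical
  induction n using Nat.strong_induction_on with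
  | _ n ih =>
    rcases Nat.eq_zero_or_pos n with rfl | hn
    · refine ⟨PUnit, inferInstance, inferInstance, PUnit, inferInstance, inferInstance,
        inferInstance, 1, Function.injective_of_subsingleton _, ?_, ?_, ?_, ?_⟩
      · rw [zero_mul]
        exact Module.finrank_zero_of_subsingleton
      · simp
      · refine ⟨⊥, inferInstance, ?_, ?_⟩
        · intro x _
          exact Subsingleton.elim _ _
        · simp
      · intro _ E _ _
        rw [zero_mul, pow_zero]
        exact Finite.card_le_one_iff_subsingleton.mpr inferInstance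
    · obtain ⟨S, _, _, VS, _, _, _, _, ρS, hρS, hVS, hS, hlowS, hupS⟩ :=
        glr_tower ρ₀ hρ₀ c hB e₀ hE₀ (Nat.log 2 n)
      have hle : 2 ^ Nat.log 2 n ≤ n := Nat.pow_log_le_self 2 hn.ne'
      have hlt : n - 2 ^ Nat.log 2 n < n := Nat.sub_lt hn (by positivity)
      obtain ⟨T, _, _, VT, _, _, _, ρT, hρT, hVT, hT, hlowT, hupT⟩ := ih _ hlt
      have harith : ∀ x : ℕ, 2 ^ Nat.log 2 n * x + (n - 2 ^ Nat.log 2 n) * x = n * x := by
        intro x
        rw [← Nat.add_mul, Nat.add_sub_cancel' hle]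
      refine ⟨S × T, inferInstance, inferInstance, VS × VT, inferInstance, inferInstance,
        inferInstance, glrSum ρS ρT, glrSum_injective ρS ρT hρS hρT, ?_, ?_, ?_, ?_⟩
      · rw [Module.finrank_prod, hVS, hVT, harith]
      · rw [Nat.card_prod, hS, hT, ← pow_add]
        congr 1
        have h1 := sa_val 2 n hn
        have h2 := harith c
        omega
      · have h := glr_low_prod _ _ hlowS hlowT
        rw [harith] at h
        exact h
      · intro hb
        have h := glr_up_prod _ _ (hupS hb).2 (hupT hb)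
        rw [harith] at h
        exact h

end glr

end Cfsg.Agent.Helper11
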