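import Mathlib
import Cfsg.Agent.Helper11.GlRank2

set_option autoImplicit false

namespace Cfsg.Agent.Helper11

open Module

universe u

theorem glr_fact_two (n : ℕ) (hn : n % 4 = 2) : n.factorization 2 = 1 := by
  obtain ⟨m, hm⟩ : ∃ m, n = 2 * m := ⟨n / 2, by omega⟩
  have hm0 : m ≠ 0 := by
    rintro rfl
    omega
  have hmo : ¬ 2 ∣ m := by omega
  rw [hm, Nat.factorization_mul (by norm_num) hm0, Finsupp.add_apply,
    Nat.Prime.factorization_self Nat.prime_two, Nat.factorization_eq_zero_of_not_dvd hmo]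

theorem glr_term1 (q : ℕ) (hq : q % 4 = 1) (hq1 : 1 < q) (i : ℕ) :
    (q ^ (i + 1) - 1).factorization 2 = (q - 1).factorization 2 + padicValNat 2 (i + 1) := by
  have hodd : Odd q := Nat.odd_iff.mpr (by omega)
  obtain ⟨k, hk | hk⟩ := Nat.even_or_odd' i
  · rw [hk, sla_odd_term q hodd hq1 k]
    have h0 : padicValNat 2 (2 * k + 1) = 0 := padicValNat.eq_zero_of_not_dvd (by omega)
    rw [h0, add_zero]
  · have h1 : i + 1 = 2 * (k + 1) := by omega
    have h5 : q ^ 2 - 1 = (q - 1) * (q + 1) := by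
      have h := Nat.sq_sub_sq q 1
      rw [one_pow] at h
      rw [h, mul_comm]
    rw [h1, spa_term q hodd hq1 k, padicValNat.mul (by norm_num) (by omega), padicValNat_self,
      h5, Nat.factorization_mul (by omega) (by omega), Finsupp.add_apply,
      glr_fact_two (q + 1) (by omega)]
    ring

theorem glr_val1 (q : ℕ) (hq : q % 4 = 1) (hq1 : 1 < q) (n : ℕ) :
    ∑ i ∈ Finset.range n, (q ^ (i + 1) - 1).factorization 2
      = n * (q - 1).factorization 2 + padicValNat 2 n.factorial := by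
  induction n with
  | zero => simp
  | succ n ih =>
    rw [Finset.sum_range_succ, ih, glr_term1 q hq hq1 n, Nat.factorial_succ,
      padicValNat.mul (by omega) (Nat.factorial_ne_zero _)]
    ring

theorem glr_up_small {G : Type*} [Group G] [Finite G] (e : ℕ) (h : Nat.card G = 2 ^ e) :
    GlrUp G e := by
  intro E _ _
  rw [← h]
  exact Subgroup.card_le_card_group E

theorem glr_final_low {G : Type*} [Group G] (e : ℕ) (h : GlrLow G e) :
    ∃ E : Subgroup G, E.Normal ∧ (IsMulCommutative E ∧ ∀ a ∈ E, a ^ 2 = 1) ∧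
      2 ^ e ≤ Nat.card E := by
  obtain ⟨E, hEn, hEx, hEc⟩ := h
  refine ⟨E, hEn, ⟨?_, hEx⟩, hEc.ge⟩
  have hsq : ∀ a ∈ E, a * a = 1 := fun a ha => by
    rw [← pow_two]
    exact hEx a ha
  exact ⟨⟨fun a b => Subtype.ext (spr_comm_of_sq a.1 b.1 (hsq _ a.2) (hsq _ b.2)
    (hsq _ (E.mul_mem a.2 b.2)))⟩⟩

theorem glr_final_up {G : Type*} [Group G] (e : ℕ) (h : GlrUp G e) :
    ∀ E : Subgroup G, E.Normal → (IsMulCommutative E ∧ ∀ a ∈ E, a ^ 2 = 1) →
      Nat.card E ≤ 2 ^ e :=
  fun E hEn hE => h E hEn hE.2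

section glr3

variable {F : Type u} [Field F]

/-- the scalar action of the units -/
def glrScal : Fˣ →* Module.End F F where
  toFun u := (u : F) • (LinearMap.id : F →ₗ[F] F)
  map_one' := by
    rw [Units.val_one, one_smul]
    rfl
  map_mul' a b := by
    apply LinearMap.ext
    intro v
    show ((a * b : Fˣ) : F) * v = (a : F) * ((b : F) * v)
    rw [Units.val_mul, mul_assoc]

theorem glrScal_injective : Function.Injective (glrScal (F := F)) := by
  intro a b hab
  apply Units.ext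
  have h := congrArg (fun f : Module.End F F => f 1) hab
  have h' : (a : F) * 1 = (b : F) * 1 := h
  rw [mul_one, mul_one] at h'
  exact h'

/-- a Sylow 2-subgroup of the multiplicative group, with its involution -/
theorem glr_baseC [Fintype F] (hodd : Odd (Fintype.card F)) :
    ∃ C : Subgroup Fˣ, Nat.card C = 2 ^ (Fintype.card F - 1).factorization 2 ∧ GlrLow C 1 := by
  classical
  have hoddm : Fintype.card F % 2 = 1 := Nat.odd_iff.mp hodd
  have h2 : (2 : F) ≠ 0 := by
    apply Ring.two_ne_zero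
    intro hc
    have h3 := FiniteField.even_card_iff_char_two.mp hc
    omega
  have hneg : (-1 : Fˣ) ≠ 1 := sla_neg_ne h2
  have hsq : (-1 : Fˣ) ^ 2 = 1 := by simp
  have hP : IsPGroup 2 (Subgroup.zpowers (-1 : Fˣ)) := by
    rintro ⟨g, hg⟩
    obtain ⟨i, rfl⟩ := Subgroup.mem_zpowers_iff.mp hg
    refine ⟨1, Subtype.ext ?_⟩
    show ((-1 : Fˣ) ^ i) ^ 2 ^ 1 = 1
    rw [pow_one, ← zpow_natCast, ← zpow_mul, mul_comm, zpow_mul, zpow_natCast, hsq, one_zpow]
  obtain ⟨C, hC⟩ := hP.exists_le_sylow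
  have hmem : (-1 : Fˣ) ∈ (C : Subgroup Fˣ) := hC (Subgroup.mem_zpowers _)
  refine ⟨C, ?_, ?_⟩
  · rw [C.card_eq_multiplicity, Nat.card_units, Nat.card_eq_fintype_card]
  · obtain ⟨y, hy⟩ : ∃ y : (C : Subgroup Fˣ), y = ⟨-1, hmem⟩ := ⟨_, rfl⟩
    have hy2 : y ^ 2 = 1 := by
      rw [hy]
      exact Subtype.ext hsq
    have hy1 : y ≠ 1 := by
      rw [hy]
      intro h
      exact hneg (congrArg Subtype.val h)
    have ho : orderOf y = 2 := orderOf_eq_prime hy2 hy1
    refine ⟨Subgroup.zpowers y, inferInstance, ?_, ?_⟩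
    · intro x hx
      obtain ⟨k, rfl⟩ := Subgroup.mem_zpowers_iff.mp hx
      rw [← zpow_natCast, ← zpow_mul, mul_comm, zpow_mul, zpow_natCast, hy2, one_zpow]
    · rw [Nat.card_zpowers, ho, pow_one]

theorem glr_sl_inv (h2 : (2 : F) ≠ 0) (N : Matrix (Fin 2) (Fin 2) F) (hN : N * N = 1)
    (hdet : N.det = 1) : N = 1 ∨ N = -1 := by
  by_cases h1 : N = 1
  · exact Or.inl h1
  · right
    obtain ⟨g, hg⟩ : ∃ g : Matrix.SpecialLinearGroup (Fin 2) F, g = ⟨N, hdet⟩ := ⟨_, rfl⟩
    have hg1 : g.1 = N := by rw [hg]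
    obtain ⟨a1, a2, a3, a4⟩ := spa_invol h2 g
      (by
        apply Subtype.ext
        show (g ^ 2).1 = 1
        rw [Matrix.SpecialLinearGroup.coe_pow, pow_two, hg1]
        exact hN)
      (fun h => h1 (by rw [← hg1, h]; rfl))
    rw [hg1] at a1 a2 a3 a4
    have b1 : N 0 0 = -1 := a1
    have b2 : N 0 1 = 0 := a2
    have b3 : N 1 0 = 0 := a3
    have b4 : N 1 1 = -1 := a4
    ext i j
    fin_cases i <;> fin_cases j <;> simp [b1, b2, b3, b4]

theorem glr_mat (hsq : ¬ IsSquare (-1 : F)) (h2 : (2 : F) ≠ 0) (M K : Matrix (Fin 2) (Fin 2) F)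
    (hM : M * M = 1) (hMd : M.det = -1) (hKd : K.det = 1) (hKt : K 1 1 = - K 0 0)
    (hc : K * M = M * K) : False := by
  have m00 := congrFun (congrFun hM 0) 0
  have m11 := congrFun (congrFun hM 1) 1
  have c00 := congrFun (congrFun hc 0) 0
  have c01 := congrFun (congrFun hc 0) 1
  have c10 := congrFun (congrFun hc 1) 0
  simp only [Matrix.mul_apply, Fin.sum_univ_two, Matrix.one_apply_eq] at m00 m11 c00 c01 c10
  rw [Matrix.det_fin_two] at hMd hKd
  have htr : M 1 1 = - M 0 0 := by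
    have h : (M 0 0 + M 1 1) ^ 2 = 0 := by linear_combination m00 + m11 + 2 * hMd
    have h' := pow_eq_zero_iff (two_ne_zero) |>.mp h
    linear_combination h'
  have e1 : K 0 1 * M 1 0 = M 0 1 * K 1 0 := by linear_combination c00
  have e2 : K 0 0 * M 0 1 = M 0 0 * K 0 1 := by
    have h : (2 : F) * (K 0 0 * M 0 1 - M 0 0 * K 0 1) = 0 := by
      linear_combination c01 - K 0 1 * htr + M 0 1 * hKt
    have h' := (mul_eq_zero.mp h).resolve_left h2
    linear_combination h'
  have e3 : K 1 0 * M 0 0 = M 1 0 * K 0 0 := by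
    have h : (2 : F) * (K 1 0 * M 0 0 - M 1 0 * K 0 0) = 0 := by
      linear_combination c10 + K 1 0 * htr - M 1 0 * hKt
    have h' := (mul_eq_zero.mp h).resolve_left h2
    linear_combination h'
  have h1 : M 0 0 ^ 2 + M 0 1 * M 1 0 = 1 := by linear_combination m00
  have hK2 : K 0 0 ^ 2 + K 0 1 * K 1 0 = -1 := by linear_combination -hKd + K 0 0 * hKt
  apply hsq
  refine ⟨K 0 0 * M 0 0 + K 0 1 * M 1 0, ?_⟩
  linear_combination -hK2 - (K 0 1 * K 1 0 + K 0 0 ^ 2) * h1 + K 0 1 * M 0 0 * e3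
    - K 0 1 * M 1 0 * e1 + K 0 0 * M 1 0 * e2

theorem glr_conj_aux (K M Ki W : Matrix (Fin 2) (Fin 2) F) (hM : M * M = 1) (hKi : Ki * K = 1)
    (hN : K * M * Ki * M = W) : K * M = W * M * K := by
  have hA : K * M * Ki = W * M := by
    calc K * M * Ki = K * M * Ki * (M * M) := by rw [hM, mul_one]
      _ = K * M * Ki * M * M := (mul_assoc _ _ _).symm
      _ = W * M := by rw [hN]
  calc K * M = K * M * (Ki * K) := by rw [hKi, mul_one]
    _ = K * M * Ki * K := (mul_assoc _ _ _).symm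
    _ = W * M * K := by rw [hA]

theorem glr_anti (A B M : Matrix (Fin 2) (Fin 2) F) (hA : A * M = -(M * A))
    (hB : B * M = -(M * B)) : A * B * M = M * (A * B) := by
  calc A * B * M = A * (B * M) := mul_assoc _ _ _
    _ = A * (-(M * B)) := by rw [hB]
    _ = -(A * M * B) := by rw [mul_neg, mul_assoc]
    _ = -(-(M * A) * B) := by rw [hA]
    _ = M * (A * B) := by rw [neg_mul, neg_neg, mul_assoc]

/-- a Sylow 2-subgroup of `GL₂(F)` for `q ≡ 3 mod 4`: its normal 2-rank is one -/
theorem glr_baseB [Fintype F] (hq : Fintype.card F % 4 = 3) :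
    ∃ B : Subgroup (Matrix.GeneralLinearGroup (Fin 2) F),
      Nat.card B = 2 ^ (Nat.card (Matrix.GeneralLinearGroup (Fin 2) F)).factorization 2 ∧
      GlrLow B 1 ∧ (∃ k : B, k ^ 2 ≠ 1) ∧ GlrUp B 1 := by
  classical
  have hoddm : Fintype.card F % 2 = 1 := by omega
  have h2 : (2 : F) ≠ 0 := by
    apply Ring.two_ne_zero
    intro hc
    have h3 := FiniteField.even_card_iff_char_two.mp hc
    omega
  have hsq : ¬ IsSquare (-1 : F) := by
    rw [FiniteField.isSquare_neg_one_iff]
    omega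
  obtain ⟨a, b, hab⟩ : ∃ a b : F, a ^ 2 + b ^ 2 = -1 := by
    obtain ⟨a, b, h⟩ := FiniteField.exists_root_sum_quadratic (R := F)
      (f := Polynomial.X ^ 2) (g := Polynomial.X ^ 2 - Polynomial.C (-1))
      (Polynomial.degree_X_pow 2) (Polynomial.degree_X_pow_sub_C (by decide) _) hoddm
    refine ⟨a, b, ?_⟩
    simp at h
    linear_combination h
  have hG := (spd_quat_pgroup (spdX : Matrix.SpecialLinearGroup (Fin 2) F) (spdY a b hab)
    spdX_pow (spdY_pow a b hab) (spdXYX a b hab)).map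
    (Matrix.SpecialLinearGroup.toGL :
      Matrix.SpecialLinearGroup (Fin 2) F →* Matrix.GeneralLinearGroup (Fin 2) F)
  obtain ⟨B, hB⟩ := hG.exists_le_sylow
  obtain ⟨X, hX⟩ : ∃ X : Matrix.GeneralLinearGroup (Fin 2) F,
      X = Matrix.SpecialLinearGroup.toGL spdX := ⟨_, rfl⟩
  obtain ⟨Y, hY⟩ : ∃ Y : Matrix.GeneralLinearGroup (Fin 2) F,
      Y = Matrix.SpecialLinearGroup.toGL (spdY a b hab) := ⟨_, rfl⟩
  have hXB : X ∈ (B : Subgroup (Matrix.GeneralLinearGroup (Fin 2) F)) :=
    hB ⟨spdX, Subgroup.mem_sup_right (Subgroup.mem_zpowers _), hX.symm⟩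
  have hYB : Y ∈ (B : Subgroup (Matrix.GeneralLinearGroup (Fin 2) F)) :=
    hB ⟨spdY a b hab, Subgroup.mem_sup_left (Subgroup.mem_zpowers _), hY.symm⟩
  have hXm : (X : Matrix (Fin 2) (Fin 2) F) = !![0, 1; -1, 0] := by
    rw [hX]
    rfl
  have hYm : (Y : Matrix (Fin 2) (Fin 2) F) = !![a, b; b, -a] := by
    rw [hY]
    rfl
  obtain ⟨z, hz⟩ : ∃ z : Matrix.GeneralLinearGroup (Fin 2) F, z = X * X := ⟨_, rfl⟩
  have hzm : (z : Matrix (Fin 2) (Fin 2) F) = -1 := by
    rw [hz, Units.val_mul, hXm]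
    ext i j
    fin_cases i <;> fin_cases j <;> simp [Matrix.mul_apply, Fin.sum_univ_two]
  have hzB : z ∈ (B : Subgroup (Matrix.GeneralLinearGroup (Fin 2) F)) := by
    rw [hz]
    exact Subgroup.mul_mem _ hXB hXB
  have hz1 : z ≠ 1 := by
    intro h
    have h1 : (z : Matrix (Fin 2) (Fin 2) F) = 1 := by
      rw [h]
      rfl
    rw [hzm] at h1
    have h3 := congrFun (congrFun h1 0) 0
    rw [Matrix.neg_apply, Matrix.one_apply_eq] at h3
    apply h2
    linear_combination -h3
  have hzz : z * z = 1 := by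
    apply Units.ext
    rw [Units.val_mul, hzm, Units.val_one]
    simp
  have hzc : ∀ g : Matrix.GeneralLinearGroup (Fin 2) F, g * z = z * g := by
    intro g
    apply Units.ext
    rw [Units.val_mul, Units.val_mul, hzm, mul_neg_one, neg_one_mul]
  obtain ⟨y, hy⟩ : ∃ y : (B : Subgroup (Matrix.GeneralLinearGroup (Fin 2) F)), y = ⟨z, hzB⟩ :=
    ⟨_, rfl⟩
  have hy2 : y ^ 2 = 1 := by
    rw [hy, pow_two]
    exact Subtype.ext hzz
  have hy1 : y ≠ 1 := by
    rw [hy]
    intro h
    exact hz1 (congrArg Subtype.val h)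
  have ho : orderOf y = 2 := orderOf_eq_prime hy2 hy1
  have hcen : ∀ g : (B : Subgroup (Matrix.GeneralLinearGroup (Fin 2) F)), g * y = y * g := by
    intro g
    rw [hy]
    exact Subtype.ext (hzc g.1)
  refine ⟨B, B.card_eq_multiplicity, ⟨Subgroup.zpowers y, ⟨?_⟩, ?_, ?_⟩, ⟨⟨X, hXB⟩, ?_⟩, ?_⟩
  · intro e he g
    obtain ⟨k, rfl⟩ := Subgroup.mem_zpowers_iff.mp he
    have h1 : g * y ^ k = y ^ k * g := (Commute.zpow_right (hcen g) k)
    rw [h1, mul_inv_cancel_right]
    exact Subgroup.zpow_mem_zpowers y k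
  · intro x hx
    obtain ⟨k, rfl⟩ := Subgroup.mem_zpowers_iff.mp hx
    rw [← zpow_natCast, ← zpow_mul, mul_comm, zpow_mul, zpow_natCast, hy2, one_zpow]
  · rw [Nat.card_zpowers, ho, pow_one]
  · intro h
    apply hz1
    have h1 := congrArg Subtype.val h
    rw [pow_two] at h1
    rw [hz]
    exact h1
  · intro E hEn hEx
    have hXd : (X : Matrix (Fin 2) (Fin 2) F).det = 1 := by
      rw [hXm, Matrix.det_fin_two_of]
      ring
    have hYd : (Y : Matrix (Fin 2) (Fin 2) F).det = 1 := by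
      rw [hYm, Matrix.det_fin_two_of]
      linear_combination (-1 : F) * hab
    have hXt : (X : Matrix (Fin 2) (Fin 2) F) 1 1 = -(X : Matrix (Fin 2) (Fin 2) F) 0 0 := by
      rw [hXm]
      simp
    have hYt : (Y : Matrix (Fin 2) (Fin 2) F) 1 1 = -(Y : Matrix (Fin 2) (Fin 2) F) 0 0 := by
      rw [hYm]
      simp
    have hcl : ∀ e ∈ E, ((e : (B : Subgroup (Matrix.GeneralLinearGroup (Fin 2) F))) :
        Matrix.GeneralLinearGroup (Fin 2) F) = 1 ∨
        ((e : (B : Subgroup (Matrix.GeneralLinearGroup (Fin 2) F))) :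
        Matrix.GeneralLinearGroup (Fin 2) F) = z := by
      intro e he
      obtain ⟨e', he'⟩ : ∃ e' : Matrix.GeneralLinearGroup (Fin 2) F, e' = e.1 := ⟨_, rfl⟩
      obtain ⟨M, hMdef⟩ : ∃ M : Matrix (Fin 2) (Fin 2) F,
          M = (e' : Matrix (Fin 2) (Fin 2) F) := ⟨_, rfl⟩
      have hee : e' * e' = 1 := by
        have h := hEx e he
        rw [pow_two] at h
        rw [he']
        exact congrArg Subtype.val h
      have hM : M * M = 1 := by
        rw [hMdef, ← Units.val_mul, hee, Units.val_one]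
      have hdd : M.det * M.det = 1 := by
        rw [← Matrix.det_mul, hM, Matrix.det_one]
      rw [← he']
      rcases mul_self_eq_one_iff.mp hdd with hd | hd
      · rcases glr_sl_inv h2 M hM hd with h | h
        · left
          apply Units.ext
          rw [← hMdef, h, Units.val_one]
        · right
          apply Units.ext
          rw [← hMdef, h, hzm]
      · exfalso
        have hkey : ∀ k ∈ (B : Subgroup (Matrix.GeneralLinearGroup (Fin 2) F)),
            (k : Matrix (Fin 2) (Fin 2) F) * M = M * (k : Matrix (Fin 2) (Fin 2) F) ∨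
            (k : Matrix (Fin 2) (Fin 2) F) * M = -(M * (k : Matrix (Fin 2) (Fin 2) F)) := by
          intro k hk
          have hc2 : (k * e' * k⁻¹ * e') * (k * e' * k⁻¹ * e') = 1 := by
            have h := hEx _ (E.mul_mem (hEn.conj_mem e he ⟨k, hk⟩) he)
            rw [pow_two] at h
            rw [he']
            exact congrArg Subtype.val h
          obtain ⟨Ki, hKidef⟩ : ∃ Ki : Matrix (Fin 2) (Fin 2) F,
              Ki = ((k⁻¹ : Matrix.GeneralLinearGroup (Fin 2) F) : Matrix (Fin 2) (Fin 2) F) :=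
            ⟨_, rfl⟩
          have hKi : Ki * (k : Matrix (Fin 2) (Fin 2) F) = 1 := by
            rw [hKidef, ← Units.val_mul, inv_mul_cancel, Units.val_one]
          obtain ⟨N, hNdef⟩ : ∃ N : Matrix (Fin 2) (Fin 2) F,
              N = (k : Matrix (Fin 2) (Fin 2) F) * M * Ki * M := ⟨_, rfl⟩
          have hNN : N * N = 1 := by
            have h := congrArg Units.val hc2
            rw [hNdef, hMdef, hKidef]
            exact h
          have hNd : N.det = 1 := by
            have h := congrArg Matrix.det hKi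
            rw [Matrix.det_mul, Matrix.det_one] at h
            rw [hNdef, Matrix.det_mul, Matrix.det_mul, Matrix.det_mul, hd]
            linear_combination h
          rcases glr_sl_inv h2 N hNN hNd with h | h
          · left
            have h3 := glr_conj_aux _ M Ki 1 hM hKi (hNdef.symm.trans h)
            rw [one_mul] at h3
            exact h3
          · right
            have h3 := glr_conj_aux _ M Ki (-1) hM hKi (hNdef.symm.trans h)
            rw [neg_one_mul, neg_mul] at h3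
            exact h3
        rcases hkey X hXB with hx | hx
        · exact glr_mat hsq h2 M _ hM hd hXd hXt hx
        · rcases hkey Y hYB with hy' | hy'
          · exact glr_mat hsq h2 M _ hM hd hYd hYt hy'
          · refine glr_mat hsq h2 M
              ((X : Matrix (Fin 2) (Fin 2) F) * (Y : Matrix (Fin 2) (Fin 2) F)) hM hd ?_ ?_ ?_
            · rw [Matrix.det_mul, hXd, hYd, one_mul]
            · rw [hXm, hYm]
              simp [Matrix.mul_apply, Fin.sum_univ_two]
            · exact glr_anti _ _ M hx hy'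
    let g : E → {x // x ∈ ({1, z} : Finset (Matrix.GeneralLinearGroup (Fin 2) F))} := fun e =>
      ⟨((e : (B : Subgroup (Matrix.GeneralLinearGroup (Fin 2) F))) :
        Matrix.GeneralLinearGroup (Fin 2) F), by
        rcases hcl e.1 e.2 with h | h
        · rw [h]
          simp
        · rw [h]
          simp⟩
    have hg : Function.Injective g := by
      intro x y hxy
      have h : (g x).1 = (g y).1 := congrArg Subtype.val hxy
      exact Subtype.ext (Subtype.ext h)
    calc Nat.card E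
        ≤ Nat.card {x // x ∈ ({1, z} : Finset (Matrix.GeneralLinearGroup (Fin 2) F))} :=
          Nat.card_le_card_of_injective g hg
      _ = ({1, z} : Finset (Matrix.GeneralLinearGroup (Fin 2) F)).card := by
          rw [Nat.card_eq_fintype_card, Fintype.card_coe]
      _ ≤ 2 := Finset.card_le_two
      _ = 2 ^ 1 := (pow_one 2).symm

theorem glr_val3_odd [Fintype F] (hodd : Odd (Fintype.card F)) (m : ℕ) :
    (Nat.card (Matrix.GeneralLinearGroup (Fin (2 * m + 1)) F)).factorization 2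
      = m * (Nat.card (Matrix.GeneralLinearGroup (Fin 2) F)).factorization 2
        + padicValNat 2 m.factorial + (Fintype.card F - 1).factorization 2 := by
  have hq1 : 1 < Fintype.card F := Fintype.one_lt_card
  rw [sla_gl_key hodd (2 * m + 1), Finset.sum_range_succ,
    sla_val_even (Fintype.card F) hodd hq1 m, sla_odd_term (Fintype.card F) hodd hq1 m,
    sla_gl_two hodd]

end glr3

theorem glr_transport {F : Type u} [Field F] [Fintype F] (n : ℕ)
    (S : Sylow 2 (Matrix.GeneralLinearGroup (Fin n) F))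
    {T : Type*} [Group T] (φ : T →* Matrix.GeneralLinearGroup (Fin n) F)
    (hφ : Function.Injective φ)
    (hcard : Nat.card T = 2 ^ (Nat.card (Matrix.GeneralLinearGroup (Fin n) F)).factorization 2) :
    Nonempty (T ≃* (S : Subgroup (Matrix.GeneralLinearGroup (Fin n) F))) := by
  classical
  have hc : Nat.card φ.range
      = 2 ^ (Nat.card (Matrix.GeneralLinearGroup (Fin n) F)).factorization 2 := by
    rw [← Nat.card_congr (MonoidHom.ofInjective hφ).toEquiv, hcard]
  exact ⟨(MonoidHom.ofInjective hφ).trans (S.equiv (Sylow.ofCard φ.range hc)).symm⟩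

theorem glr_model1 {F : Type u} [Field F] [Fintype F] (hq : Fintype.card F % 4 = 1) (n : ℕ) :
    ∃ (T : Type u) (_ : Group T) (φ : T →* Matrix.GeneralLinearGroup (Fin n) F),
      Function.Injective φ ∧
      Nat.card T = 2 ^ (Nat.card (Matrix.GeneralLinearGroup (Fin n) F)).factorization 2 ∧
      GlrLow T n := by
  classical
  have hodd : Odd (Fintype.card F) := Nat.odd_iff.mpr (by omega)
  have hq1 : 1 < Fintype.card F := Fintype.one_lt_card
  obtain ⟨C, hCc, hClow⟩ := glr_baseC (F := F) hodd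
  obtain ⟨T, _, _, V, _, _, _, ρ, hρ, hV, hT, hlow, -⟩ :=
    glr_general (glrScal.comp (C : Subgroup Fˣ).subtype)
      (glrScal_injective.comp Subtype.val_injective) _ hCc 1 hClow n
  rw [Module.finrank_self, mul_one] at hV
  obtain ⟨φ, hφ⟩ := fdp_embed ρ hρ n hV.le
  refine ⟨T, inferInstance, φ, hφ, ?_, ?_⟩
  · rw [hT, sla_gl_key hodd n, glr_val1 _ hq hq1 n]
  · rw [mul_one] at hlow
    exact hlow

theorem glr_model3 {F : Type u} [Field F] [Fintype F] (hq : Fintype.card F % 4 = 3) (n : ℕ) :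
    ∃ (T : Type u) (_ : Group T) (φ : T →* Matrix.GeneralLinearGroup (Fin n) F),
      Function.Injective φ ∧
      Nat.card T = 2 ^ (Nat.card (Matrix.GeneralLinearGroup (Fin n) F)).factorization 2 ∧
      GlrLow T ((n + 1) / 2) ∧ GlrUp T ((n + 1) / 2) := by
  classical
  have hodd : Odd (Fintype.card F) := Nat.odd_iff.mpr (by omega)
  obtain ⟨B, hBc, hBlow, hBk, hBup⟩ := glr_baseB (F := F) hq
  have hρ₀ : Function.Injective
      ((fdpMat 2).comp (B : Subgroup (Matrix.GeneralLinearGroup (Fin 2) F)).subtype) :=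
    (fdpMat_injective 2).comp Subtype.val_injective
  have hfr : finrank F (Fin 2 → F) = 2 := by
    rw [Module.finrank_fintype_fun_eq_card, Fintype.card_fin]
  obtain ⟨m, hm | hm⟩ := Nat.even_or_odd' n
  · obtain ⟨T, _, _, V, _, _, _, ρ, hρ, hV, hT, hlow, hup⟩ :=
      glr_general ((fdpMat 2).comp (B : Subgroup (Matrix.GeneralLinearGroup (Fin 2) F)).subtype)
        hρ₀ _ hBc 1 hBlow m
    rw [hfr] at hV
    subst hm
    obtain ⟨φ, hφ⟩ := fdp_embed ρ hρ (2 * m) (by rw [hV]; omega)
    have he : (2 * m + 1) / 2 = m * 1 := by omega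
    refine ⟨T, inferInstance, φ, hφ, ?_, ?_, ?_⟩
    · rw [hT, sla_gl_val hodd m]
    · rw [he]
      exact hlow
    · rw [he]
      exact hup ⟨hBk, hBup⟩
  · obtain ⟨T, _, _, V, _, _, _, ρ, hρ, hV, hT, hlow, hup⟩ :=
      glr_general ((fdpMat 2).comp (B : Subgroup (Matrix.GeneralLinearGroup (Fin 2) F)).subtype)
        hρ₀ _ hBc 1 hBlow m
    rw [hfr] at hV
    subst hm
    obtain ⟨C, hCc, hClow⟩ := glr_baseC (F := F) hodd
    have ha : (Fintype.card F - 1).factorization 2 = 1 := glr_fact_two _ (by omega)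
    have hCup : GlrUp C 1 := glr_up_small 1 (by rw [hCc, ha])
    obtain ⟨φ, hφ⟩ := fdp_embed (glrSum ρ (glrScal.comp (C : Subgroup Fˣ).subtype))
      (glrSum_injective _ _ hρ (glrScal_injective.comp Subtype.val_injective)) (2 * m + 1) (by
        rw [Module.finrank_prod, hV, Module.finrank_self]
        omega)
    have he : (2 * m + 1 + 1) / 2 = m * 1 + 1 := by omega
    refine ⟨T × C, inferInstance, φ, hφ, ?_, ?_, ?_⟩
    · rw [Nat.card_prod, hT, hCc, ← pow_add, glr_val3_odd hodd m]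
    · rw [he]
      exact glr_low_prod _ _ hlow hClow
    · rw [he]
      exact glr_up_prod _ _ (hup ⟨hBk, hBup⟩) hCup

/-- normal 2-rank of a Sylow 2-subgroup of `GL_n(q)`, `q ≡ 1 mod 4` -/
theorem glr_main1 {F : Type u} [Field F] [Fintype F] (hq : Fintype.card F % 4 = 1) (n : ℕ)
    (S : Sylow 2 (Matrix.GeneralLinearGroup (Fin n) F)) :
    (∃ E : Subgroup (S : Subgroup (Matrix.GeneralLinearGroup (Fin n) F)),
        E.Normal ∧ (IsMulCommutative E ∧ ∀ a ∈ E, a ^ 2 = 1) ∧ 2 ^ n ≤ Nat.card E) ∧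
      ∀ E : Subgroup (S : Subgroup (Matrix.GeneralLinearGroup (Fin n) F)),
        (IsMulCommutative E ∧ ∀ a ∈ E, a ^ 2 = 1) → Nat.card E ≤ 2 ^ n := by
  classical
  have h2 : (2 : F) ≠ 0 := by
    apply Ring.two_ne_zero
    intro hc
    have h3 := FiniteField.even_card_iff_char_two.mp hc
    omega
  constructor
  · obtain ⟨T, _, φ, hφ, hT, hlow⟩ := glr_model1 hq n
    obtain ⟨Φ⟩ := glr_transport n S φ hφ hT
    exact glr_final_low _ (glr_low_iso Φ _ hlow)
  · intro E hE
    obtain ⟨hEc, hEx⟩ := hE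
    let g : E → Matrix.GeneralLinearGroup (Fin n) F := fun e =>
      ((e : (S : Subgroup (Matrix.GeneralLinearGroup (Fin n) F))) :
        Matrix.GeneralLinearGroup (Fin n) F)
    have hg : Function.Injective g := fun a b hab => Subtype.ext (Subtype.ext hab)
    obtain ⟨hfin, hcard⟩ := glr_gl h2 n (Set.range g)
      (by
        rintro _ ⟨e, rfl⟩
        have h1 := hEx e.1 e.2
        rw [pow_two] at h1
        exact congrArg Subtype.val h1)
      (by
        rintro _ ⟨a, rfl⟩ _ ⟨b, rfl⟩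
        have h1 := hEc.is_comm.comm a b
        exact congrArg (fun z : E => ((z : (S : Subgroup (Matrix.GeneralLinearGroup (Fin n) F))) :
          Matrix.GeneralLinearGroup (Fin n) F)) h1)
    rw [← Nat.card_congr (Equiv.ofInjective g hg)] at hcard
    exact hcard

/-- normal 2-rank of a Sylow 2-subgroup of `GL_n(q)`, `q ≡ 3 mod 4` -/
theorem glr_main3 {F : Type u} [Field F] [Fintype F] (hq : Fintype.card F % 4 = 3) (n : ℕ)
    (S : Sylow 2 (Matrix.GeneralLinearGroup (Fin n) F)) :
    (∃ E : Subgroup (S : Subgroup (Matrix.GeneralLinearGroup (Fin n) F)),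
        E.Normal ∧ (IsMulCommutative E ∧ ∀ a ∈ E, a ^ 2 = 1) ∧
          2 ^ ((n + 1) / 2) ≤ Nat.card E) ∧
      ∀ E : Subgroup (S : Subgroup (Matrix.GeneralLinearGroup (Fin n) F)), E.Normal →
        (IsMulCommutative E ∧ ∀ a ∈ E, a ^ 2 = 1) → Nat.card E ≤ 2 ^ ((n + 1) / 2) := by
  classical
  obtain ⟨T, _, φ, hφ, hT, hlow, hup⟩ := glr_model3 hq n
  obtain ⟨Φ⟩ := glr_transport n S φ hφ hT
  exact ⟨glr_final_low _ (glr_low_iso Φ _ hlow), glr_final_up _ (glr_up_iso Φ _ hup)⟩

end Cfsg.Agent.Helper11
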