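import Mathlib
import Cfsg.Agent.Helper11.JordOrthB

set_option autoImplicit false

namespace Cfsg.Agent.Helper11

open scoped Matrix

/-- [R6b] a pair of equal Jordan blocks is an isometry of a nondegenerate alternating form. -/
theorem pair_block_form_alt {F : Type*} [Field F] (d : ℕ) :
    ∃ A M : Matrix (Fin d ⊕ Fin d) (Fin d ⊕ Fin d) F, (∀ v, v ⬝ᵥ M *ᵥ v = 0) ∧ M.det ≠ 0 ∧
      Aᵀ * M * A = M ∧ ∀ k, ((A - 1) ^ k).rank = (d - k) + (d - k) := by
  classical
  obtain ⟨N, hN⟩ : ∃ N : Matrix (Fin d) (Fin d) F, N = joS F d 1 := ⟨_, rfl⟩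
  obtain ⟨U, hU⟩ : ∃ U : Matrix (Fin d) (Fin d) F, U = ∑ i ∈ Finset.range d, (-N) ^ i := ⟨_, rfl⟩
  have hNd : (-N) ^ d = 0 := by rw [neg_pow, hN, joS_pow, joS_eq_zero d d le_rfl, mul_zero]
  have hU1 : (1 + N) * U = 1 := by
    have h := mul_neg_geom_sum (-N) d
    rw [hNd, sub_zero, sub_neg_eq_add] at h
    rw [hU]; exact h
  have hU2 : U * (1 + N) = 1 := by
    have h := geom_sum_mul_neg (-N) d
    rw [hNd, sub_zero, sub_neg_eq_add] at h
    rw [hU]; exact h
  have hNU : N * U = U * N := by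
    have h1 : (1 + N) * U = U * (1 + N) := by rw [hU1, hU2]
    rw [add_mul, mul_add, one_mul, mul_one] at h1
    exact add_left_cancel h1
  obtain ⟨M, hM⟩ : ∃ M : Matrix (Fin d ⊕ Fin d) (Fin d ⊕ Fin d) F,
      M = Matrix.fromBlocks 0 1 (-1) 0 := ⟨_, rfl⟩
  have hMM : M * (-M) = 1 := by
    rw [hM, Matrix.fromBlocks_neg, Matrix.fromBlocks_multiply]
    simp [Matrix.fromBlocks_one]
  refine ⟨Matrix.fromBlocks (1 + N) 0 0 Uᵀ, M, ?_, ?_, ?_, ?_⟩
  · intro v
    rw [hM, Matrix.fromBlocks_mulVec]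
    simp only [dotProduct, Fintype.sum_sum_type, Sum.elim_inl, Sum.elim_inr, Matrix.zero_mulVec,
      Matrix.one_mulVec, Matrix.neg_mulVec, zero_add, add_zero, Pi.neg_apply, Function.comp_apply,
      mul_neg, Finset.sum_neg_distrib]
    rw [add_neg_eq_zero]
    exact Finset.sum_congr rfl fun i _ => mul_comm _ _
  · intro h0
    have h := congrArg Matrix.det hMM
    rw [Matrix.det_mul, h0, Matrix.det_one, zero_mul] at h
    exact zero_ne_one h
  · rw [hM, Matrix.fromBlocks_transpose, Matrix.fromBlocks_multiply, Matrix.fromBlocks_multiply]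
    have h3 : U * (1 + N) = 1 := hU2
    have h4 : (1 + N)ᵀ * Uᵀ = 1 := by rw [← Matrix.transpose_mul, hU2, Matrix.transpose_one]
    have h4' : (1 + Nᵀ) * Uᵀ = 1 := by
      have h5 := h4
      rwa [Matrix.transpose_add, Matrix.transpose_one] at h5
    simp [h3, h4']
  · intro k
    have hA1 : Matrix.fromBlocks (1 + N) 0 0 Uᵀ - 1 = Matrix.fromBlocks N 0 0 (U - 1)ᵀ := by
      have e1 : Matrix.fromBlocks N 0 0 (U - 1)ᵀ + 1 = Matrix.fromBlocks (1 + N) 0 0 Uᵀ := by
        rw [← Matrix.fromBlocks_one, Matrix.fromBlocks_add, add_zero, add_comm N 1,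
          Matrix.transpose_sub, Matrix.transpose_one, sub_add_cancel]
      rw [← e1, add_sub_cancel_right]
    have hU3 : U - 1 = -(U * N) := by
      have : U - 1 = U - U * (1 + N) := by rw [hU2]
      rw [this]
      noncomm_ring
    have hcomm : Commute U N := hNU.symm
    have hpow : (U - 1) ^ k = (N ^ k) * ((-1) ^ k * U ^ k) := by
      rw [hU3, neg_pow, hcomm.mul_pow]
      have hc2 : Commute (N ^ k) ((-1 : Matrix (Fin d) (Fin d) F) ^ k * U ^ k) :=
        ((Commute.neg_one_right _).pow_right k).pow_left k |>.mul_right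
          ((hcomm.symm.pow_right k).pow_left k)
      rw [← mul_assoc]
      exact hc2.eq.symm
    have hdetU : IsUnit U.det := Matrix.isUnit_det_of_right_inverse hU2
    have hdet : IsUnit ((-1 : Matrix (Fin d) (Fin d) F) ^ k * U ^ k).det := by
      rw [Matrix.det_mul, Matrix.det_pow, Matrix.det_pow, Matrix.det_neg, Matrix.det_one]
      exact ((isUnit_one.neg.pow _).mul isUnit_one |>.pow k).mul (hdetU.pow k)
    rw [hA1, jo_block_pow, Cfsg.Agent.Helper21.br21_rank_fromBlocks, ← Matrix.transpose_pow,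
      Matrix.rank_transpose, hpow, Matrix.rank_mul_eq_left_of_isUnit_det _ _ hdet, hN, joS_pow,
      joS_rank]

end Cfsg.Agent.Helper11
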