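import Mathlib
import Cfsg.Agent.Helper11.Fstar

set_option autoImplicit false

namespace Cfsg.Agent.Helper11

theorem cyclic_sq_one {H : Type*} [Group H] [Finite H] [IsCyclic H] (z x : H)
    (hz : z * z = 1) (hz1 : z ≠ 1) (hx : x * x = 1) : x = 1 ∨ x = z := by
  by_cases hx1 : x = 1
  · exact Or.inl hx1
  · right
    have h2 : ∀ y : H, y * y = 1 → y ≠ 1 → orderOf y = 2 := by
      intro y hy hy1
      exact orderOf_eq_prime (by rw [pow_two]; exact hy) hy1
    exact cyclic_invol_unique x z (h2 x hx hx1) (h2 z hz hz1)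

theorem cyclic_sq_one' {P : Type*} [Group P] [Finite P] (U : Subgroup P) [IsCyclic U] {z x : P}
    (hzU : z ∈ U) (hz : z * z = 1) (hz1 : z ≠ 1) (hxU : x ∈ U) (hx : x * x = 1) :
    x = 1 ∨ x = z := by
  have h := cyclic_sq_one (⟨z, hzU⟩ : ↥U) ⟨x, hxU⟩ (Subtype.ext hz)
    (fun h => hz1 (congrArg Subtype.val h)) (Subtype.ext hx)
  rcases h with h | h
  · exact Or.inl (congrArg Subtype.val h)
  · exact Or.inr (congrArg Subtype.val h)

/-- A nontrivial normal subgroup of a finite `p`-group contains a nontrivial central element. -/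
theorem exists_central_of_normal_pgroup {G : Type*} [Group G] [Finite G] {p : ℕ} [Fact p.Prime]
    (hG : IsPGroup p G) (N : Subgroup G) [N.Normal] (hN : N ≠ ⊥) :
    ∃ z ∈ N, z ≠ 1 ∧ z ∈ Subgroup.center G := by
  have hNp : IsPGroup p N := hG.to_subgroup N
  have hnt : Nontrivial N := (Subgroup.nontrivial_iff_ne_bot N).2 hN
  have hdvd : p ∣ Nat.card N := by
    obtain ⟨n, hn0, hn⟩ := hNp.nontrivial_iff_card.mp hnt
    exact hn.symm ▸ dvd_pow_self _ (ne_of_gt hn0)
  have h1 : (1 : N) ∈ MulAction.fixedPoints (ConjAct G) N := fun g => smul_one g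
  obtain ⟨b, hb, hne⟩ :=
    (hG.of_equiv ConjAct.toConjAct).exists_fixed_point_of_prime_dvd_card_of_fixed_point N hdvd h1
  refine ⟨b, b.2, fun h => hne (Subtype.ext h.symm), ?_⟩
  rw [Subgroup.mem_center_iff]
  intro g
  have h2 := congrArg Subtype.val (hb (ConjAct.toConjAct g))
  rw [ConjAct.Subgroup.val_conj_smul, ConjAct.smul_def, ConjAct.ofConjAct_toConjAct] at h2
  calc g * b = g * b * g⁻¹ * g := by group
    _ = b * g := by rw [h2]

/-- The elements of `C(U)` that are central of order at most 2 modulo `U`. -/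
def sympW {P : Type*} [Group P] (U : Subgroup P) [hU : U.Normal] : Subgroup P where
  carrier := {w | w ∈ Subgroup.centralizer (U : Set P) ∧ w * w ∈ U ∧
    ∀ q : P, w * q * w⁻¹ * q⁻¹ ∈ U}
  one_mem' := by
    refine ⟨Subgroup.one_mem _, ?_, ?_⟩
    · rw [one_mul]; exact U.one_mem
    · intro q
      rw [one_mul, inv_one, mul_one, mul_inv_cancel]; exact U.one_mem
  mul_mem' := by
    rintro a b ⟨ha1, ha2, ha3⟩ ⟨hb1, hb2, hb3⟩
    refine ⟨Subgroup.mul_mem _ ha1 hb1, ?_, ?_⟩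
    · have e : a * b * (a * b) = (a * (b * a * b⁻¹ * a⁻¹) * a⁻¹) * (a * a) * (b * b) := by group
      rw [e]
      exact U.mul_mem (U.mul_mem (hU.conj_mem _ (hb3 a) a) ha2) hb2
    · intro q
      have e : a * b * q * (a * b)⁻¹ * q⁻¹ =
          (a * (b * q * b⁻¹ * q⁻¹) * a⁻¹) * (a * q * a⁻¹ * q⁻¹) := by group
      rw [e]
      exact U.mul_mem (hU.conj_mem _ (hb3 q) a) (ha3 q)
  inv_mem' := by
    rintro a ⟨ha1, ha2, ha3⟩
    refine ⟨Subgroup.inv_mem _ ha1, ?_, ?_⟩
    · have e : a⁻¹ * a⁻¹ = (a * a)⁻¹ := by group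
      rw [e]
      exact U.inv_mem ha2
    · intro q
      have e : a⁻¹ * q * a⁻¹⁻¹ * q⁻¹ = a⁻¹ * (a * q * a⁻¹ * q⁻¹)⁻¹ * a⁻¹⁻¹ := by group
      rw [e]
      exact hU.conj_mem _ (U.inv_mem (ha3 q)) a⁻¹

theorem mem_sympW {P : Type*} [Group P] {U : Subgroup P} [hU : U.Normal] {w : P} :
    w ∈ sympW U ↔ (w ∈ Subgroup.centralizer (U : Set P) ∧ w * w ∈ U ∧
      ∀ q : P, w * q * w⁻¹ * q⁻¹ ∈ U) := Iff.rfl

theorem sympW_char {P : Type*} [Group P] (U : Subgroup P) [hU : U.Characteristic] :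
    (sympW U).Characteristic := by
  rw [Subgroup.characteristic_iff_le_comap]
  intro φ w hw
  obtain ⟨h1, h2, h3⟩ := mem_sympW.mp hw
  have hfix : ∀ (ψ : P ≃* P) (x : P), ψ x ∈ U ↔ x ∈ U := fun ψ x => by
    have h := SetLike.ext_iff.mp (hU.fixed ψ) x
    rw [Subgroup.mem_comap] at h
    exact h
  show φ w ∈ sympW U
  refine mem_sympW.mpr ⟨?_, ?_, ?_⟩
  · rw [Subgroup.mem_centralizer_iff]
    intro u hu
    have hu' : φ.symm u ∈ U := (hfix φ _).mp (by rw [MulEquiv.apply_symm_apply]; exact hu)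
    have h := Subgroup.mem_centralizer_iff.mp h1 _ hu'
    have h' := congrArg φ h
    rw [map_mul, map_mul, MulEquiv.apply_symm_apply] at h'
    exact h'
  · rw [← map_mul]
    exact (hfix φ _).mpr h2
  · intro q
    have h := (hfix φ _).mpr (h3 (φ.symm q))
    rw [map_mul, map_mul, map_mul, map_inv, map_inv, MulEquiv.apply_symm_apply] at h
    exact h

theorem symp_center {P : Type*} [Group P] [Finite P]
    (hS : ∀ A : Subgroup P, A.Characteristic → IsMulCommutative A → IsCyclic A)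
    (z : P) (hzc : z ∈ Subgroup.center P) (hz2 : z * z = 1) (hz1 : z ≠ 1)
    (ζ : P) (hζ : ζ ∈ Subgroup.center P) (hζ2 : ζ * ζ = 1) : ζ = 1 ∨ ζ = z := by
  haveI : IsCyclic (Subgroup.center P) := hS _ inferInstance inferInstance
  exact cyclic_sq_one' (Subgroup.center P) hzc hz2 hz1 hζ hζ2

/-- In a finite group of exponent dividing 4 in which every characteristic abelian subgroup is
cyclic, all commutators lie in `{1, z}` for the central involution `z`. -/
theorem symp_struct {P : Type*} [Group P] [Finite P] (h4 : ∀ x : P, x ^ 4 = 1)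
    (hS : ∀ A : Subgroup P, A.Characteristic → IsMulCommutative A → IsCyclic A)
    (z : P) (hzc : z ∈ Subgroup.center P) (hz2 : z * z = 1) (hz1 : z ≠ 1) :
    ∀ p q : P, p * q * p⁻¹ * q⁻¹ = 1 ∨ p * q * p⁻¹ * q⁻¹ = z := by
  classical
  have hzcomm : ∀ x : P, x * z = z * x := fun x => Subgroup.mem_center_iff.mp hzc x
  have hzinv : z⁻¹ = z := inv_eq_of_mul_eq_one_left hz2
  have h2 : IsPGroup 2 P := fun x => ⟨2, by norm_num; exact h4 x⟩
  have hx4 : ∀ x : P, x * x * (x * x) = 1 := fun x => by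
    have h := h4 x
    rwa [show (4 : ℕ) = 2 + 2 from rfl, pow_add, pow_two] at h
  have hcen : ∀ ε : P, (ε = 1 ∨ ε = z) → (∀ x : P, x * ε = ε * x) ∧ ε * ε = 1 := by
    intro ε hε
    rcases hε with h | h
    · rw [h]
      exact ⟨fun x => by rw [mul_one, one_mul], one_mul 1⟩
    · rw [h]
      exact ⟨hzcomm, hz2⟩
  haveI : Nonempty {A : Subgroup P // A.Characteristic ∧ IsMulCommutative A} :=
    ⟨⟨Subgroup.center P, inferInstance, inferInstance⟩⟩
  obtain ⟨⟨U, hUc, hUa⟩, hmax⟩ := Finite.exists_max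
    (fun A : {A : Subgroup P // A.Characteristic ∧ IsMulCommutative A} =>
      Nat.card (A : Subgroup P))
  have hmax' : ∀ A : Subgroup P, A.Characteristic → IsMulCommutative A → U ≤ A → A = U := by
    intro A hA1 hA2 hUA
    have h := hmax ⟨A, hA1, hA2⟩
    exact (Subgroup.eq_of_le_of_card_ge hUA h).symm
  haveI := hUc
  haveI := hUa
  haveI hUcyc : IsCyclic U := hS U hUc hUa
  have hUn : U.Normal := inferInstance
  have hUcomm : ∀ a ∈ U, ∀ b ∈ U, a * b = b * a := by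
    intro a ha b hb
    have h : (⟨a, ha⟩ : ↥U) * ⟨b, hb⟩ = ⟨b, hb⟩ * ⟨a, ha⟩ := mul_comm' _ _
    exact congrArg Subtype.val h
  have hK1 : U ⊔ Subgroup.center P ≤ Subgroup.centralizer (U : Set P) := by
    apply sup_le
    · intro a ha
      rw [Subgroup.mem_centralizer_iff]
      intro b hb
      exact hUcomm b hb a ha
    · exact Subgroup.center_le_centralizer _
  have hK2 : U ⊔ Subgroup.center P ≤
      Subgroup.centralizer ((U ⊔ Subgroup.center P : Subgroup P) : Set P) := by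
    apply sup_le
    · intro a ha
      rw [Subgroup.mem_centralizer_iff]
      intro k hk
      exact (Subgroup.mem_centralizer_iff.mp (hK1 hk) a ha).symm
    · exact Subgroup.center_le_centralizer _
  have hZU : Subgroup.center P ≤ U := by
    have h := hmax' (U ⊔ Subgroup.center P) inferInstance
      (Subgroup.le_centralizer_iff_isMulCommutative.mp hK2) le_sup_left
    calc Subgroup.center P ≤ U ⊔ Subgroup.center P := le_sup_right
      _ = U := h
  have hzU : z ∈ U := hZU hzc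
  have hsq : ∀ x ∈ U, x * x = 1 → x = 1 ∨ x = z :=
    fun x hx hxx => cyclic_sq_one' U hzU hz2 hz1 hx hxx
  haveI hWc : (sympW U).Characteristic := sympW_char U
  have hWn : (sympW U).Normal := inferInstance
  have hUW : U ≤ sympW U := by
    intro u hu
    refine mem_sympW.mpr ⟨?_, U.mul_mem hu hu, ?_⟩
    · rw [Subgroup.mem_centralizer_iff]
      intro b hb
      exact hUcomm b hb u hu
    · intro q
      have e : u * q * u⁻¹ * q⁻¹ = u * (q * u⁻¹ * q⁻¹) := by group
      rw [e]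
      exact U.mul_mem hu (hUn.conj_mem _ (U.inv_mem hu) q)
  have hZW : sympW U ⊓ Subgroup.centralizer (sympW U : Set P) = U := by
    apply hmax' _ inferInstance
    · apply IsMulCommutative.of_comm
      rintro ⟨a, ha⟩ ⟨b, hb⟩
      apply Subtype.ext
      have h1 := (Subgroup.mem_inf.mp ha).2
      have h2' := (Subgroup.mem_inf.mp hb).1
      exact (Subgroup.mem_centralizer_iff.mp h1 b h2').symm
    · intro u hu
      refine Subgroup.mem_inf.mpr ⟨hUW hu, ?_⟩
      rw [Subgroup.mem_centralizer_iff]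
      intro w hw
      have hw' := (mem_sympW.mp hw).1
      exact (Subgroup.mem_centralizer_iff.mp hw' u hu).symm
  -- the centralizer of `W` lies in `U`
  have hCW : Subgroup.centralizer (sympW U : Set P) ≤ U := by
    by_contra hcon
    obtain ⟨x, hxC, hxU⟩ := SetLike.not_le_iff_exists.mp hcon
    haveI hCn : (Subgroup.centralizer (sympW U : Set P)).Normal := inferInstance
    haveI hNn : ((Subgroup.centralizer (sympW U : Set P)).map (QuotientGroup.mk' U)).Normal :=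
      Subgroup.Normal.map hCn _ (QuotientGroup.mk'_surjective U)
    have hN : (Subgroup.centralizer (sympW U : Set P)).map (QuotientGroup.mk' U) ≠ ⊥ := by
      intro h
      apply hxU
      have hx : QuotientGroup.mk' U x ∈
          (Subgroup.centralizer (sympW U : Set P)).map (QuotientGroup.mk' U) :=
        Subgroup.mem_map_of_mem _ hxC
      rw [h, Subgroup.mem_bot] at hx
      exact (QuotientGroup.eq_one_iff x).mp hx
    obtain ⟨ζ, hζN, hζ1, hζc⟩ := exists_central_of_normal_pgroup (h2.to_quotient U) _ hN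
    obtain ⟨r, hrC, rfl⟩ := Subgroup.mem_map.mp hζN
    have hrU : r ∉ U := fun h => hζ1 ((QuotientGroup.eq_one_iff r).mpr h)
    have hrq : ∀ q : P, r * q * r⁻¹ * q⁻¹ ∈ U := by
      intro q
      have hc := Subgroup.mem_center_iff.mp hζc (QuotientGroup.mk' U q)
      have h1 : QuotientGroup.mk' U (r * q * r⁻¹ * q⁻¹) = 1 := by
        rw [map_mul, map_mul, map_mul, map_inv, map_inv, ← hc]
        group
      exact (QuotientGroup.eq_one_iff _).mp h1
    have hrCU : r ∈ Subgroup.centralizer (U : Set P) :=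
      Subgroup.centralizer_le (SetLike.coe_subset_coe.mpr hUW) hrC
    by_cases hrr : r * r ∈ U
    · have hrW : r ∈ sympW U := mem_sympW.mpr ⟨hrCU, hrr, hrq⟩
      have hmem : r ∈ sympW U ⊓ Subgroup.centralizer (sympW U : Set P) :=
        Subgroup.mem_inf.mpr ⟨hrW, hrC⟩
      rw [hZW] at hmem
      exact hrU hmem
    · have hwC : r * r ∈ Subgroup.centralizer (sympW U : Set P) := Subgroup.mul_mem _ hrC hrC
      have hwW : r * r ∈ sympW U := by
        refine mem_sympW.mpr ⟨Subgroup.mul_mem _ hrCU hrCU, ?_, ?_⟩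
        · rw [hx4 r]; exact U.one_mem
        · intro q
          have e : r * r * q * (r * r)⁻¹ * q⁻¹ =
              (r * (r * q * r⁻¹ * q⁻¹) * r⁻¹) * (r * q * r⁻¹ * q⁻¹) := by group
          rw [e]
          exact U.mul_mem (hUn.conj_mem _ (hrq q) r) (hrq q)
      have hmem : r * r ∈ sympW U ⊓ Subgroup.centralizer (sympW U : Set P) :=
        Subgroup.mem_inf.mpr ⟨hwW, hwC⟩
      rw [hZW] at hmem
      exact hrr hmem
  -- commutators of `C(U)` with `W`
  have hlam : ∀ q ∈ Subgroup.centralizer (U : Set P), ∀ w ∈ sympW U,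
      q * w * q⁻¹ * w⁻¹ = 1 ∨ q * w * q⁻¹ * w⁻¹ = z := by
    intro q hq w hw
    obtain ⟨hw1, hw2, hw3⟩ := mem_sympW.mp hw
    have hlU : q * w * q⁻¹ * w⁻¹ ∈ U := by
      have e : q * w * q⁻¹ * w⁻¹ = (w * q * w⁻¹ * q⁻¹)⁻¹ := by group
      rw [e]
      exact U.inv_mem (hw3 q)
    apply hsq _ hlU
    have h1 : q * (w * w) * q⁻¹ = w * w := by
      have h := Subgroup.mem_centralizer_iff.mp hq (w * w) hw2
      calc q * (w * w) * q⁻¹ = (w * w * q) * q⁻¹ := by rw [h]
        _ = w * w := by group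
    have h3 : (q * w * q⁻¹ * w⁻¹) * w = w * (q * w * q⁻¹ * w⁻¹) :=
      Subgroup.mem_centralizer_iff.mp hw1 _ hlU
    have h5 : (q * w * q⁻¹ * w⁻¹) * (q * w * q⁻¹ * w⁻¹) * (w * w) = w * w := by
      calc (q * w * q⁻¹ * w⁻¹) * (q * w * q⁻¹ * w⁻¹) * (w * w)
          = (q * w * q⁻¹ * w⁻¹) * ((q * w * q⁻¹ * w⁻¹) * w) * w := by group
        _ = (q * w * q⁻¹ * w⁻¹) * (w * (q * w * q⁻¹ * w⁻¹)) * w := by rw [h3]
        _ = q * (w * w) * q⁻¹ := by group
        _ = w * w := h1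
    calc (q * w * q⁻¹ * w⁻¹) * (q * w * q⁻¹ * w⁻¹)
        = ((q * w * q⁻¹ * w⁻¹) * (q * w * q⁻¹ * w⁻¹) * (w * w)) * (w * w)⁻¹ := by group
      _ = 1 := by rw [h5]; group
  have hconj : ∀ q ∈ Subgroup.centralizer (U : Set P), ∀ w ∈ sympW U,
      ∃ ε : P, (ε = 1 ∨ ε = z) ∧ q * w = ε * (w * q) := by
    intro q hq w hw
    exact ⟨q * w * q⁻¹ * w⁻¹, hlam q hq w hw, by group⟩
  -- squares of elements of `C(U)` lie in `U`
  have hsqU : ∀ q ∈ Subgroup.centralizer (U : Set P), q * q ∈ U := by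
    intro q hq
    apply hCW
    rw [Subgroup.mem_centralizer_iff]
    intro w hw
    obtain ⟨ε, hε, hqw⟩ := hconj q hq w hw
    obtain ⟨hεc, hεε⟩ := hcen ε hε
    symm
    calc q * q * w = q * (q * w) := by group
      _ = q * (ε * (w * q)) := by rw [hqw]
      _ = (q * ε) * (w * q) := by group
      _ = (ε * q) * (w * q) := by rw [hεc q]
      _ = ε * (q * w) * q := by group
      _ = ε * (ε * (w * q)) * q := by rw [hqw]
      _ = (ε * ε) * (w * (q * q)) := by group
      _ = w * (q * q) := by rw [hεε, one_mul]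
  -- commutators of `C(U)` with the whole group lie in `U`
  have hcommU : ∀ q ∈ Subgroup.centralizer (U : Set P), ∀ t : P, q * t * q⁻¹ * t⁻¹ ∈ U := by
    intro q hq t
    apply hCW
    rw [Subgroup.mem_centralizer_iff]
    intro w hw
    obtain ⟨hw1, hw2, hw3⟩ := mem_sympW.mp hw
    have hw1W : t⁻¹ * w * t ∈ sympW U := by
      have h := hWn.conj_mem w hw t⁻¹
      rw [inv_inv] at h
      exact h
    obtain ⟨ε, hε, hqw⟩ := hconj q hq w hw
    obtain ⟨ε1, hε1, hqw1⟩ := hconj q hq _ hw1W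
    obtain ⟨hεc, hεε⟩ := hcen ε hε
    have hμ : t⁻¹ * w * t * w⁻¹ ∈ U := by
      have h := U.inv_mem (hw3 t⁻¹)
      have e : (w * t⁻¹ * w⁻¹ * t⁻¹⁻¹)⁻¹ = t⁻¹ * w * t * w⁻¹ := by group
      rw [e] at h
      exact h
    have hqμ : (t⁻¹ * w * t * w⁻¹) * q = q * (t⁻¹ * w * t * w⁻¹) :=
      Subgroup.mem_centralizer_iff.mp hq _ hμ
    have hεeq : ε1 = ε := by
      have h1 : ε1 * (t⁻¹ * w * t * q) = ε * (t⁻¹ * w * t * q) := by
        calc ε1 * (t⁻¹ * w * t * q) = q * (t⁻¹ * w * t) := hqw1.symm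
          _ = (q * (t⁻¹ * w * t * w⁻¹)) * w := by group
          _ = ((t⁻¹ * w * t * w⁻¹) * q) * w := by rw [hqμ]
          _ = (t⁻¹ * w * t * w⁻¹) * (q * w) := by group
          _ = (t⁻¹ * w * t * w⁻¹) * (ε * (w * q)) := by rw [hqw]
          _ = ((t⁻¹ * w * t * w⁻¹) * ε) * (w * q) := by group
          _ = (ε * (t⁻¹ * w * t * w⁻¹)) * (w * q) := by rw [hεc (t⁻¹ * w * t * w⁻¹)]
          _ = ε * (t⁻¹ * w * t * q) := by group
      exact mul_right_cancel h1
    rw [hεeq] at hqw1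
    have hwq : t⁻¹ * w * t * q = ε * (q * (t⁻¹ * w * t)) := by
      calc t⁻¹ * w * t * q = (ε * ε) * (t⁻¹ * w * t * q) := by rw [hεε, one_mul]
        _ = ε * (ε * (t⁻¹ * w * t * q)) := by group
        _ = ε * (q * (t⁻¹ * w * t)) := by rw [← hqw1]
    symm
    calc q * t * q⁻¹ * t⁻¹ * w = q * t * q⁻¹ * ((t⁻¹ * w * t * q) * q⁻¹ * t⁻¹) := by group
      _ = q * t * q⁻¹ * ((ε * (q * (t⁻¹ * w * t))) * q⁻¹ * t⁻¹) := by rw [hwq]
      _ = ((q * t * q⁻¹) * ε) * (q * (t⁻¹ * w * t) * q⁻¹ * t⁻¹) := by group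
      _ = (ε * (q * t * q⁻¹)) * (q * (t⁻¹ * w * t) * q⁻¹ * t⁻¹) := by rw [hεc (q * t * q⁻¹)]
      _ = ε * (q * w) * (t * q⁻¹ * t⁻¹) := by group
      _ = ε * (ε * (w * q)) * (t * q⁻¹ * t⁻¹) := by rw [hqw]
      _ = (ε * ε) * (w * (q * t * q⁻¹ * t⁻¹)) := by group
      _ = w * (q * t * q⁻¹ * t⁻¹) := by rw [hεε, one_mul]
  have hsqz : ∀ w ∈ Subgroup.centralizer (U : Set P), w * w = 1 ∨ w * w = z :=
    fun w hw => hsq _ (hsqU w hw) (hx4 w)
  have h7a : ∀ w ∈ Subgroup.centralizer (U : Set P), ∀ q : P,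
      w * q * w⁻¹ * q⁻¹ = 1 ∨ w * q * w⁻¹ * q⁻¹ = z := by
    intro w hw q
    have hμU := hcommU w hw q
    apply hsq _ hμU
    obtain ⟨hsc, -⟩ := hcen (w * w) (hsqz w hw)
    have hwμ : (w * q * w⁻¹ * q⁻¹) * w = w * (w * q * w⁻¹ * q⁻¹) :=
      Subgroup.mem_centralizer_iff.mp hw _ hμU
    calc (w * q * w⁻¹ * q⁻¹) * (w * q * w⁻¹ * q⁻¹)
        = ((w * q * w⁻¹ * q⁻¹) * w) * (q * w⁻¹ * q⁻¹) := by group
      _ = (w * (w * q * w⁻¹ * q⁻¹)) * (q * w⁻¹ * q⁻¹) := by rw [hwμ]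
      _ = (w * w) * q * (w * w)⁻¹ * q⁻¹ := by group
      _ = (q * (w * w)) * (w * w)⁻¹ * q⁻¹ := by rw [← hsc q]
      _ = 1 := by group
  -- elements outside `C(U)` invert a generator of `U`
  obtain ⟨u0, hu0⟩ := IsCyclic.exists_generator (α := ↥U)
  have hgen : ∀ x ∈ U, ∃ k : ℤ, x = (u0 : P) ^ k := by
    intro x hx
    obtain ⟨k, hk⟩ := Subgroup.mem_zpowers_iff.mp (hu0 ⟨x, hx⟩)
    refine ⟨k, ?_⟩
    have h := congrArg Subtype.val hk
    rw [Subgroup.coe_zpow] at h
    exact h.symm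
  have hu4 : (u0 : P) ^ (4 : ℕ) = 1 := h4 _
  have hcentU : ∀ t : P, t * (u0 : P) = (u0 : P) * t →
      t ∈ Subgroup.centralizer (U : Set P) := by
    intro t ht
    rw [Subgroup.mem_centralizer_iff]
    intro x hx
    obtain ⟨k, rfl⟩ := hgen x hx
    exact ((Commute.zpow_right (show Commute t (u0 : P) from ht) k).eq).symm
  have hinv : ∀ t : P, t ∉ Subgroup.centralizer (U : Set P) →
      t * (u0 : P) * t⁻¹ = (u0 : P)⁻¹ := by
    intro t ht
    have hv : t * (u0 : P) * t⁻¹ ∈ U := hUn.conj_mem _ u0.2 t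
    obtain ⟨k, hk⟩ := hgen _ hv
    have h4z : ((4 : ℕ) : ℤ) ≠ 0 := by norm_num
    obtain ⟨n, hn⟩ := Int.eq_ofNat_of_zero_le (Int.emod_nonneg k h4z)
    have hn4 : n < 4 := by
      have := Int.emod_lt_of_pos k (by norm_num : (0 : ℤ) < ((4 : ℕ) : ℤ))
      omega
    have hk' : t * (u0 : P) * t⁻¹ = (u0 : P) ^ n := by
      rw [hk, zpow_eq_zpow_emod' k hu4, hn, zpow_natCast]
    have hu1 : (u0 : P) ≠ 1 := by
      intro h
      apply ht
      apply hcentU
      rw [h, mul_one, one_mul]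
    have hback : ∀ v : P, t * (u0 : P) * t⁻¹ = v → (u0 : P) = t⁻¹ * v * t := by
      intro v hv'
      rw [← hv']
      group
    interval_cases n
    · exfalso
      rw [pow_zero] at hk'
      apply hu1
      rw [hback 1 hk']
      group
    · exfalso
      rw [pow_one] at hk'
      apply ht
      apply hcentU
      calc t * (u0 : P) = (t * (u0 : P) * t⁻¹) * t := by group
        _ = (u0 : P) * t := by rw [hk']
    · exfalso
      have h1 : (t * (u0 : P) * t⁻¹) * (t * (u0 : P) * t⁻¹) = 1 := by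
        rw [hk', ← pow_add]
        exact hu4
      have h2' : (u0 : P) * (u0 : P) = 1 := by
        calc (u0 : P) * (u0 : P)
            = t⁻¹ * ((t * (u0 : P) * t⁻¹) * (t * (u0 : P) * t⁻¹)) * t := by group
          _ = 1 := by rw [h1]; group
      apply hu1
      have h3 : t * (u0 : P) * t⁻¹ = 1 := by
        rw [hk', pow_two, h2']
      rw [hback 1 h3]
      group
    · rw [hk']
      have h1 : (u0 : P) ^ 3 * (u0 : P) = 1 := by
        rw [← pow_succ]
        exact hu4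
      exact eq_inv_of_mul_eq_one_left h1
  have hidx : ∀ t1 t2 : P, t1 ∉ Subgroup.centralizer (U : Set P) →
      t2 ∉ Subgroup.centralizer (U : Set P) →
      t1⁻¹ * t2 ∈ Subgroup.centralizer (U : Set P) := by
    intro t1 t2 h1 h2'
    apply hcentU
    have e1 := hinv t1 h1
    have e2 := hinv t2 h2'
    have e3 : t1⁻¹ * (u0 : P)⁻¹ * t1 = (u0 : P) := by
      rw [← e1]; group
    calc t1⁻¹ * t2 * (u0 : P) = t1⁻¹ * (t2 * (u0 : P) * t2⁻¹) * t2 := by group
      _ = t1⁻¹ * (u0 : P)⁻¹ * t2 := by rw [e2]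
      _ = (t1⁻¹ * (u0 : P)⁻¹ * t1) * (t1⁻¹ * t2) := by group
      _ = (u0 : P) * (t1⁻¹ * t2) := by rw [e3]
  intro p q
  by_cases hp : p ∈ Subgroup.centralizer (U : Set P)
  · exact h7a p hp q
  · by_cases hq : q ∈ Subgroup.centralizer (U : Set P)
    · have e : p * q * p⁻¹ * q⁻¹ = (q * p * q⁻¹ * p⁻¹)⁻¹ := by group
      rw [e]
      rcases h7a q hq p with h | h
      · left; rw [h, inv_one]
      · right; rw [h, hzinv]
    · have hw := hidx p q hp hq
      have e : p * q * p⁻¹ * q⁻¹ =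
          p * ((p⁻¹ * q) * p * (p⁻¹ * q)⁻¹ * p⁻¹)⁻¹ * p⁻¹ := by group
      rw [e]
      rcases h7a (p⁻¹ * q) hw p with h | h
      · left; rw [h, inv_one, mul_one, mul_inv_cancel]
      · right
        rw [h, hzinv, hzcomm p, mul_inv_cancel_right]

end Cfsg.Agent.Helper11
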