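import Mathlib
import Cfsg.Agent.Helper11.Symp

set_option autoImplicit false

namespace Cfsg.Agent.Helper11

/-- A noncentral involution `a` of `Q` is conjugate in `Q` to `z * a`. -/
theorem symp_exists_conj {G : Type*} [Group G] (Q : Subgroup G) (z : G)
    (hcomm : ∀ p ∈ Q, ∀ q ∈ Q, p * q * p⁻¹ * q⁻¹ = 1 ∨ p * q * p⁻¹ * q⁻¹ = z)
    (hcen : ∀ ζ ∈ Q, (∀ q ∈ Q, q * ζ = ζ * q) → ζ * ζ = 1 → ζ = 1 ∨ ζ = z)
    (a : G) (haQ : a ∈ Q) (ha2 : a * a = 1) (ha1 : a ≠ 1) (haz : a ≠ z) :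
    ∃ x ∈ Q, x * a * x⁻¹ = z * a := by
  by_contra hcon
  have hcon' : ∀ x ∈ Q, x * a * x⁻¹ ≠ z * a := fun x hx h => hcon ⟨x, hx, h⟩
  have hc : ∀ q ∈ Q, q * a = a * q := by
    intro q hq
    rcases hcomm q hq a haQ with h | h
    · calc q * a = (q * a * q⁻¹ * a⁻¹) * (a * q) := by group
        _ = a * q := by rw [h, one_mul]
    · exfalso
      apply hcon' q hq
      calc q * a * q⁻¹ = (q * a * q⁻¹ * a⁻¹) * a := by group
        _ = z * a := by rw [h]
  rcases hcen a haQ hc ha2 with h | h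
  · exact ha1 h
  · exact haz h

/-- An involution normalizing `Q` and centralizing `C_Q(a)` lies in `{1, z, a, z * a}`. -/
theorem symp_star {G : Type*} [Group G] (Q : Subgroup G) (z : G)
    (hzQ : z ∈ Q) (hz2 : z * z = 1)
    (hzc : ∀ q ∈ Q, q * z = z * q)
    (hcomm : ∀ p ∈ Q, ∀ q ∈ Q, p * q * p⁻¹ * q⁻¹ = 1 ∨ p * q * p⁻¹ * q⁻¹ = z)
    (hcen : ∀ ζ ∈ Q, (∀ q ∈ Q, q * ζ = ζ * q) → ζ * ζ = 1 → ζ = 1 ∨ ζ = z)
    (hself : ∀ c : G, (∀ q ∈ Q, c * q = q * c) → c ∈ Q)
    (a : G) (haQ : a ∈ Q) (ha2 : a * a = 1) (ha1 : a ≠ 1) (haz : a ≠ z)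
    (c : G) (hc2 : c * c = 1) (hcN : ∀ q ∈ Q, c * q * c⁻¹ ∈ Q)
    (hcR : ∀ r ∈ Q, r * a = a * r → c * r = r * c) :
    c = 1 ∨ c = z ∨ c = a ∨ c = z * a := by
  obtain ⟨x, hxQ, hx⟩ := symp_exists_conj Q z hcomm hcen a haQ ha2 ha1 haz
  have hainv : a⁻¹ = a := inv_eq_of_mul_eq_one_left ha2
  have hcinv : c⁻¹ = c := inv_eq_of_mul_eq_one_left hc2
  have hxiQ : x⁻¹ ∈ Q := Q.inv_mem hxQ
  have hxa : x * a = z * a * x := by
    calc x * a = (x * a * x⁻¹) * x := by group
      _ = z * a * x := by rw [hx]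
  have hax : a * x = z * (x * a) := by
    calc a * x = (z * z) * (a * x) := by rw [hz2, one_mul]
      _ = z * (z * a * x) := by group
      _ = z * (x * a) := by rw [hxa]
  have hxia : x⁻¹ * a = z * a * x⁻¹ := by
    calc x⁻¹ * a = x⁻¹ * (a * x) * x⁻¹ := by group
      _ = x⁻¹ * (z * (x * a)) * x⁻¹ := by rw [hax]
      _ = (x⁻¹ * z) * (x * a * x⁻¹) := by group
      _ = (z * x⁻¹) * (x * a * x⁻¹) := by rw [hzc x⁻¹ hxiQ]
      _ = z * a * x⁻¹ := by group
  have hcz : c * z = z * c := hcR z hzQ (hzc a haQ).symm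
  have hca : c * a = a * c := hcR a haQ rfl
  -- two cosets of `C_Q(a)` in `Q`
  have hcos : ∀ q ∈ Q, q * a = a * q ∨ (x⁻¹ * q) * a = a * (x⁻¹ * q) := by
    intro q hq
    rcases hcomm q hq a haQ with h | h
    · left
      calc q * a = (q * a * q⁻¹ * a⁻¹) * (a * q) := by group
        _ = a * q := by rw [h, one_mul]
    · right
      have hqa : q * a = z * (a * q) := by
        calc q * a = (q * a * q⁻¹ * a⁻¹) * (a * q) := by group
          _ = z * (a * q) := by rw [h]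
      calc x⁻¹ * q * a = x⁻¹ * (q * a) := by group
        _ = x⁻¹ * (z * (a * q)) := by rw [hqa]
        _ = (x⁻¹ * z) * (a * q) := by group
        _ = (z * x⁻¹) * (a * q) := by rw [hzc x⁻¹ hxiQ]
        _ = z * (x⁻¹ * a) * q := by group
        _ = z * (z * a * x⁻¹) * q := by rw [hxia]
        _ = (z * z) * (a * (x⁻¹ * q)) := by group
        _ = a * (x⁻¹ * q) := by rw [hz2, one_mul]
  obtain ⟨r, hr⟩ : ∃ r : G, r = x⁻¹ * (c * x * c⁻¹) := ⟨_, rfl⟩
  have hrQ : r ∈ Q := by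
    rw [hr]
    exact Q.mul_mem hxiQ (hcN x hxQ)
  have hclaim : ∀ t ∈ Q, t * a = a * t → r * t = t * r := by
    intro t ht hta
    have ht'Q : x * t * x⁻¹ ∈ Q := Q.mul_mem (Q.mul_mem hxQ ht) hxiQ
    have ht'a : (x * t * x⁻¹) * a = a * (x * t * x⁻¹) := by
      calc (x * t * x⁻¹) * a = x * t * (x⁻¹ * a) := by group
        _ = x * t * (z * a * x⁻¹) := by rw [hxia]
        _ = x * (t * z) * a * x⁻¹ := by group
        _ = x * (z * t) * a * x⁻¹ := by rw [hzc t ht]
        _ = (x * z) * (t * a) * x⁻¹ := by group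
        _ = (z * x) * (a * t) * x⁻¹ := by rw [hzc x hxQ, hta]
        _ = z * (x * a) * t * x⁻¹ := by group
        _ = z * (z * a * x) * t * x⁻¹ := by rw [hxa]
        _ = (z * z) * (a * (x * t * x⁻¹)) := by group
        _ = a * (x * t * x⁻¹) := by rw [hz2, one_mul]
    have h1 := hcR _ ht'Q ht'a
    have h2 := hcR t ht hta
    have h3 : c⁻¹ * t = t * c⁻¹ := by
      calc c⁻¹ * t = c⁻¹ * (t * c) * c⁻¹ := by group
        _ = c⁻¹ * (c * t) * c⁻¹ := by rw [h2]
        _ = t * c⁻¹ := by group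
    rw [hr]
    calc x⁻¹ * (c * x * c⁻¹) * t = x⁻¹ * c * x * (c⁻¹ * t) := by group
      _ = x⁻¹ * c * x * (t * c⁻¹) := by rw [h3]
      _ = x⁻¹ * (c * (x * t * x⁻¹)) * x * c⁻¹ := by group
      _ = x⁻¹ * (x * t * x⁻¹ * c) * x * c⁻¹ := by rw [h1]
      _ = t * (x⁻¹ * (c * x * c⁻¹)) := by group
  have hra : r * a = a * r := hclaim a haQ rfl
  have hcr : c * r = r * c := hcR r hrQ hra
  have hrr : r * r = 1 := by
    have h1 : r = c * r * c⁻¹ := by
      calc r = (r * c) * c⁻¹ := by group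
        _ = c * r * c⁻¹ := by rw [hcr]
    have h2 : c * r * c⁻¹ = r⁻¹ := by
      rw [hr]
      calc c * (x⁻¹ * (c * x * c⁻¹)) * c⁻¹ = c * x⁻¹ * c * x * (c * c)⁻¹ := by group
        _ = c * x⁻¹ * c * x := by rw [hc2, inv_one, mul_one]
        _ = c * x⁻¹ * c⁻¹ * x := by rw [hcinv]
        _ = (x⁻¹ * (c * x * c⁻¹))⁻¹ := by group
    have h3 : r = r⁻¹ := h1.trans h2
    calc r * r = r * r⁻¹ := by rw [← h3]
      _ = 1 := mul_inv_cancel r
  have hxx : (x * x) * a = a * (x * x) := by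
    calc (x * x) * a = x * (x * a) := by group
      _ = x * (z * a * x) := by rw [hxa]
      _ = (x * z) * a * x := by group
      _ = (z * x) * a * x := by rw [hzc x hxQ]
      _ = z * (x * a) * x := by group
      _ = z * (z * a * x) * x := by rw [hxa]
      _ = (z * z) * (a * (x * x)) := by group
      _ = a * (x * x) := by rw [hz2, one_mul]
  have hcxx := hcR (x * x) (Q.mul_mem hxQ hxQ) hxx
  have hxr : x * r = c * x * c⁻¹ := by
    rw [hr]; group
  have hrx : r * x = x * r := by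
    have h1 : (x * r) * (x * r) = x * x := by
      rw [hxr]
      calc c * x * c⁻¹ * (c * x * c⁻¹) = (c * (x * x)) * c⁻¹ := by group
        _ = (x * x * c) * c⁻¹ := by rw [hcxx]
        _ = x * x := by group
    have hrinv : r⁻¹ = r := inv_eq_of_mul_eq_one_left hrr
    calc r * x = x⁻¹ * ((x * r) * (x * r)) * r⁻¹ := by group
      _ = x⁻¹ * (x * x) * r⁻¹ := by rw [h1]
      _ = x * r⁻¹ := by group
      _ = x * r := by rw [hrinv]
  have hrc : ∀ q ∈ Q, q * r = r * q := by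
    intro q hq
    rcases hcos q hq with h | h
    · exact (hclaim q hq h).symm
    · have h1 := hclaim (x⁻¹ * q) (Q.mul_mem hxiQ hq) h
      calc q * r = x * ((x⁻¹ * q) * r) := by group
        _ = x * (r * (x⁻¹ * q)) := by rw [h1]
        _ = (x * r) * (x⁻¹ * q) := by group
        _ = (r * x) * (x⁻¹ * q) := by rw [hrx]
        _ = r * q := by group
  rcases hcen r hrQ hrc hrr with h | h
  · -- `c` commutes with `x`
    have hcx : c * x = x * c := by
      have h1 : x * r = x := by rw [h, mul_one]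
      rw [hxr] at h1
      calc c * x = (c * x * c⁻¹) * c := by group
        _ = x * c := by rw [h1]
    have hcQ : ∀ q ∈ Q, c * q = q * c := by
      intro q hq
      rcases hcos q hq with h' | h'
      · exact hcR q hq h'
      · have h1 := hcR (x⁻¹ * q) (Q.mul_mem hxiQ hq) h'
        calc c * q = (c * x) * (x⁻¹ * q) := by group
          _ = (x * c) * (x⁻¹ * q) := by rw [hcx]
          _ = x * (c * (x⁻¹ * q)) := by group
          _ = x * (x⁻¹ * q * c) := by rw [h1]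
          _ = q * c := by group
    have hcQ' := hself c hcQ
    rcases hcen c hcQ' (fun q hq => (hcQ q hq).symm) hc2 with h' | h'
    · exact Or.inl h'
    · exact Or.inr (Or.inl h')
  · have hcx : c * x * c⁻¹ = z * x := by
      rw [← hxr, h]
      exact hzc x hxQ
    have hd : (c * a) * x = x * (c * a) := by
      calc (c * a) * x = c * (a * x) := by group
        _ = c * (z * (x * a)) := by rw [hax]
        _ = (c * z) * (x * a) := by group
        _ = (z * c) * (x * a) := by rw [hcz]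
        _ = z * (c * x * c⁻¹) * (c * a) := by group
        _ = z * (z * x) * (c * a) := by rw [hcx]
        _ = (z * z) * (x * (c * a)) := by group
        _ = x * (c * a) := by rw [hz2, one_mul]
    have hdR : ∀ t ∈ Q, t * a = a * t → (c * a) * t = t * (c * a) := by
      intro t ht hta
      have h1 := hcR t ht hta
      calc (c * a) * t = c * (a * t) := by group
        _ = c * (t * a) := by rw [hta]
        _ = (c * t) * a := by group
        _ = (t * c) * a := by rw [h1]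
        _ = t * (c * a) := by group
    have hdQ : ∀ q ∈ Q, (c * a) * q = q * (c * a) := by
      intro q hq
      rcases hcos q hq with h' | h'
      · exact hdR q hq h'
      · have h1 := hdR (x⁻¹ * q) (Q.mul_mem hxiQ hq) h'
        calc (c * a) * q = ((c * a) * x) * (x⁻¹ * q) := by group
          _ = (x * (c * a)) * (x⁻¹ * q) := by rw [hd]
          _ = x * ((c * a) * (x⁻¹ * q)) := by group
          _ = x * (x⁻¹ * q * (c * a)) := by rw [h1]
          _ = q * (c * a) := by group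
    have hdQ' := hself (c * a) hdQ
    have hd2 : (c * a) * (c * a) = 1 := by
      calc (c * a) * (c * a) = c * (a * c) * a := by group
        _ = c * (c * a) * a := by rw [hca]
        _ = (c * c) * (a * a) := by group
        _ = 1 := by rw [hc2, ha2, one_mul]
    rcases hcen (c * a) hdQ' (fun q hq => (hdQ q hq).symm) hd2 with h' | h'
    · right; right; left
      calc c = (c * a) * a⁻¹ := by group
        _ = a := by rw [h', one_mul, hainv]
    · right; right; right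
      calc c = (c * a) * a⁻¹ := by group
        _ = z * a := by rw [h', hainv]

/-- Sylow transfer: a Sylow 2-subgroup `T` of `Ca` containing the 2-group `R`; if `T ≤ C` and
`|Ca| = |C|` then `T` contains every 2-subgroup `N` of `C` normalized by `C`. -/
theorem sylow_transfer {G : Type*} [Group G] [Finite G] (C Ca N R : Subgroup G)
    (hcard : Nat.card Ca = Nat.card C) (hNC : N ≤ C)
    (hN2 : IsPGroup 2 N) (hNn : ∀ c ∈ C, ∀ q ∈ N, c * q * c⁻¹ ∈ N)
    (hR2 : IsPGroup 2 R) (hRCa : R ≤ Ca) :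
    ∃ T : Subgroup G, IsPGroup 2 T ∧ R ≤ T ∧ T ≤ Ca ∧ (T ≤ C → N ≤ T) := by
  classical
  haveI : Fact (Nat.Prime 2) := ⟨Nat.prime_two⟩
  have hR2' : IsPGroup 2 (R.subgroupOf Ca) := hR2.comap_subtype
  obtain ⟨Pa, hPa⟩ := hR2'.exists_le_sylow
  refine ⟨(Pa : Subgroup ↥Ca).map Ca.subtype, Pa.isPGroup'.map _, ?_,
    Subgroup.map_subtype_le _, ?_⟩
  · intro r hr
    exact Subgroup.mem_map.mpr ⟨⟨r, hRCa hr⟩, hPa (Subgroup.mem_subgroupOf.mpr hr), rfl⟩
  · intro hTC n hn
    have hT2 : IsPGroup 2 (((Pa : Subgroup ↥Ca).map Ca.subtype).subgroupOf C) :=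
      (Pa.isPGroup'.map _).comap_subtype
    obtain ⟨S, hS⟩ := hT2.exists_le_sylow
    have hc1 : Nat.card (S : Subgroup ↥C) = 2 ^ Nat.factorization (Nat.card ↥C) 2 :=
      S.card_eq_multiplicity
    have hc2 : Nat.card (Pa : Subgroup ↥Ca) = 2 ^ Nat.factorization (Nat.card ↥Ca) 2 :=
      Pa.card_eq_multiplicity
    have hc3 : Nat.card ((Pa : Subgroup ↥Ca).map Ca.subtype) = Nat.card (Pa : Subgroup ↥Ca) :=
      Subgroup.card_subtype _ _
    have hc4 : Nat.card (((Pa : Subgroup ↥Ca).map Ca.subtype).subgroupOf C) =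
        Nat.card ((Pa : Subgroup ↥Ca).map Ca.subtype) :=
      Nat.card_congr (Subgroup.subgroupOfEquivOfLe hTC).toEquiv
    have heq : ((Pa : Subgroup ↥Ca).map Ca.subtype).subgroupOf C = (S : Subgroup ↥C) :=
      Subgroup.eq_of_le_of_card_ge hS (le_of_eq (by rw [hc1, hc4, hc3, hc2, hcard]))
    have hNnorm : (N.subgroupOf C).Normal := by
      constructor
      intro n hn c
      rw [Subgroup.mem_subgroupOf] at hn ⊢
      exact hNn c c.2 n hn
    have hN2' : IsPGroup 2 (N.subgroupOf C) := hN2.comap_subtype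
    have hle : N.subgroupOf C ≤ (S : Subgroup ↥C) := hN2'.le_sylow_of_normal S
    have hmem : (⟨n, hNC hn⟩ : ↥C) ∈ ((Pa : Subgroup ↥Ca).map Ca.subtype).subgroupOf C := by
      rw [heq]
      exact hle (Subgroup.mem_subgroupOf.mpr hn)
    exact Subgroup.mem_subgroupOf.mp hmem

theorem card_centralizer_conj {G : Type*} [Group G] (g z : G) :
    Nat.card (Subgroup.centralizer ({g * z * g⁻¹} : Set G)) =
      Nat.card (Subgroup.centralizer ({z} : Set G)) := by
  have h : Subgroup.centralizer ({g * z * g⁻¹} : Set G) =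
      (Subgroup.centralizer ({z} : Set G)).map (MulAut.conj g).toMonoidHom := by
    ext w
    rw [Subgroup.mem_map, Subgroup.mem_centralizer_singleton_iff]
    constructor
    · intro hw
      refine ⟨g⁻¹ * w * g, ?_, ?_⟩
      · rw [Subgroup.mem_centralizer_singleton_iff]
        calc g⁻¹ * w * g * z = g⁻¹ * (w * (g * z * g⁻¹)) * g := by group
          _ = g⁻¹ * ((g * z * g⁻¹) * w) * g := by rw [hw]
          _ = z * (g⁻¹ * w * g) := by group
      · show g * (g⁻¹ * w * g) * g⁻¹ = w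
        group
    · rintro ⟨c, hc, rfl⟩
      rw [Subgroup.mem_centralizer_singleton_iff] at hc
      show g * c * g⁻¹ * (g * z * g⁻¹) = g * z * g⁻¹ * (g * c * g⁻¹)
      calc g * c * g⁻¹ * (g * z * g⁻¹) = g * (c * z) * g⁻¹ := by group
        _ = g * (z * c) * g⁻¹ := by rw [hc]
        _ = g * z * g⁻¹ * (g * c * g⁻¹) := by group
  rw [h]
  exact Subgroup.card_map_of_injective (MulAut.conj g).injective

/-- If `z^g ∈ Q` and `z^g ≠ z` then `z ∈ Q^g`, stated as `g⁻¹ z g ∈ Q`. -/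
theorem symp_conj_mem {G : Type*} [Group G] [Finite G] (Q : Subgroup G) (z : G)
    (hzQ : z ∈ Q) (hz2 : z * z = 1) (hz1 : z ≠ 1)
    (hQ2 : IsPGroup 2 Q)
    (hQC : ∀ q ∈ Q, q * z = z * q)
    (hQN : ∀ c : G, c * z = z * c → ∀ q ∈ Q, c * q * c⁻¹ ∈ Q)
    (hcomm : ∀ p ∈ Q, ∀ q ∈ Q, p * q * p⁻¹ * q⁻¹ = 1 ∨ p * q * p⁻¹ * q⁻¹ = z)
    (hcen : ∀ ζ ∈ Q, (∀ q ∈ Q, q * ζ = ζ * q) → ζ * ζ = 1 → ζ = 1 ∨ ζ = z)
    (hself : ∀ c : G, (∀ q ∈ Q, c * q = q * c) → c ∈ Q)
    (g a : G) (ha : a = g * z * g⁻¹) (haQ : a ∈ Q) (hne : a ≠ z) :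
    g⁻¹ * z * g ∈ Q := by
  classical
  have ha2 : a * a = 1 := by
    rw [ha]
    calc g * z * g⁻¹ * (g * z * g⁻¹) = g * (z * z) * g⁻¹ := by group
      _ = 1 := by rw [hz2]; group
  have ha1 : a ≠ 1 := by
    intro h
    apply hz1
    calc z = g⁻¹ * (g * z * g⁻¹) * g := by group
      _ = 1 := by rw [← ha, h]; group
  have hainv : a⁻¹ = a := inv_eq_of_mul_eq_one_left ha2
  have haz : a * z = z * a := hQC a haQ
  obtain ⟨x, hxQ, hx⟩ := symp_exists_conj Q z hcomm hcen a haQ ha2 ha1 hne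
  have hxz : x * z = z * x := hQC x hxQ
  have hcard : Nat.card (Subgroup.centralizer ({a} : Set G)) =
      Nat.card (Subgroup.centralizer ({z} : Set G)) := by
    rw [ha]; exact card_centralizer_conj g z
  have hQle : Q ≤ Subgroup.centralizer ({z} : Set G) := by
    intro q hq
    rw [Subgroup.mem_centralizer_singleton_iff]
    exact hQC q hq
  obtain ⟨T, hT2, hRT, hTCa, hTC⟩ := sylow_transfer (Subgroup.centralizer ({z} : Set G))
    (Subgroup.centralizer ({a} : Set G)) Q (Q ⊓ Subgroup.centralizer ({a} : Set G)) hcard hQle hQ2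
    (fun c hc q hq => hQN c (Subgroup.mem_centralizer_singleton_iff.mp hc) q hq)
    (hQ2.to_le inf_le_left) inf_le_right
  -- `T` is not contained in `C(z)`
  have hTnC : ¬ T ≤ Subgroup.centralizer ({z} : Set G) := by
    intro h
    have hxT : x ∈ T := hTC h hxQ
    have hxa := Subgroup.mem_centralizer_singleton_iff.mp (hTCa hxT)
    apply hz1
    have h1 : z * a = a := by
      rw [← hx]
      calc x * a * x⁻¹ = (a * x) * x⁻¹ := by rw [hxa]
        _ = a := by group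
    calc z = (z * a) * a⁻¹ := by group
      _ = 1 := by rw [h1]; group
  have hTnil : Group.IsNilpotent ↥T := by
    haveI : Fact (Nat.Prime 2) := ⟨Nat.prime_two⟩
    exact hT2.isNilpotent
  have hNC : NormalizerCondition ↥T := Group.normalizerCondition_of_isNilpotent
  have hSlt : (Subgroup.centralizer ({z} : Set G)).subgroupOf T < ⊤ := by
    rw [lt_top_iff_ne_top]
    intro h
    apply hTnC
    intro t ht
    have h1 : (⟨t, ht⟩ : ↥T) ∈ (Subgroup.centralizer ({z} : Set G)).subgroupOf T := by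
      rw [h]; exact Subgroup.mem_top _
    exact Subgroup.mem_subgroupOf.mp h1
  have hlt := hNC _ hSlt
  obtain ⟨y, hyT, hyz, hyN1, hyN2⟩ : ∃ y : G, y ∈ T ∧ ¬ (y * z = z * y) ∧
      (∀ s ∈ T, s * z = z * s → (y * s * y⁻¹) * z = z * (y * s * y⁻¹)) ∧
      (∀ s ∈ T, s * z = z * s → (y⁻¹ * s * y) * z = z * (y⁻¹ * s * y)) := by
    obtain ⟨y, hyN, hyS⟩ := SetLike.exists_of_lt hlt
    refine ⟨(y : G), y.2, ?_, ?_, ?_⟩
    · intro h
      apply hyS
      rw [Subgroup.mem_subgroupOf, Subgroup.mem_centralizer_singleton_iff]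
      exact h
    · intro s hs hsz
      have h1 : (⟨s, hs⟩ : ↥T) ∈ (Subgroup.centralizer ({z} : Set G)).subgroupOf T := by
        rw [Subgroup.mem_subgroupOf, Subgroup.mem_centralizer_singleton_iff]
        exact hsz
      have h2 := (Subgroup.mem_normalizer_iff.mp hyN ⟨s, hs⟩).mp h1
      rw [Subgroup.mem_subgroupOf, Subgroup.mem_centralizer_singleton_iff] at h2
      exact h2
    · intro s hs hsz
      have h1 : (⟨s, hs⟩ : ↥T) ∈ (Subgroup.centralizer ({z} : Set G)).subgroupOf T := by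
        rw [Subgroup.mem_subgroupOf, Subgroup.mem_centralizer_singleton_iff]
        exact hsz
      have h2 := (Subgroup.mem_normalizer_iff''.mp hyN ⟨s, hs⟩).mp h1
      rw [Subgroup.mem_subgroupOf, Subgroup.mem_centralizer_singleton_iff] at h2
      exact h2
  have hzT : z ∈ T := hRT (Subgroup.mem_inf.mpr
    ⟨hzQ, Subgroup.mem_centralizer_singleton_iff.mpr haz.symm⟩)
  have hya : y * a = a * y := Subgroup.mem_centralizer_singleton_iff.mp (hTCa hyT)
  -- the involution `c = y z y⁻¹`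
  have hcz : (y * z * y⁻¹) * z = z * (y * z * y⁻¹) := hyN1 z hzT rfl
  have hc2 : (y * z * y⁻¹) * (y * z * y⁻¹) = 1 := by
    calc (y * z * y⁻¹) * (y * z * y⁻¹) = y * (z * z) * y⁻¹ := by group
      _ = 1 := by rw [hz2]; group
  have hcR : ∀ r ∈ Q, r * a = a * r → (y * z * y⁻¹) * r = r * (y * z * y⁻¹) := by
    intro r hr hra
    have hrT : r ∈ T := hRT (Subgroup.mem_inf.mpr
      ⟨hr, Subgroup.mem_centralizer_singleton_iff.mpr hra⟩)
    have h1 := hyN2 r hrT (hQC r hr)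
    calc (y * z * y⁻¹) * r = y * (z * (y⁻¹ * r * y)) * y⁻¹ := by group
      _ = y * ((y⁻¹ * r * y) * z) * y⁻¹ := by rw [h1]
      _ = r * (y * z * y⁻¹) := by group
  have hstar := symp_star Q z hzQ hz2 hQC hcomm hcen hself a haQ ha2 ha1 hne (y * z * y⁻¹) hc2
    (hQN _ hcz) hcR
  have hy : y * z * y⁻¹ = z * a := by
    rcases hstar with h | h | h | h
    · exfalso
      apply hz1
      calc z = y⁻¹ * (y * z * y⁻¹) * y := by group
        _ = 1 := by rw [h]; group
    · exfalso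
      apply hyz
      calc y * z = (y * z * y⁻¹) * y := by group
        _ = z * y := by rw [h]
    · exfalso
      apply hne
      calc a = y⁻¹ * (y * a) := by group
        _ = y⁻¹ * (a * y) := by rw [hya]
        _ = y⁻¹ * ((y * z * y⁻¹) * y) := by rw [h]
        _ = z := by group
    · exact h
  have hxiz : x⁻¹ * z * x = z := by
    calc x⁻¹ * z * x = x⁻¹ * (z * x) := by group
      _ = x⁻¹ * (x * z) := by rw [hxz]
      _ = z := by group
  have h1 : x⁻¹ * a * x = z * a := by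
    calc x⁻¹ * a * x = x⁻¹ * ((z * z) * a) * x := by rw [hz2, one_mul]
      _ = x⁻¹ * (z * (z * a)) * x := by group
      _ = x⁻¹ * (z * (x * a * x⁻¹)) * x := by rw [hx]
      _ = (x⁻¹ * z * x) * a := by group
      _ = z * a := by rw [hxiz]
  have hyia : y⁻¹ * a * y = a := by
    calc y⁻¹ * a * y = y⁻¹ * (a * y) := by group
      _ = y⁻¹ * (y * a) := by rw [hya]
      _ = a := by group
  have h2 : y⁻¹ * z * y = z * a := by
    have e : (y⁻¹ * z * y) * a = z := by
      calc (y⁻¹ * z * y) * a = (y⁻¹ * z * y) * (y⁻¹ * a * y) := by rw [hyia]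
        _ = y⁻¹ * (z * a) * y := by group
        _ = y⁻¹ * (y * z * y⁻¹) * y := by rw [hy]
        _ = z := by group
    calc y⁻¹ * z * y = ((y⁻¹ * z * y) * a) * a⁻¹ := by group
      _ = z * a := by rw [e, hainv]
  have h3 : y⁻¹ * (z * a) * y = z := by
    calc y⁻¹ * (z * a) * y = (y⁻¹ * z * y) * (y⁻¹ * a * y) := by group
      _ = (z * a) * a := by rw [h2, hyia]
      _ = z * (a * a) := by group
      _ = z := by rw [ha2, mul_one]
  have hk : (y⁻¹ * x⁻¹ * g) * z = z * (y⁻¹ * x⁻¹ * g) := by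
    calc (y⁻¹ * x⁻¹ * g) * z
        = y⁻¹ * (x⁻¹ * (g * z * g⁻¹) * x) * y * (y⁻¹ * x⁻¹ * g) := by group
      _ = y⁻¹ * (x⁻¹ * a * x) * y * (y⁻¹ * x⁻¹ * g) := by rw [← ha]
      _ = y⁻¹ * (z * a) * y * (y⁻¹ * x⁻¹ * g) := by rw [h1]
      _ = z * (y⁻¹ * x⁻¹ * g) := by rw [h3]
  have hki : (y⁻¹ * x⁻¹ * g)⁻¹ * z = z * (y⁻¹ * x⁻¹ * g)⁻¹ := by
    calc (y⁻¹ * x⁻¹ * g)⁻¹ * z
        = (y⁻¹ * x⁻¹ * g)⁻¹ * (z * (y⁻¹ * x⁻¹ * g)) * (y⁻¹ * x⁻¹ * g)⁻¹ := by group
      _ = (y⁻¹ * x⁻¹ * g)⁻¹ * ((y⁻¹ * x⁻¹ * g) * z) * (y⁻¹ * x⁻¹ * g)⁻¹ := by rw [hk]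
      _ = z * (y⁻¹ * x⁻¹ * g)⁻¹ := by group
  have hfin : g⁻¹ * z * g = (y⁻¹ * x⁻¹ * g)⁻¹ * (z * a) * (y⁻¹ * x⁻¹ * g)⁻¹⁻¹ := by
    calc g⁻¹ * z * g
        = (y⁻¹ * x⁻¹ * g)⁻¹ * (y⁻¹ * (x⁻¹ * z * x) * y) * (y⁻¹ * x⁻¹ * g)⁻¹⁻¹ := by group
      _ = (y⁻¹ * x⁻¹ * g)⁻¹ * (y⁻¹ * z * y) * (y⁻¹ * x⁻¹ * g)⁻¹⁻¹ := by rw [hxiz]
      _ = (y⁻¹ * x⁻¹ * g)⁻¹ * (z * a) * (y⁻¹ * x⁻¹ * g)⁻¹⁻¹ := by rw [h2]
  rw [hfin]
  exact hQN _ hki (z * a) (Q.mul_mem hzQ haQ)

theorem four_closure {G : Type*} [Group G] (z a : G) (hz2 : z * z = 1) (ha2 : a * a = 1)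
    (haz : a * z = z * a) :
    ∀ u ∈ Subgroup.closure ({z, a} : Set G), u = 1 ∨ u = z ∨ u = a ∨ u = z * a := by
  have hzinv : z⁻¹ = z := inv_eq_of_mul_eq_one_left hz2
  have hainv : a⁻¹ = a := inv_eq_of_mul_eq_one_left ha2
  intro u hu
  induction hu using Subgroup.closure_induction with
  | mem x hx =>
    rcases hx with h | h
    · exact Or.inr (Or.inl h)
    · exact Or.inr (Or.inr (Or.inl h))
  | one => exact Or.inl rfl
  | mul x y hx hy ihx ihy =>
    rcases ihx with h | h | h | h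
    · rcases ihy with h' | h' | h' | h'
      · rw [h, h']; exact Or.inl (one_mul 1)
      · rw [h, h']; exact Or.inr (Or.inl (one_mul z))
      · rw [h, h']; exact Or.inr (Or.inr (Or.inl (one_mul a)))
      · rw [h, h']; exact Or.inr (Or.inr (Or.inr (one_mul _)))
    · rcases ihy with h' | h' | h' | h'
      · rw [h, h']; exact Or.inr (Or.inl (mul_one z))
      · rw [h, h']; exact Or.inl hz2
      · rw [h, h']; exact Or.inr (Or.inr (Or.inr rfl))
      · rw [h, h']
        refine Or.inr (Or.inr (Or.inl ?_))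
        rw [← mul_assoc, hz2, one_mul]
    · rcases ihy with h' | h' | h' | h'
      · rw [h, h']; exact Or.inr (Or.inr (Or.inl (mul_one a)))
      · rw [h, h']; exact Or.inr (Or.inr (Or.inr haz))
      · rw [h, h']; exact Or.inl ha2
      · rw [h, h']
        refine Or.inr (Or.inl ?_)
        calc a * (z * a) = (a * z) * a := by group
          _ = (z * a) * a := by rw [haz]
          _ = z * (a * a) := by group
          _ = z := by rw [ha2, mul_one]
    · rcases ihy with h' | h' | h' | h'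
      · rw [h, h']; exact Or.inr (Or.inr (Or.inr (mul_one _)))
      · rw [h, h']
        refine Or.inr (Or.inr (Or.inl ?_))
        calc z * a * z = z * (a * z) := by group
          _ = z * (z * a) := by rw [haz]
          _ = (z * z) * a := by group
          _ = a := by rw [hz2, one_mul]
      · rw [h, h']
        refine Or.inr (Or.inl ?_)
        calc z * a * a = z * (a * a) := by group
          _ = z := by rw [ha2, mul_one]
      · rw [h, h']
        refine Or.inl ?_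
        calc z * a * (z * a) = z * (a * z) * a := by group
          _ = z * (z * a) * a := by rw [haz]
          _ = (z * z) * (a * a) := by group
          _ = 1 := by rw [hz2, ha2, one_mul]
  | inv x hx ih =>
    rcases ih with h | h | h | h
    · rw [h]; exact Or.inl inv_one
    · rw [h]; exact Or.inr (Or.inl hzinv)
    · rw [h]; exact Or.inr (Or.inr (Or.inl hainv))
    · rw [h]
      refine Or.inr (Or.inr (Or.inr ?_))
      calc (z * a)⁻¹ = a⁻¹ * z⁻¹ := by group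
        _ = a * z := by rw [hainv, hzinv]
        _ = z * a := haz

/-- Main structural statement: `z ∈ Q^g`, and `⟨Q, Q^g⟩` induces the full automorphism group of
the four-group `⟨z, z^g⟩`. -/
theorem symp_main {G : Type*} [Group G] [Finite G] (Q : Subgroup G) (z : G)
    (hzQ : z ∈ Q) (hz2 : z * z = 1) (hz1 : z ≠ 1)
    (hQ2 : IsPGroup 2 Q)
    (hQC : ∀ q ∈ Q, q * z = z * q)
    (hQN : ∀ c : G, c * z = z * c → ∀ q ∈ Q, c * q * c⁻¹ ∈ Q)
    (hcomm : ∀ p ∈ Q, ∀ q ∈ Q, p * q * p⁻¹ * q⁻¹ = 1 ∨ p * q * p⁻¹ * q⁻¹ = z)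
    (hcen : ∀ ζ ∈ Q, (∀ q ∈ Q, q * ζ = ζ * q) → ζ * ζ = 1 → ζ = 1 ∨ ζ = z)
    (hself : ∀ c : G, (∀ q ∈ Q, c * q = q * c) → c ∈ Q)
    (g a : G) (ha : a = g * z * g⁻¹) (haQ : a ∈ Q) (hne : a ≠ z) :
    z ∈ Q.map (MulAut.conj g).toMonoidHom ∧
      ∀ u ∈ Subgroup.closure ({z, a} : Set G), ∀ v ∈ Subgroup.closure ({z, a} : Set G),
        u ≠ 1 → v ≠ 1 → u ≠ v →
          ∃ w ∈ Q ⊔ Q.map (MulAut.conj g).toMonoidHom, w * z * w⁻¹ = u ∧ w * a * w⁻¹ = v := by
  classical
  have hb := symp_conj_mem Q z hzQ hz2 hz1 hQ2 hQC hQN hcomm hcen hself g a ha haQ hne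
  have hzmap : z ∈ Q.map (MulAut.conj g).toMonoidHom := by
    refine Subgroup.mem_map.mpr ⟨g⁻¹ * z * g, hb, ?_⟩
    show g * (g⁻¹ * z * g) * g⁻¹ = z
    group
  refine ⟨hzmap, ?_⟩
  have ha2 : a * a = 1 := by
    rw [ha]
    calc g * z * g⁻¹ * (g * z * g⁻¹) = g * (z * z) * g⁻¹ := by group
      _ = 1 := by rw [hz2]; group
  have ha1 : a ≠ 1 := by
    intro h
    apply hz1
    calc z = g⁻¹ * (g * z * g⁻¹) * g := by group
      _ = 1 := by rw [← ha, h]; group
  have haz : a * z = z * a := hQC a haQ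
  obtain ⟨x, hxQ, hx⟩ := symp_exists_conj Q z hcomm hcen a haQ ha2 ha1 hne
  have hxz' : x * z * x⁻¹ = z := by
    calc x * z * x⁻¹ = (z * x) * x⁻¹ := by rw [hQC x hxQ]
      _ = z := by group
  have hxza : x * (z * a) * x⁻¹ = a := by
    calc x * (z * a) * x⁻¹ = (x * z * x⁻¹) * (x * a * x⁻¹) := by group
      _ = z * (z * a) := by rw [hxz', hx]
      _ = (z * z) * a := by group
      _ = a := by rw [hz2, one_mul]
  -- the element `b = g⁻¹ z g` of `Q`
  have hb2 : (g⁻¹ * z * g) * (g⁻¹ * z * g) = 1 := by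
    calc (g⁻¹ * z * g) * (g⁻¹ * z * g) = g⁻¹ * (z * z) * g := by group
      _ = 1 := by rw [hz2]; group
  have hb1 : g⁻¹ * z * g ≠ 1 := by
    intro h
    apply hz1
    calc z = g * (g⁻¹ * z * g) * g⁻¹ := by group
      _ = 1 := by rw [h]; group
  have hbz : g⁻¹ * z * g ≠ z := by
    intro h
    apply hne
    rw [ha]
    calc g * z * g⁻¹ = g * (g⁻¹ * z * g) * g⁻¹ := by rw [h]
      _ = z := by group
  obtain ⟨x', hx'Q, hx'⟩ := symp_exists_conj Q z hcomm hcen (g⁻¹ * z * g) hb hb2 hb1 hbz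
  have hx'z : x' * z * x'⁻¹ = z := by
    calc x' * z * x'⁻¹ = (z * x') * x'⁻¹ := by rw [hQC x' hx'Q]
      _ = z := by group
  obtain ⟨Y, hY⟩ : ∃ Y : G, Y = g * x' * g⁻¹ := ⟨_, rfl⟩
  have hYmem : Y ∈ Q.map (MulAut.conj g).toMonoidHom := by
    rw [hY]
    exact Subgroup.mem_map.mpr ⟨x', hx'Q, rfl⟩
  have hYz : Y * z * Y⁻¹ = z * a := by
    rw [hY]
    calc (g * x' * g⁻¹) * z * (g * x' * g⁻¹)⁻¹
        = g * (x' * (g⁻¹ * z * g) * x'⁻¹) * g⁻¹ := by group
      _ = g * (z * (g⁻¹ * z * g)) * g⁻¹ := by rw [hx']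
      _ = (g * z * g⁻¹) * z := by group
      _ = a * z := by rw [← ha]
      _ = z * a := haz
  have hYa : Y * a * Y⁻¹ = a := by
    rw [hY, ha]
    calc (g * x' * g⁻¹) * (g * z * g⁻¹) * (g * x' * g⁻¹)⁻¹
        = g * (x' * z * x'⁻¹) * g⁻¹ := by group
      _ = g * z * g⁻¹ := by rw [hx'z]
  have hYza : Y * (z * a) * Y⁻¹ = z := by
    calc Y * (z * a) * Y⁻¹ = (Y * z * Y⁻¹) * (Y * a * Y⁻¹) := by group
      _ = (z * a) * a := by rw [hYz, hYa]
      _ = z * (a * a) := by group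
      _ = z := by rw [ha2, mul_one]
  have hxS : x ∈ Q ⊔ Q.map (MulAut.conj g).toMonoidHom := Subgroup.mem_sup_left hxQ
  have hYS : Y ∈ Q ⊔ Q.map (MulAut.conj g).toMonoidHom := Subgroup.mem_sup_right hYmem
  intro u hu v hv hu1 hv1 huv
  have hu' := four_closure z a hz2 ha2 haz u hu
  have hv' := four_closure z a hz2 ha2 haz v hv
  rcases hu' with h | h | h | h
  · exact absurd h hu1
  · rcases hv' with h' | h' | h' | h'
    · exact absurd h' hv1
    · exact absurd (h.trans h'.symm) huv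
    · refine ⟨1, Subgroup.one_mem _, ?_, ?_⟩
      · rw [h]; group
      · rw [h']; group
    · refine ⟨x, hxS, ?_, ?_⟩
      · rw [h]; exact hxz'
      · rw [h']; exact hx
  · rcases hv' with h' | h' | h' | h'
    · exact absurd h' hv1
    · refine ⟨x * Y * x, Subgroup.mul_mem _ (Subgroup.mul_mem _ hxS hYS) hxS, ?_, ?_⟩
      · rw [h]
        calc x * Y * x * z * (x * Y * x)⁻¹ = x * (Y * (x * z * x⁻¹) * Y⁻¹) * x⁻¹ := by group
          _ = x * (Y * z * Y⁻¹) * x⁻¹ := by rw [hxz']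
          _ = x * (z * a) * x⁻¹ := by rw [hYz]
          _ = a := hxza
      · rw [h']
        calc x * Y * x * a * (x * Y * x)⁻¹ = x * (Y * (x * a * x⁻¹) * Y⁻¹) * x⁻¹ := by group
          _ = x * (Y * (z * a) * Y⁻¹) * x⁻¹ := by rw [hx]
          _ = x * z * x⁻¹ := by rw [hYza]
          _ = z := hxz'
    · exact absurd (h.trans h'.symm) huv
    · refine ⟨x * Y, Subgroup.mul_mem _ hxS hYS, ?_, ?_⟩
      · rw [h]
        calc x * Y * z * (x * Y)⁻¹ = x * (Y * z * Y⁻¹) * x⁻¹ := by group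
          _ = x * (z * a) * x⁻¹ := by rw [hYz]
          _ = a := hxza
      · rw [h']
        calc x * Y * a * (x * Y)⁻¹ = x * (Y * a * Y⁻¹) * x⁻¹ := by group
          _ = x * a * x⁻¹ := by rw [hYa]
          _ = z * a := hx
  · rcases hv' with h' | h' | h' | h'
    · exact absurd h' hv1
    · refine ⟨Y * x, Subgroup.mul_mem _ hYS hxS, ?_, ?_⟩
      · rw [h]
        calc Y * x * z * (Y * x)⁻¹ = Y * (x * z * x⁻¹) * Y⁻¹ := by group
          _ = Y * z * Y⁻¹ := by rw [hxz']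
          _ = z * a := hYz
      · rw [h']
        calc Y * x * a * (Y * x)⁻¹ = Y * (x * a * x⁻¹) * Y⁻¹ := by group
          _ = Y * (z * a) * Y⁻¹ := by rw [hx]
          _ = z := hYza
    · refine ⟨Y, hYS, ?_, ?_⟩
      · rw [h]; exact hYz
      · rw [h']; exact hYa
    · exact absurd (h.trans h'.symm) huv

end Cfsg.Agent.Helper11
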