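import Mathlib
import Cfsg.Agent.Helper11.Symp2
import Cfsg.Agent.Helper11.ExtraCount
import Cfsg.Agent.Helper16.PCore

set_option autoImplicit false

namespace Cfsg.Agent.Helper11

/-- `O₂(C_G(x))` as a subgroup of `G`. -/
def o2c {G : Type*} [Group G] (x : G) : Subgroup G :=
  (Cfsg.pCore 2 ↥(Subgroup.centralizer ({x} : Set G))).map
    (Subgroup.centralizer ({x} : Set G)).subtype

theorem o2c_le {G : Type*} [Group G] (x : G) :
    o2c x ≤ Subgroup.centralizer ({x} : Set G) :=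
  Subgroup.map_subtype_le _

theorem o2c_comm {G : Type*} [Group G] {x q : G} (hq : q ∈ o2c x) : q * x = x * q :=
  Subgroup.mem_centralizer_singleton_iff.mp (o2c_le x hq)

theorem o2c_normal {G : Type*} [Group G] {x c : G} (hc : c * x = x * c) {q : G}
    (hq : q ∈ o2c x) : c * q * c⁻¹ ∈ o2c x := by
  obtain ⟨q0, hq0, rfl⟩ := Subgroup.mem_map.mp hq
  exact Subgroup.mem_map.mpr
    ⟨⟨c, Subgroup.mem_centralizer_singleton_iff.mpr hc⟩ * q0 *
        ⟨c, Subgroup.mem_centralizer_singleton_iff.mpr hc⟩⁻¹,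
      (Cfsg.Agent.Helper16.pCore_normal 2 _).conj_mem q0 hq0 _, rfl⟩

theorem o2c_isPGroup {G : Type*} [Group G] (x : G) : IsPGroup 2 ↥(o2c x) :=
  (Cfsg.Agent.Helper16.pCore_isPGroup 2 _).map _

/-- Conjugation carries `O₂(C(x))` into `O₂(C(g x g⁻¹))`. -/
theorem o2c_conj {G : Type*} [Group G] (g x y : G) (hy : y = g * x * g⁻¹) {q : G}
    (hq : q ∈ o2c x) : g * q * g⁻¹ ∈ o2c y := by
  subst hy
  have hN'le : (o2c x).map (MulAut.conj g).toMonoidHom ≤
      Subgroup.centralizer ({g * x * g⁻¹} : Set G) := by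
    rintro _ ⟨n, hn, rfl⟩
    have h1 : n * x = x * n := o2c_comm hn
    rw [Subgroup.mem_centralizer_singleton_iff]
    show g * n * g⁻¹ * (g * x * g⁻¹) = g * x * g⁻¹ * (g * n * g⁻¹)
    calc g * n * g⁻¹ * (g * x * g⁻¹) = g * (n * x) * g⁻¹ := by group
      _ = g * (x * n) * g⁻¹ := by rw [h1]
      _ = g * x * g⁻¹ * (g * n * g⁻¹) := by group
  have hconj : ∀ c ∈ Subgroup.centralizer ({g * x * g⁻¹} : Set G),
      ∀ n ∈ (o2c x).map (MulAut.conj g).toMonoidHom,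
      c * n * c⁻¹ ∈ (o2c x).map (MulAut.conj g).toMonoidHom := by
    intro c hc n hn
    obtain ⟨m, hm, rfl⟩ := Subgroup.mem_map.mp hn
    have hc' : c * (g * x * g⁻¹) = (g * x * g⁻¹) * c :=
      Subgroup.mem_centralizer_singleton_iff.mp hc
    have hc0 : (g⁻¹ * c * g) * x = x * (g⁻¹ * c * g) := by
      calc g⁻¹ * c * g * x = g⁻¹ * (c * (g * x * g⁻¹)) * g := by group
        _ = g⁻¹ * ((g * x * g⁻¹) * c) * g := by rw [hc']
        _ = x * (g⁻¹ * c * g) := by group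
    refine Subgroup.mem_map.mpr ⟨(g⁻¹ * c * g) * m * (g⁻¹ * c * g)⁻¹, o2c_normal hc0 hm, ?_⟩
    show g * ((g⁻¹ * c * g) * m * (g⁻¹ * c * g)⁻¹) * g⁻¹ = c * (g * m * g⁻¹) * c⁻¹
    group
  have hnorm : (((o2c x).map (MulAut.conj g).toMonoidHom).subgroupOf
      (Subgroup.centralizer ({g * x * g⁻¹} : Set G))).Normal := by
    constructor
    intro n hn c
    rw [Subgroup.mem_subgroupOf] at hn ⊢
    exact hconj c c.2 n hn
  have hp : IsPGroup 2 ↥(((o2c x).map (MulAut.conj g).toMonoidHom).subgroupOf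
      (Subgroup.centralizer ({g * x * g⁻¹} : Set G))) :=
    ((o2c_isPGroup x).map _).comap_subtype
  have hle := Cfsg.Agent.Helper16.le_pCore hnorm hp
  have hmem : (⟨g * q * g⁻¹, hN'le (Subgroup.mem_map.mpr ⟨q, hq, rfl⟩)⟩ :
      ↥(Subgroup.centralizer ({g * x * g⁻¹} : Set G))) ∈
      ((o2c x).map (MulAut.conj g).toMonoidHom).subgroupOf
        (Subgroup.centralizer ({g * x * g⁻¹} : Set G)) :=
    Subgroup.mem_subgroupOf.mpr (Subgroup.mem_map.mpr ⟨q, hq, rfl⟩)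
  exact Subgroup.mem_map.mpr ⟨_, hle hmem, rfl⟩

theorem o2c_conj_symm {G : Type*} [Group G] (g x : G) {q : G}
    (hq : g * q * g⁻¹ ∈ o2c (g * x * g⁻¹)) : q ∈ o2c x := by
  have h := o2c_conj g⁻¹ (g * x * g⁻¹) x (by group) hq
  have e : g⁻¹ * (g * q * g⁻¹) * g⁻¹⁻¹ = q := by group
  rw [e] at h
  exact h

/-- Commutators and central elements of an extraspecial 2-subgroup whose centre contains `z`. -/
theorem extra_struct {G : Type*} [Group G] (Q : Subgroup G) (hE : Cfsg.IsExtraspecial 2 ↥Q)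
    (z : G) (hzQ : z ∈ Q) (hz1 : z ≠ 1) (hzc : ∀ q ∈ Q, q * z = z * q) :
    (∀ p ∈ Q, ∀ q ∈ Q, p * q * p⁻¹ * q⁻¹ = 1 ∨ p * q * p⁻¹ * q⁻¹ = z) ∧
    (∀ ζ ∈ Q, (∀ q ∈ Q, q * ζ = ζ * q) → ζ = 1 ∨ ζ = z) := by
  have hc : commutator ↥Q = Subgroup.center ↥Q := hE.1.2.2
  have hZ : Nat.card (Subgroup.center ↥Q) = 2 := hE.2
  have hz'c : (⟨z, hzQ⟩ : ↥Q) ∈ Subgroup.center ↥Q := by
    rw [Subgroup.mem_center_iff]
    intro q
    exact Subtype.ext (hzc q.1 q.2)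
  have hz'1 : (⟨z, hzQ⟩ : ↥Q) ≠ 1 := fun h => hz1 (congrArg Subtype.val h)
  have key : ∀ ζ : ↥Q, ζ ∈ Subgroup.center ↥Q → (ζ : G) = 1 ∨ (ζ : G) = z := by
    intro ζ hζ
    by_cases h1 : ζ = 1
    · left; rw [h1]; rfl
    · right
      exact congrArg Subtype.val (center_eq_of_ne_one hZ hζ hz'c h1 hz'1)
  constructor
  · intro p hp q hq
    exact key _ (commutator_mem_center_of hc ⟨p, hp⟩ ⟨q, hq⟩)
  · intro ζ hζ hζc
    apply key ⟨ζ, hζ⟩
    rw [Subgroup.mem_center_iff]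
    intro q
    exact Subtype.ext (hζc q.1 q.2)

/-- Orthogonality of singular elements is symmetric. -/
theorem large_extra_orth {G : Type*} [Group G] [Finite G] (z : G) (hz : orderOf z = 2)
    (hE : Cfsg.IsExtraspecial 2 ↥(o2c z))
    (hC : Subgroup.centralizer ((o2c z : Subgroup G) : Set G) ≤ o2c z)
    (g : G) (hx : g * z * g⁻¹ ∈ o2c z) : z ∈ o2c (g * z * g⁻¹) := by
  have hz2 : z * z = 1 := by
    rw [← pow_two, ← hz]
    exact pow_orderOf_eq_one z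
  have hz1 : z ≠ 1 := by
    intro h
    rw [h, orderOf_one] at hz
    exact absurd hz (by norm_num)
  have hzQ : z ∈ o2c z := hC (Subgroup.mem_centralizer_iff.mpr (fun q hq => o2c_comm hq))
  by_cases hne : g * z * g⁻¹ = z
  · rw [hne]; exact hzQ
  · obtain ⟨hcomm, hcen⟩ := extra_struct (o2c z) hE z hzQ hz1 (fun q hq => o2c_comm hq)
    have hb := symp_conj_mem (o2c z) z hzQ hz2 hz1 (o2c_isPGroup z) (fun q hq => o2c_comm hq)
      (fun c hc q hq => o2c_normal hc hq) hcomm (fun ζ hζ h _ => hcen ζ hζ h)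
      (fun c hc => hC (Subgroup.mem_centralizer_iff.mpr (fun q hq => (hc q hq).symm)))
      g (g * z * g⁻¹) rfl hx hne
    have h := o2c_conj g z (g * z * g⁻¹) rfl hb
    have e : g * (g⁻¹ * z * g) * g⁻¹ = z := by group
    rw [e] at h
    exact h

/-- Structure of `O₂(C(u))` for a conjugate `u` of `z`. -/
theorem large_extra_struct {G : Type*} [Group G] (z : G) (hz1 : z ≠ 1)
    (hE : Cfsg.IsExtraspecial 2 ↥(o2c z)) (hzQ : z ∈ o2c z) (g u : G)
    (hu : g * z * g⁻¹ = u) :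
    u ∈ o2c u ∧
    (∀ p ∈ o2c u, ∀ q ∈ o2c u, p * q * p⁻¹ * q⁻¹ = 1 ∨ p * q * p⁻¹ * q⁻¹ = u) ∧
    (∀ ζ ∈ o2c u, (∀ q ∈ o2c u, q * ζ = ζ * q) → ζ = 1 ∨ ζ = u) := by
  subst hu
  obtain ⟨hcomm, hcen⟩ := extra_struct (o2c z) hE z hzQ hz1 (fun q hq => o2c_comm hq)
  have hback : ∀ p ∈ o2c (g * z * g⁻¹), g⁻¹ * p * g ∈ o2c z := by
    intro p hp
    apply o2c_conj_symm g z
    have e : g * (g⁻¹ * p * g) * g⁻¹ = p := by group
    rw [e]; exact hp
  refine ⟨o2c_conj g z _ rfl hzQ, ?_, ?_⟩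
  · intro p hp q hq
    rcases hcomm _ (hback p hp) _ (hback q hq) with h | h
    · left
      calc p * q * p⁻¹ * q⁻¹
          = g * ((g⁻¹ * p * g) * (g⁻¹ * q * g) * (g⁻¹ * p * g)⁻¹ * (g⁻¹ * q * g)⁻¹) * g⁻¹ := by
            group
        _ = 1 := by rw [h]; group
    · right
      calc p * q * p⁻¹ * q⁻¹
          = g * ((g⁻¹ * p * g) * (g⁻¹ * q * g) * (g⁻¹ * p * g)⁻¹ * (g⁻¹ * q * g)⁻¹) * g⁻¹ := by
            group
        _ = g * z * g⁻¹ := by rw [h]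
  · intro ζ hζ hζc
    have hc0 : ∀ q ∈ o2c z, q * (g⁻¹ * ζ * g) = (g⁻¹ * ζ * g) * q := by
      intro q hq
      have h1 := hζc (g * q * g⁻¹) (o2c_conj g z _ rfl hq)
      calc q * (g⁻¹ * ζ * g) = g⁻¹ * ((g * q * g⁻¹) * ζ) * g := by group
        _ = g⁻¹ * (ζ * (g * q * g⁻¹)) * g := by rw [h1]
        _ = (g⁻¹ * ζ * g) * q := by group
    rcases hcen _ (hback ζ hζ) hc0 with h | h
    · left
      calc ζ = g * (g⁻¹ * ζ * g) * g⁻¹ := by group
        _ = 1 := by rw [h]; group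
    · right
      calc ζ = g * (g⁻¹ * ζ * g) * g⁻¹ := by group
        _ = g * z * g⁻¹ := by rw [h]

theorem sq_one_comm {G : Type*} [Group G] (U : Subgroup G) (hU2 : ∀ u ∈ U, u * u = 1) :
    ∀ a ∈ U, ∀ b ∈ U, b * a = a * b := by
  intro a ha b hb
  have h1 := hU2 (a * b) (U.mul_mem ha hb)
  calc b * a = (a * a) * (b * a) * (b * b) := by rw [hU2 a ha, hU2 b hb, one_mul, mul_one]
    _ = a * ((a * b) * (a * b)) * b := by group
    _ = a * b := by rw [h1, mul_one]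

/-- For distinct singular `a`, `b` of a singular subgroup: `Q a ∩ Q b ≤ Q (a b)`. -/
theorem large_extra_pair {G : Type*} [Group G] [Finite G] (z : G) (hz : orderOf z = 2)
    (hE : Cfsg.IsExtraspecial 2 ↥(o2c z))
    (hC : Subgroup.centralizer ((o2c z : Subgroup G) : Set G) ≤ o2c z)
    (U : Subgroup G) (hU2 : ∀ u ∈ U, u * u = 1)
    (hS : ∀ u ∈ U, u ≠ 1 → ∃ g : G, g * z * g⁻¹ = u)
    (hO : ∀ u ∈ U, ∀ v ∈ U, u ≠ 1 → v ≠ 1 → v ∈ o2c u)
    (a b : G) (ha : a ∈ U) (hb : b ∈ U) (ha1 : a ≠ 1) (hb1 : b ≠ 1) (hab : a ≠ b) :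
    o2c a ⊓ o2c b ≤ o2c (a * b) := by
  have hz1 : z ≠ 1 := by
    intro h
    rw [h, orderOf_one] at hz
    exact absurd hz (by norm_num)
  have hzQ : z ∈ o2c z := hC (Subgroup.mem_centralizer_iff.mpr (fun q hq => o2c_comm hq))
  obtain ⟨gb, hgb⟩ := hS b hb hb1
  obtain ⟨hbQ, hcomm, hcen⟩ := large_extra_struct z hz1 hE hzQ gb b hgb
  have haQb : a ∈ o2c b := hO b hb a ha hb1 ha1
  have hba : b * a = a * b := sq_one_comm U hU2 a ha b hb
  obtain ⟨w, hwQ, hw⟩ := symp_exists_conj (o2c b) b hcomm (fun ζ hζ h _ => hcen ζ hζ h) a haQb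
    (hU2 a ha) ha1 hab
  have hab1 : a * b ≠ 1 := by
    intro h
    apply hab
    calc a = (a * b) * b⁻¹ := by group
      _ = b⁻¹ := by rw [h, one_mul]
      _ = b := inv_eq_of_mul_eq_one_left (hU2 b hb)
  have hbQab : b ∈ o2c (a * b) := hO (a * b) (U.mul_mem ha hb) b hb hab1 hb1
  intro q hq
  obtain ⟨hqa, hqb⟩ := Subgroup.mem_inf.mp hq
  have h1 : w * q * w⁻¹ ∈ o2c (a * b) := o2c_conj w a (a * b) (by rw [hw, hba]) hqa
  rcases hcomm w hwQ q hqb with h | h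
  · have e : w * q * w⁻¹ = q := by
      calc w * q * w⁻¹ = (w * q * w⁻¹ * q⁻¹) * q := by group
        _ = q := by rw [h, one_mul]
    rw [e] at h1
    exact h1
  · have e : w * q * w⁻¹ = b * q := by
      calc w * q * w⁻¹ = (w * q * w⁻¹ * q⁻¹) * q := by group
        _ = b * q := by rw [h]
    rw [e] at h1
    have h2 := (o2c (a * b)).mul_mem ((o2c (a * b)).inv_mem hbQab) h1
    have e2 : b⁻¹ * (b * q) = q := by group
    rw [e2] at h2
    exact h2

/-- `Q_U` is already the intersection over a generating set. -/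
theorem large_extra_gen {G : Type*} [Group G] [Finite G] (z : G) (hz : orderOf z = 2)
    (hE : Cfsg.IsExtraspecial 2 ↥(o2c z))
    (hC : Subgroup.centralizer ((o2c z : Subgroup G) : Set G) ≤ o2c z)
    (U : Subgroup G) (hU2 : ∀ u ∈ U, u * u = 1)
    (hS : ∀ u ∈ U, u ≠ 1 → ∃ g : G, g * z * g⁻¹ = u)
    (hO : ∀ u ∈ U, ∀ v ∈ U, u ≠ 1 → v ≠ 1 → v ∈ o2c u)
    (T : Set G) (hT : Subgroup.closure T = U) :
    ∀ u ∈ U, u ≠ 1 → (⨅ t ∈ T, o2c t) ≤ o2c u := by
  intro u hu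
  rw [← hT] at hu
  induction hu using Subgroup.closure_induction with
  | mem x hx =>
    intro _
    exact iInf₂_le x hx
  | one =>
    intro h
    exact absurd rfl h
  | mul x y hx hy ihx ihy =>
    intro hxy
    rw [hT] at hx hy
    by_cases hx1 : x = 1
    · rw [hx1, one_mul] at hxy ⊢
      exact ihy hxy
    · by_cases hy1 : y = 1
      · rw [hy1, mul_one]
        exact ihx hx1
      · have hne : x ≠ y := by
          intro h
          apply hxy
          rw [h]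
          exact hU2 y hy
        exact le_trans (le_inf (ihx hx1) (ihy hy1))
          (large_extra_pair z hz hE hC U hU2 hS hO x y hx hy hx1 hy1 hne)
  | inv x hx ih =>
    intro hx1
    rw [hT] at hx
    have e : x⁻¹ = x := inv_eq_of_mul_eq_one_left (hU2 x hx)
    rw [e] at hx1 ⊢
    exact ih hx1

end Cfsg.Agent.Helper11
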