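import Mathlib
import Cfsg.Agent.Helper11.LargeExtra

set_option autoImplicit false

namespace Cfsg.Agent.Helper11

/-- Common preliminaries: `z ≠ 1` and `z ∈ Q z`. -/
theorem large_extra_z {G : Type*} [Group G] (z : G) (hz : orderOf z = 2)
    (hC : Subgroup.centralizer ((o2c z : Subgroup G) : Set G) ≤ o2c z) :
    z ≠ 1 ∧ z ∈ o2c z := by
  constructor
  · intro h
    rw [h, orderOf_one] at hz
    exact absurd hz (by norm_num)
  · exact hC (Subgroup.mem_centralizer_iff.mpr (fun q hq => o2c_comm hq))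

/-- `L_U` normalizes `U` and centralizes `Q_U / U`. -/
theorem large_extra_LU_comm {G : Type*} [Group G] [Finite G] (z : G) (hz : orderOf z = 2)
    (hE : Cfsg.IsExtraspecial 2 ↥(o2c z))
    (hC : Subgroup.centralizer ((o2c z : Subgroup G) : Set G) ≤ o2c z)
    (U : Subgroup G)
    (hS : ∀ u ∈ U, u ≠ 1 → ∃ g : G, g * z * g⁻¹ = u)
    (hO : ∀ u ∈ U, ∀ v ∈ U, u ≠ 1 → v ≠ 1 → v ∈ o2c u)
    (g : G) (hg : g ∈ ⨆ u ∈ ((U : Set G) \ {1}), o2c u) :
    (∀ v ∈ U, g * v * g⁻¹ ∈ U) ∧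
    (∀ x ∈ ⨅ u ∈ ((U : Set G) \ {1}), o2c u, g * x * g⁻¹ * x⁻¹ ∈ U) := by
  obtain ⟨hz1, hzQ⟩ := large_extra_z z hz hC
  refine @Subgroup.iSup_induction G _ G (fun u => ⨆ (_ : u ∈ ((U : Set G) \ {1})), o2c u)
    (fun g => (∀ v ∈ U, g * v * g⁻¹ ∈ U) ∧
      (∀ x ∈ ⨅ u ∈ ((U : Set G) \ {1}), o2c u, g * x * g⁻¹ * x⁻¹ ∈ U)) g hg ?_ ?_ ?_
  · intro u w hw0
    by_cases hu : u ∈ ((U : Set G) \ {1})
    · have hw : w ∈ o2c u := by
        have hw' : w ∈ ⨆ (_ : u ∈ ((U : Set G) \ {1})), o2c u := hw0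
        rw [iSup_pos hu] at hw'
        exact hw'
      have huU : u ∈ U := hu.1
      have hu1 : u ≠ 1 := fun h => hu.2 h
      obtain ⟨gu, hgu⟩ := hS u huU hu1
      obtain ⟨huQ, hcomm, -⟩ := large_extra_struct z hz1 hE hzQ gu u hgu
      constructor
      · intro v hv
        by_cases hv1 : v = 1
        · rw [hv1]
          have e : w * 1 * w⁻¹ = 1 := by group
          rw [e]; exact U.one_mem
        · have hvQ : v ∈ o2c u := hO u huU v hv hu1 hv1
          have e : w * v * w⁻¹ = (w * v * w⁻¹ * v⁻¹) * v := by group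
          rw [e]
          rcases hcomm w hw v hvQ with h | h
          · rw [h, one_mul]; exact hv
          · rw [h]; exact U.mul_mem huU hv
      · intro x hx
        have hxQ : x ∈ o2c u :=
          (iInf₂_le u hu : (⨅ u ∈ ((U : Set G) \ {1}), o2c u) ≤ o2c u) hx
        rcases hcomm w hw x hxQ with h | h
        · rw [h]; exact U.one_mem
        · rw [h]; exact huU
    · have hw1 : w = 1 := by
        have hw' : w ∈ ⨆ (_ : u ∈ ((U : Set G) \ {1})), o2c u := hw0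
        rw [iSup_neg hu] at hw'
        exact Subgroup.mem_bot.mp hw'
      rw [hw1]
      constructor
      · intro v hv
        have e : (1 : G) * v * 1⁻¹ = v := by group
        rw [e]; exact hv
      · intro x hx
        have e : (1 : G) * x * 1⁻¹ * x⁻¹ = 1 := by group
        rw [e]; exact U.one_mem
  · constructor
    · intro v hv
      have e : (1 : G) * v * 1⁻¹ = v := by group
      rw [e]; exact hv
    · intro x hx
      have e : (1 : G) * x * 1⁻¹ * x⁻¹ = 1 := by group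
      rw [e]; exact U.one_mem
  · intro g₁ g₂ h₁ h₂
    constructor
    · intro v hv
      have e : g₁ * g₂ * v * (g₁ * g₂)⁻¹ = g₁ * (g₂ * v * g₂⁻¹) * g₁⁻¹ := by group
      rw [e]
      exact h₁.1 _ (h₂.1 v hv)
    · intro x hx
      have e : g₁ * g₂ * x * (g₁ * g₂)⁻¹ * x⁻¹ =
          g₁ * (g₂ * x * g₂⁻¹ * x⁻¹) * g₁⁻¹ * (g₁ * x * g₁⁻¹ * x⁻¹) := by group
      rw [e]
      exact U.mul_mem (h₁.1 _ (h₂.2 x hx)) (h₁.2 x hx)

/-- Double-centralizer property in `Q u` for a singular `u`: an element of `Q u` outside a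
subgroup `M₀ ≤ Q u` containing `u` is moved to its `u`-translate by some element of `Q u`
centralizing `M₀`. -/
theorem large_extra_dc {G : Type*} [Group G] [Finite G] (z : G) (hz : orderOf z = 2)
    (hE : Cfsg.IsExtraspecial 2 ↥(o2c z))
    (hC : Subgroup.centralizer ((o2c z : Subgroup G) : Set G) ≤ o2c z)
    (h u : G) (hh : h * z * h⁻¹ = u) (M₀ : Subgroup G) (hM₀ : M₀ ≤ o2c u) (huM : u ∈ M₀)
    (x : G) (hxQ : x ∈ o2c u) (hxM : x ∉ M₀) :
    ∃ g ∈ o2c u, (∀ v ∈ M₀, v * g = g * v) ∧ g * x * g⁻¹ = x * u := by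
  obtain ⟨hz1, hzQ⟩ := large_extra_z z hz hC
  obtain ⟨huQ, hcomm, -⟩ := large_extra_struct z hz1 hE hzQ h u hh
  obtain ⟨-, hcen0⟩ := extra_struct (o2c z) hE z hzQ hz1 (fun q hq => o2c_comm hq)
  have hback : ∀ p ∈ o2c u, h⁻¹ * p * h ∈ o2c z := by
    intro p hp
    apply o2c_conj_symm h z
    have e : h * (h⁻¹ * p * h) * h⁻¹ = p := by group
    rw [e, hh]; exact hp
  have econj : ∀ v : G, (MulAut.conj h⁻¹).toMonoidHom v = h⁻¹ * v * h := by
    intro v
    show h⁻¹ * v * h⁻¹⁻¹ = h⁻¹ * v * h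
    rw [inv_inv]
  obtain ⟨M, hM⟩ : ∃ M : Subgroup ↥(o2c z),
      ∀ m : ↥(o2c z), m ∈ M ↔ ∃ v ∈ M₀, h⁻¹ * v * h = (m : G) := by
    refine ⟨(M₀.map (MulAut.conj h⁻¹).toMonoidHom).subgroupOf (o2c z), ?_⟩
    intro m
    rw [Subgroup.mem_subgroupOf, Subgroup.mem_map]
    constructor
    · rintro ⟨v, hv, hvm⟩
      exact ⟨v, hv, (econj v).symm.trans hvm⟩
    · rintro ⟨v, hv, hvm⟩
      exact ⟨v, hv, (econj v).trans hvm⟩
  have hZM : Subgroup.center ↥(o2c z) ≤ M := by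
    intro ζ hζ
    rw [hM]
    have hζc : ∀ q ∈ o2c z, q * (ζ : G) = (ζ : G) * q := by
      intro q hq
      exact congrArg Subtype.val (Subgroup.mem_center_iff.mp hζ ⟨q, hq⟩)
    rcases hcen0 ζ.1 ζ.2 hζc with h1 | h1
    · refine ⟨1, M₀.one_mem, ?_⟩
      rw [h1]; group
    · refine ⟨u, huM, ?_⟩
      rw [h1, ← hh]; group
  have hdc := double_centralizer_le hE.1.2.2 hE.2 M hZM
  obtain ⟨x', hx'⟩ : ∃ x' : ↥(o2c z), (x' : G) = h⁻¹ * x * h := ⟨⟨_, hback x hxQ⟩, rfl⟩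
  have hx'M : x' ∉ M := by
    intro hmem
    rw [hM] at hmem
    obtain ⟨v, hv, hvm⟩ := hmem
    apply hxM
    have e : h⁻¹ * v * h = h⁻¹ * x * h := hvm.trans hx'
    have hvx : v = x := by
      calc v = h * (h⁻¹ * v * h) * h⁻¹ := by group
        _ = h * (h⁻¹ * x * h) * h⁻¹ := by rw [e]
        _ = x := by group
    rw [← hvx]; exact hv
  obtain ⟨g0, hg0, hne⟩ :
      ∃ g0 ∈ Subgroup.centralizer (M : Set ↥(o2c z)), g0 * x' ≠ x' * g0 := by
    by_contra hcon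
    push_neg at hcon
    exact hx'M (hdc (Subgroup.mem_centralizer_iff.mpr hcon))
  have hg0c : ∀ m ∈ M, m * g0 = g0 * m := Subgroup.mem_centralizer_iff.mp hg0
  have hgQ : h * (g0 : G) * h⁻¹ ∈ o2c u := o2c_conj h z u hh.symm g0.2
  refine ⟨h * (g0 : G) * h⁻¹, hgQ, ?_, ?_⟩
  · intro v hv
    obtain ⟨v', hv'⟩ : ∃ v' : ↥(o2c z), (v' : G) = h⁻¹ * v * h :=
      ⟨⟨_, hback v (hM₀ hv)⟩, rfl⟩
    have hvm : v' ∈ M := by
      rw [hM]; exact ⟨v, hv, hv'.symm⟩
    have h1 : (v' : G) * (g0 : G) = (g0 : G) * (v' : G) := congrArg Subtype.val (hg0c _ hvm)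
    rw [hv'] at h1
    calc v * (h * (g0 : G) * h⁻¹) = h * (h⁻¹ * v * h * (g0 : G)) * h⁻¹ := by group
      _ = h * ((g0 : G) * (h⁻¹ * v * h)) * h⁻¹ := by rw [h1]
      _ = h * (g0 : G) * h⁻¹ * v := by group
  · have hxu : x * u = u * x := o2c_comm hxQ
    rcases hcomm _ hgQ x hxQ with h1 | h1
    · exfalso
      apply hne
      apply Subtype.ext
      show (g0 : G) * (x' : G) = (x' : G) * (g0 : G)
      rw [hx']
      have h2 : h * (g0 : G) * h⁻¹ * x = x * (h * (g0 : G) * h⁻¹) := by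
        calc h * (g0 : G) * h⁻¹ * x
            = (h * (g0 : G) * h⁻¹ * x * (h * (g0 : G) * h⁻¹)⁻¹ * x⁻¹) *
                (x * (h * (g0 : G) * h⁻¹)) := by group
          _ = x * (h * (g0 : G) * h⁻¹) := by rw [h1, one_mul]
      calc (g0 : G) * (h⁻¹ * x * h) = h⁻¹ * (h * (g0 : G) * h⁻¹ * x) * h := by group
        _ = h⁻¹ * (x * (h * (g0 : G) * h⁻¹)) * h := by rw [h2]
        _ = h⁻¹ * x * h * (g0 : G) := by group
    · calc h * (g0 : G) * h⁻¹ * x * (h * (g0 : G) * h⁻¹)⁻¹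
          = (h * (g0 : G) * h⁻¹ * x * (h * (g0 : G) * h⁻¹)⁻¹ * x⁻¹) * x := by group
        _ = u * x := by rw [h1]
        _ = x * u := hxu.symm

/-- A singular subgroup lies in `Q u` for each of its non-identity elements `u`. -/
theorem large_extra_U_le {G : Type*} [Group G] (U : Subgroup G)
    (hO : ∀ u ∈ U, ∀ v ∈ U, u ≠ 1 → v ≠ 1 → v ∈ o2c u)
    (u : G) (hu : u ∈ U) (hu1 : u ≠ 1) : U ≤ o2c u := by
  intro v hv
  by_cases hv1 : v = 1
  · rw [hv1]; exact (o2c u).one_mem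
  · exact hO u hu v hv hu1 hv1

/-- The centralizer of `U` in `L_U` is transitive on each coset `x U`, `x ∈ Q_U \ U`. -/
theorem large_extra_coset {G : Type*} [Group G] [Finite G] (z : G) (hz : orderOf z = 2)
    (hE : Cfsg.IsExtraspecial 2 ↥(o2c z))
    (hC : Subgroup.centralizer ((o2c z : Subgroup G) : Set G) ≤ o2c z)
    (U : Subgroup G)
    (hS : ∀ u ∈ U, u ≠ 1 → ∃ g : G, g * z * g⁻¹ = u)
    (hO : ∀ u ∈ U, ∀ v ∈ U, u ≠ 1 → v ≠ 1 → v ∈ o2c u)
    (x : G) (hx : x ∈ ⨅ u ∈ ((U : Set G) \ {1}), o2c u) (hxU : x ∉ U)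
    (u : G) (hu : u ∈ U) :
    ∃ g ∈ (⨆ u ∈ ((U : Set G) \ {1}), o2c u) ⊓ Subgroup.centralizer (U : Set G),
      g * x * g⁻¹ = x * u := by
  by_cases hu1 : u = 1
  · refine ⟨1, Subgroup.one_mem _, ?_⟩
    rw [hu1]; group
  · obtain ⟨h, hh⟩ := hS u hu hu1
    have hmem : u ∈ ((U : Set G) \ {1}) := ⟨hu, fun h' => hu1 h'⟩
    have hxQ : x ∈ o2c u :=
      (iInf₂_le u hmem : (⨅ u ∈ ((U : Set G) \ {1}), o2c u) ≤ o2c u) hx
    obtain ⟨g, hgQ, hgU, hgx⟩ := large_extra_dc z hz hE hC h u hh U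
      (large_extra_U_le U hO u hu hu1) hu x hxQ hxU
    refine ⟨g, Subgroup.mem_inf.mpr ⟨?_, ?_⟩, hgx⟩
    · exact (le_iSup₂ (f := fun u (_ : u ∈ ((U : Set G) \ {1})) => o2c u) u hmem) hgQ
    · exact Subgroup.mem_centralizer_iff.mpr hgU

/-- `W ∪ cW` as a subgroup, inside an elementary abelian 2-subgroup. -/
theorem exists_adjoin {G : Type*} [Group G] (U : Subgroup G) (hU2 : ∀ u ∈ U, u * u = 1)
    (W : Subgroup G) (hWU : W ≤ U) (c : G) (hc : c ∈ U) :
    ∃ M : Subgroup G, ∀ m : G, m ∈ M ↔ (m ∈ W ∨ m * c ∈ W) := by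
  have hcomm := sq_one_comm U hU2
  have hcc : c * c = 1 := hU2 c hc
  have hmU : ∀ m : G, m * c ∈ W → m ∈ U := by
    intro m hm
    have h1 : m * c * c ∈ U := U.mul_mem (hWU hm) hc
    have e : m * c * c = m := by rw [mul_assoc, hcc, mul_one]
    rw [e] at h1
    exact h1
  refine ⟨{ carrier := {m | m ∈ W ∨ m * c ∈ W}
            one_mem' := Or.inl W.one_mem
            mul_mem' := ?_
            inv_mem' := ?_ }, fun m => Iff.rfl⟩
  · intro m₁ m₂ h₁ h₂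
    rcases h₁ with h₁ | h₁ <;> rcases h₂ with h₂ | h₂
    · exact Or.inl (W.mul_mem h₁ h₂)
    · right
      have e : m₁ * m₂ * c = m₁ * (m₂ * c) := mul_assoc _ _ _
      show m₁ * m₂ * c ∈ W
      rw [e]; exact W.mul_mem h₁ h₂
    · right
      have hc2 : c * m₂ = m₂ * c := hcomm m₂ (hWU h₂) c hc
      have e : m₁ * m₂ * c = (m₁ * c) * m₂ := by
        calc m₁ * m₂ * c = m₁ * (m₂ * c) := mul_assoc _ _ _
          _ = m₁ * (c * m₂) := by rw [hc2]
          _ = (m₁ * c) * m₂ := (mul_assoc _ _ _).symm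
      show m₁ * m₂ * c ∈ W
      rw [e]; exact W.mul_mem h₁ h₂
    · left
      have hc2 : c * m₂ = m₂ * c := hcomm m₂ (hmU m₂ h₂) c hc
      have e : m₁ * m₂ = (m₁ * c) * (m₂ * c) := by
        calc m₁ * m₂ = m₁ * (m₂ * (c * c)) := by rw [hcc, mul_one]
          _ = m₁ * ((m₂ * c) * c) := by rw [mul_assoc m₂ c c]
          _ = m₁ * ((c * m₂) * c) := by rw [hc2]
          _ = (m₁ * c) * (m₂ * c) := by simp only [mul_assoc]
      show m₁ * m₂ ∈ W
      rw [e]; exact W.mul_mem h₁ h₂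
  · intro m hm
    rcases hm with hm | hm
    · exact Or.inl (W.inv_mem hm)
    · right
      have hmU' : m ∈ U := hmU m hm
      have hc2 : c * m⁻¹ = m⁻¹ * c := hcomm m⁻¹ (U.inv_mem hmU') c hc
      have hci : c⁻¹ = c := inv_eq_of_mul_eq_one_left hcc
      have e : m⁻¹ * c = (m * c)⁻¹ := by
        rw [mul_inv_rev, hci, hc2]
      show m⁻¹ * c ∈ W
      rw [e]; exact W.inv_mem hm

/-- Transvections: for `W ≤ U` and distinct `a, b ∈ U \ W`, some element of `L_U` fixes `W`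
pointwise and conjugates `b` to `a`. -/
theorem large_extra_transv {G : Type*} [Group G] [Finite G] (z : G) (hz : orderOf z = 2)
    (hE : Cfsg.IsExtraspecial 2 ↥(o2c z))
    (hC : Subgroup.centralizer ((o2c z : Subgroup G) : Set G) ≤ o2c z)
    (U : Subgroup G) (hU2 : ∀ u ∈ U, u * u = 1)
    (hS : ∀ u ∈ U, u ≠ 1 → ∃ g : G, g * z * g⁻¹ = u)
    (hO : ∀ u ∈ U, ∀ v ∈ U, u ≠ 1 → v ≠ 1 → v ∈ o2c u)
    (W : Subgroup G) (hWU : W ≤ U) (a b : G) (ha : a ∈ U) (hb : b ∈ U)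
    (haW : a ∉ W) (hbW : b ∉ W) (hab : a ≠ b) :
    ∃ w ∈ ⨆ u ∈ ((U : Set G) \ {1}), o2c u, (∀ v ∈ W, w * v * w⁻¹ = v) ∧ w * b * w⁻¹ = a := by
  have hcommU := sq_one_comm U hU2
  have hc : a * b ∈ U := U.mul_mem ha hb
  have hc1 : a * b ≠ 1 := by
    intro h
    apply hab
    calc a = (a * b) * b⁻¹ := by group
      _ = b⁻¹ := by rw [h, one_mul]
      _ = b := inv_eq_of_mul_eq_one_left (hU2 b hb)
  obtain ⟨h, hh⟩ := hS (a * b) hc hc1
  have hUQ : U ≤ o2c (a * b) := large_extra_U_le U hO (a * b) hc hc1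
  obtain ⟨M₀, hM₀⟩ := exists_adjoin U hU2 W hWU (a * b) hc
  have hM₀Q : M₀ ≤ o2c (a * b) := by
    intro m hm
    apply hUQ
    rcases (hM₀ m).mp hm with h1 | h1
    · exact hWU h1
    · have h2 : m * (a * b) * (a * b) ∈ U := U.mul_mem (hWU h1) hc
      have e : m * (a * b) * (a * b) = m := by rw [mul_assoc, hU2 _ hc, mul_one]
      rw [e] at h2
      exact h2
  have hcM : a * b ∈ M₀ := (hM₀ _).mpr (Or.inr (by rw [hU2 _ hc]; exact W.one_mem))
  have e1 : a * (a * b) = b := by rw [← mul_assoc, hU2 a ha, one_mul]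
  have haM : a ∉ M₀ := by
    intro h1
    rcases (hM₀ a).mp h1 with h2 | h2
    · exact haW h2
    · apply hbW
      rw [e1] at h2
      exact h2
  obtain ⟨w, hwQ, hwM, hwa⟩ := large_extra_dc z hz hE hC h (a * b) hh M₀ hM₀Q hcM a
    (hUQ ha) haM
  refine ⟨w, ?_, ?_, ?_⟩
  · exact (le_iSup₂ (f := fun u (_ : u ∈ ((U : Set G) \ {1})) => o2c u) (a * b)
      ⟨hc, fun h' => hc1 h'⟩) hwQ
  · intro v hv
    have h1 : v * w = w * v := hwM v ((hM₀ v).mpr (Or.inl hv))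
    calc w * v * w⁻¹ = (v * w) * w⁻¹ := by rw [h1]
      _ = v := by group
  · have hcw : (a * b) * w = w * (a * b) := hwM _ hcM
    have hba : b * a = a * b := hcommU a ha b hb
    rw [e1] at hwa
    have e2 : w * (a * b) * w⁻¹ = a * b := by
      calc w * (a * b) * w⁻¹ = ((a * b) * w) * w⁻¹ := by rw [hcw]
        _ = a * b := by group
    calc w * b * w⁻¹ = w * (a * (a * b)) * w⁻¹ := by rw [e1]
      _ = (w * a * w⁻¹) * (w * (a * b) * w⁻¹) := by group
      _ = b * (a * b) := by rw [hwa, e2]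
      _ = (b * a) * b := (mul_assoc _ _ _).symm
      _ = a * (b * b) := by rw [hba, mul_assoc]
      _ = a := by rw [hU2 b hb, mul_one]

/-- Fixed subgroup of an automorphism. -/
def fixSub {U : Type*} [Group U] (φ : U ≃* U) : Subgroup U :=
  MonoidHom.eqLocus φ.toMonoidHom (MonoidHom.id U)

theorem mem_fixSub {U : Type*} [Group U] (φ : U ≃* U) (v : U) : v ∈ fixSub φ ↔ φ v = v :=
  Iff.rfl

/-- Conjugation by a normalizing element as an automorphism of a finite subgroup. -/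
theorem exists_conj_equiv {G : Type*} [Group G] (U : Subgroup G) [Finite ↥U] (w : G)
    (hw : ∀ v ∈ U, w * v * w⁻¹ ∈ U) :
    ∃ τ : ↥U ≃* ↥U, ∀ v : ↥U, ((τ v : ↥U) : G) = w * (v : G) * w⁻¹ := by
  have hinj : Function.Injective
      (((MulAut.conj w).toMonoidHom.comp U.subtype).codRestrict U (fun v => hw v.1 v.2)) := by
    intro v₁ v₂ h
    have h1 : w * (v₁ : G) * w⁻¹ = w * (v₂ : G) * w⁻¹ := congrArg Subtype.val h
    apply Subtype.ext
    calc (v₁ : G) = w⁻¹ * (w * (v₁ : G) * w⁻¹) * w := by group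
      _ = w⁻¹ * (w * (v₂ : G) * w⁻¹) * w := by rw [h1]
      _ = (v₂ : G) := by group
  exact ⟨MulEquiv.ofBijective _ (Finite.injective_iff_bijective.mp hinj), fun v => rfl⟩

/-- If a subgroup `L` normalizes a finite subgroup `U` and, for every `W ≤ U`, is transitive
on `U \ W` while fixing `W` pointwise, then `L` induces every automorphism of `U`. -/
theorem aut_of_transv {G : Type*} [Group G] (U L : Subgroup G) [Finite ↥U]
    (hN : ∀ g ∈ L, ∀ v ∈ U, g * v * g⁻¹ ∈ U)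
    (hT : ∀ W : Subgroup G, W ≤ U → ∀ a ∈ U, ∀ b ∈ U, a ∉ W → b ∉ W → a ≠ b →
      ∃ w ∈ L, (∀ v ∈ W, w * v * w⁻¹ = v) ∧ w * b * w⁻¹ = a) :
    ∀ φ : ↥U ≃* ↥U, ∃ g ∈ L, ∀ u : ↥U, g * (u : G) * g⁻¹ = ((φ u : ↥U) : G) := by
  have htopcase : ∀ φ : ↥U ≃* ↥U, fixSub φ = ⊤ →
      ∃ g ∈ L, ∀ u : ↥U, g * (u : G) * g⁻¹ = ((φ u : ↥U) : G) := by
    intro φ htop
    refine ⟨1, L.one_mem, ?_⟩
    intro u
    have hu : u ∈ fixSub φ := by rw [htop]; exact Subgroup.mem_top u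
    rw [(mem_fixSub φ u).mp hu]
    group
  have key : ∀ m : ℕ, ∀ φ : ↥U ≃* ↥U,
      Nat.card ↥U ≤ Nat.card ↥(fixSub φ) + m →
      ∃ g ∈ L, ∀ u : ↥U, g * (u : G) * g⁻¹ = ((φ u : ↥U) : G) := by
    intro m
    induction m with
    | zero =>
      intro φ hcard
      exact htopcase φ (Subgroup.eq_top_of_le_card _ (by simpa using hcard))
    | succ m ih =>
      intro φ hcard
      by_cases htop : fixSub φ = ⊤
      · exact htopcase φ htop
      · obtain ⟨a, ha⟩ : ∃ a : ↥U, a ∉ fixSub φ := by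
          by_contra hcon
          push_neg at hcon
          exact htop ((Subgroup.eq_top_iff' _).mpr hcon)
        have hab : a ≠ φ a := fun h => ha ((mem_fixSub φ a).mpr h.symm)
        have hb : φ a ∉ fixSub φ := by
          intro h
          have h1 : φ (φ a) = φ a := (mem_fixSub φ _).mp h
          exact hab (φ.injective h1).symm
        have hmap : ∀ v : ↥U, (v : G) ∈ (fixSub φ).map U.subtype → v ∈ fixSub φ := by
          intro v h
          obtain ⟨v', hv', e⟩ := Subgroup.mem_map.mp h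
          have e' : v' = v := Subtype.ext e
          rw [← e']; exact hv'
        obtain ⟨w, hwL, hwW, hwb⟩ := hT ((fixSub φ).map U.subtype) (Subgroup.map_subtype_le _)
          (a : G) a.2 ((φ a : ↥U) : G) (φ a).2 (fun h => ha (hmap a h))
          (fun h => hb (hmap _ h)) (fun h => hab (Subtype.ext h))
        obtain ⟨τ, hτ⟩ := exists_conj_equiv U w (hN w hwL)
        have hψ : ∀ v : ↥U, (((φ.trans τ) v : ↥U) : G) = w * ((φ v : ↥U) : G) * w⁻¹ :=
          fun v => hτ (φ v)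
        have hle : fixSub φ ≤ fixSub (φ.trans τ) := by
          intro v hv
          rw [mem_fixSub] at hv ⊢
          apply Subtype.ext
          rw [hψ v, hv]
          exact hwW (v : G) (Subgroup.mem_map.mpr ⟨v, (mem_fixSub φ v).mpr hv, rfl⟩)
        have hamem : a ∈ fixSub (φ.trans τ) := by
          rw [mem_fixSub]
          apply Subtype.ext
          rw [hψ a]
          exact hwb
        have hlt : Nat.card ↥(fixSub φ) < Nat.card ↥(fixSub (φ.trans τ)) := by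
          by_contra hcon
          push_neg at hcon
          have heq : fixSub φ = fixSub (φ.trans τ) := Subgroup.eq_of_le_of_card_ge hle hcon
          apply ha
          rw [heq]; exact hamem
        obtain ⟨g', hg'L, hg'⟩ := ih (φ.trans τ) (by omega)
        refine ⟨w⁻¹ * g', L.mul_mem (L.inv_mem hwL) hg'L, ?_⟩
        intro u
        have h1 := hg' u
        rw [hψ u] at h1
        calc w⁻¹ * g' * (u : G) * (w⁻¹ * g')⁻¹ = w⁻¹ * (g' * (u : G) * g'⁻¹) * w := by group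
          _ = w⁻¹ * (w * ((φ u : ↥U) : G) * w⁻¹) * w := by rw [h1]
          _ = ((φ u : ↥U) : G) := by group
  intro φ
  exact key (Nat.card ↥U) φ (Nat.le_add_left _ _)

/-- `U ≤ Q_U ≤ L_U ≤ N(U)` and `L_U` induces the full automorphism group of `U`. -/
theorem large_extra_aut {G : Type*} [Group G] [Finite G] (z : G) (hz : orderOf z = 2)
    (hE : Cfsg.IsExtraspecial 2 ↥(o2c z))
    (hC : Subgroup.centralizer ((o2c z : Subgroup G) : Set G) ≤ o2c z)
    (U : Subgroup G) (hU2 : ∀ u ∈ U, u * u = 1)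
    (hS : ∀ u ∈ U, u ≠ 1 → ∃ g : G, g * z * g⁻¹ = u)
    (hO : ∀ u ∈ U, ∀ v ∈ U, u ≠ 1 → v ≠ 1 → v ∈ o2c u)
    (n : ℕ) (hn : 2 ≤ n) (hcard : Nat.card ↥U = 2 ^ n) :
    U ≤ (⨅ u ∈ ((U : Set G) \ {1}), o2c u) ∧
    (⨅ u ∈ ((U : Set G) \ {1}), o2c u) ≤ (⨆ u ∈ ((U : Set G) \ {1}), o2c u) ∧
    (⨆ u ∈ ((U : Set G) \ {1}), o2c u) ≤ Subgroup.normalizer (U : Set G) ∧
    ∀ φ : ↥U ≃* ↥U, ∃ g ∈ (⨆ u ∈ ((U : Set G) \ {1}), o2c u),
      ∀ u : ↥U, g * (u : G) * g⁻¹ = ((φ u : ↥U) : G) := by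
  have hN : ∀ g ∈ (⨆ u ∈ ((U : Set G) \ {1}), o2c u), ∀ v ∈ U, g * v * g⁻¹ ∈ U :=
    fun g hg => (large_extra_LU_comm z hz hE hC U hS hO g hg).1
  refine ⟨?_, ?_, ?_, ?_⟩
  · apply le_iInf₂
    intro u hu
    exact large_extra_U_le U hO u hu.1 (fun h => hu.2 h)
  · obtain ⟨u₀, hu₀, hu₀1⟩ : ∃ u₀ ∈ U, u₀ ≠ 1 := by
      by_contra hcon
      push_neg at hcon
      have hbot : U = ⊥ := (Subgroup.eq_bot_iff_forall U).mpr hcon
      rw [hbot, Subgroup.card_bot] at hcard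
      have h4 : 2 ^ 2 ≤ 2 ^ n := Nat.pow_le_pow_right (by norm_num) hn
      omega
    have hmem : u₀ ∈ ((U : Set G) \ {1}) := ⟨hu₀, fun h' => hu₀1 h'⟩
    exact le_trans (iInf₂_le u₀ hmem)
      (le_iSup₂ (f := fun u (_ : u ∈ ((U : Set G) \ {1})) => o2c u) u₀ hmem)
  · intro g hg
    rw [Subgroup.mem_normalizer_iff]
    intro v
    constructor
    · exact hN g hg v
    · intro hv
      have h1 := hN g⁻¹ (Subgroup.inv_mem _ hg) _ hv
      have e : g⁻¹ * (g * v * g⁻¹) * g⁻¹⁻¹ = v := by group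
      rw [e] at h1
      exact h1
  · exact aut_of_transv U _ hN
      (fun W hWU a ha b hb haW hbW hab =>
        large_extra_transv z hz hE hC U hU2 hS hO W hWU a b ha hb haW hbW hab)

end Cfsg.Agent.Helper11
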