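import Mathlib
import Cfsg.Agent.Helper11.LargeExtra2
import Cfsg.Agent.Helper27.Basic
import Cfsg.Prelude.Def_MonsterType

set_option autoImplicit false

namespace Cfsg.Agent.Helper11

/-- The centre of an extraspecial 2-subgroup, as a subgroup of `G`, is `{1, z}`. -/
theorem extra_center_elt {G : Type*} [Group G] (Q : Subgroup G)
    (hE : Cfsg.IsExtraspecial 2 ↥Q) :
    ∃ z : G, z ∈ Q ∧ z ≠ 1 ∧ z * z = 1 ∧ (∀ q ∈ Q, q * z = z * q) ∧
      (∀ ζ : G, ζ ∈ (Subgroup.center ↥Q).map Q.subtype ↔ ζ = 1 ∨ ζ = z) := by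
  have hZ : Nat.card (Subgroup.center ↥Q) = 2 := hE.2
  obtain ⟨y, hy1, hy⟩ := (Nat.card_eq_two_iff' (1 : ↥(Subgroup.center ↥Q))).mp hZ
  refine ⟨((y : ↥Q) : G), (y : ↥Q).2, ?_, ?_, ?_, ?_⟩
  · intro h
    exact hy1 (Subtype.ext (Subtype.ext h))
  · exact congrArg Subtype.val (center_sq_eq_one hZ y.2)
  · intro q hq
    exact congrArg Subtype.val (Subgroup.mem_center_iff.mp y.2 ⟨q, hq⟩)
  · intro ζ
    constructor
    · rintro ⟨ζ', hζ', rfl⟩
      by_cases h1 : ζ' = 1
      · left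
        rw [h1]
        exact map_one _
      · right
        have hthis := hy ⟨ζ', hζ'⟩ (fun h => h1 (congrArg Subtype.val h))
        exact congrArg (fun t : ↥(Subgroup.center ↥Q) => ((t : ↥Q) : G)) hthis
    · rintro (h | h)
      · rw [h]; exact Subgroup.one_mem _
      · rw [h]; exact Subgroup.mem_map.mpr ⟨(y : ↥Q), y.2, rfl⟩

/-- The standing data of an extraspecial 2-subgroup `Q` with `C_G(Q) = Z(Q)` that is normal in
`C_G(Z(Q))`, in elementwise form. -/
theorem large_extra_setup {G : Type*} [Group G] (Q : Subgroup G)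
    (hL1 : Cfsg.IsExtraspecial 2 ↥Q)
    (hL2 : Subgroup.centralizer (Q : Set G) = (Subgroup.center ↥Q).map Q.subtype)
    (hL3 : Subgroup.centralizer (((Subgroup.center ↥Q).map Q.subtype : Subgroup G) : Set G) ≤
      Subgroup.normalizer (Q : Set G)) :
    ∃ z : G, z ∈ Q ∧ z * z = 1 ∧ z ≠ 1 ∧ (∀ q ∈ Q, q * z = z * q) ∧
      (∀ c : G, c * z = z * c → ∀ q ∈ Q, c * q * c⁻¹ ∈ Q) ∧
      (∀ p ∈ Q, ∀ q ∈ Q, p * q * p⁻¹ * q⁻¹ = 1 ∨ p * q * p⁻¹ * q⁻¹ = z) ∧
      (∀ ζ ∈ Q, (∀ q ∈ Q, q * ζ = ζ * q) → ζ = 1 ∨ ζ = z) ∧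
      (∀ c : G, (∀ q ∈ Q, c * q = q * c) → c = 1 ∨ c = z) ∧
      (∀ ζ : G, ζ ∈ (Subgroup.center ↥Q).map Q.subtype ↔ ζ = 1 ∨ ζ = z) := by
  obtain ⟨z, hzQ, hz1, hz2, hzc, hZ⟩ := extra_center_elt Q hL1
  obtain ⟨hcomm, hcen⟩ := extra_struct Q hL1 z hzQ hz1 hzc
  refine ⟨z, hzQ, hz2, hz1, hzc, ?_, hcomm, hcen, ?_, hZ⟩
  · intro c hc q hq
    have hcN : c ∈ Subgroup.normalizer (Q : Set G) := by
      apply hL3
      rw [Subgroup.mem_centralizer_iff]
      intro h hh
      rcases (hZ h).mp hh with h1 | h1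
      · rw [h1, one_mul, mul_one]
      · rw [h1]; exact hc.symm
    exact (Subgroup.mem_normalizer_iff.mp hcN q).mp hq
  · intro c hc
    have h1 : c ∈ Subgroup.centralizer (Q : Set G) :=
      Subgroup.mem_centralizer_iff.mpr (fun q hq => (hc q hq).symm)
    rw [hL2] at h1
    exact (hZ c).mp h1

/-- A 2-subgroup centralizing `z` and normal in `C_G(z)` lies in `O₂(C_G(z))`. -/
theorem le_o2c {G : Type*} [Group G] (Q : Subgroup G) (z : G) (hQ2 : IsPGroup 2 ↥Q)
    (hQC : ∀ q ∈ Q, q * z = z * q)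
    (hQN : ∀ c : G, c * z = z * c → ∀ q ∈ Q, c * q * c⁻¹ ∈ Q) : Q ≤ o2c z := by
  have hnorm : (Q.subgroupOf (Subgroup.centralizer ({z} : Set G))).Normal := by
    constructor
    intro n hn c
    rw [Subgroup.mem_subgroupOf] at hn ⊢
    exact hQN c (Subgroup.mem_centralizer_singleton_iff.mp c.2) n hn
  have hp : IsPGroup 2 ↥(Q.subgroupOf (Subgroup.centralizer ({z} : Set G))) :=
    hQ2.comap_subtype
  have hle := Cfsg.Agent.Helper16.le_pCore hnorm hp
  intro q hq
  have hqC : q ∈ Subgroup.centralizer ({z} : Set G) :=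
    Subgroup.mem_centralizer_singleton_iff.mpr (hQC q hq)
  exact Subgroup.mem_map.mpr ⟨⟨q, hqC⟩, hle (Subgroup.mem_subgroupOf.mpr hq), rfl⟩

/-- Key lemma: `Q` normalizes no non-trivial subgroup of odd order, as soon as some non-central
involution `b` of `Q` has `z ∈ O₂(C_G(b))`. -/
theorem large_extra_odd {G : Type*} [Group G] [Finite G] (Q : Subgroup G) (z : G)
    (hzQ : z ∈ Q) (hz2 : z * z = 1)
    (hQ2 : IsPGroup 2 ↥Q)
    (hQC : ∀ q ∈ Q, q * z = z * q)
    (hQN : ∀ c : G, c * z = z * c → ∀ q ∈ Q, c * q * c⁻¹ ∈ Q)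
    (hcomm : ∀ p ∈ Q, ∀ q ∈ Q, p * q * p⁻¹ * q⁻¹ = 1 ∨ p * q * p⁻¹ * q⁻¹ = z)
    (hcen : ∀ ζ ∈ Q, (∀ q ∈ Q, q * ζ = ζ * q) → ζ = 1 ∨ ζ = z)
    (hself : ∀ c : G, (∀ q ∈ Q, c * q = q * c) → c = 1 ∨ c = z)
    (b : G) (hbQ : b ∈ Q) (hb2 : b * b = 1) (hb1 : b ≠ 1) (hbz : b ≠ z) (hzb : z ∈ o2c b)
    (K : Subgroup G) (hK : Odd (Nat.card ↥K)) (hQK : ∀ q ∈ Q, ∀ k ∈ K, q * k * q⁻¹ ∈ K) :
    K = ⊥ := by
  have hzinv : z⁻¹ = z := inv_eq_of_mul_eq_one_left hz2
  have hbinv : b⁻¹ = b := inv_eq_of_mul_eq_one_left hb2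
  have hodd : ∀ k ∈ K, k * k = 1 → k = 1 := by
    intro k hk h
    exact Cfsg.Agent.Helper27.eq_one_of_odd_of_two_pow K hK hk (m := 1)
      (by rw [pow_one, pow_two]; exact h)
  have hodd2 : ∀ k ∈ K, ∀ T : Subgroup G, IsPGroup 2 ↥T → k ∈ T → k = 1 := by
    intro k hk T hT hkT
    obtain ⟨m, hm⟩ := Cfsg.Agent.Helper27.mem_two_pow_of_isPGroup hT hkT
    exact Cfsg.Agent.Helper27.eq_one_of_odd_of_two_pow K hK hk hm
  -- Step 1: `C_K(z) = 1`
  have hCz : ∀ k ∈ K, k * z = z * k → k = 1 := by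
    intro k hk hkz
    have hkq : ∀ q ∈ Q, k * q = q * k := by
      intro q hq
      have hc1 : q * k * q⁻¹ * k⁻¹ ∈ K := K.mul_mem (hQK q hq k hk) (K.inv_mem hk)
      have hc2 : q * k * q⁻¹ * k⁻¹ ∈ Q := by
        have h1 : k * q⁻¹ * k⁻¹ ∈ Q := hQN k hkz q⁻¹ (Q.inv_mem hq)
        have e : q * k * q⁻¹ * k⁻¹ = q * (k * q⁻¹ * k⁻¹) := by group
        rw [e]; exact Q.mul_mem hq h1
      have h1 := hodd2 _ hc1 Q hQ2 hc2
      calc k * q = (q * k * q⁻¹ * k⁻¹)⁻¹ * (q * k) := by group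
        _ = q * k := by rw [h1, inv_one, one_mul]
    rcases hself k hkq with h | h
    · exact h
    · apply hodd k hk
      rw [h]; exact hz2
  -- Step 2: `z` inverts `K`
  have hinv : ∀ k ∈ K, z * k * z⁻¹ = k⁻¹ := by
    have hf : ∀ x : ↥K, (x : G)⁻¹ * (z * (x : G) * z⁻¹) ∈ K := fun x =>
      K.mul_mem (K.inv_mem x.2) (hQK z hzQ x.1 x.2)
    have hinj : Function.Injective
        (fun x : ↥K => (⟨(x : G)⁻¹ * (z * (x : G) * z⁻¹), hf x⟩ : ↥K)) := by
      intro x y hxy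
      have h1 : (x : G)⁻¹ * (z * (x : G) * z⁻¹) = (y : G)⁻¹ * (z * (y : G) * z⁻¹) :=
        congrArg Subtype.val hxy
      have h2 : ((y : G) * (x : G)⁻¹) * z = z * ((y : G) * (x : G)⁻¹) := by
        calc ((y : G) * (x : G)⁻¹) * z
            = (y : G) * ((x : G)⁻¹ * (z * (x : G) * z⁻¹)) * (z * (x : G)⁻¹) := by group
          _ = (y : G) * ((y : G)⁻¹ * (z * (y : G) * z⁻¹)) * (z * (x : G)⁻¹) := by rw [h1]
          _ = z * ((y : G) * (x : G)⁻¹) := by group
      have h3 := hCz _ (K.mul_mem y.2 (K.inv_mem x.2)) h2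
      apply Subtype.ext
      calc (x : G) = ((y : G) * (x : G)⁻¹)⁻¹ * (y : G) := by group
        _ = (y : G) := by rw [h3, inv_one, one_mul]
    have hsurj := Finite.injective_iff_surjective.mp hinj
    intro k hk
    obtain ⟨x, hx⟩ := hsurj ⟨k, hk⟩
    have hx' : (x : G)⁻¹ * (z * (x : G) * z⁻¹) = k := congrArg Subtype.val hx
    rw [← hx']
    calc z * ((x : G)⁻¹ * (z * (x : G) * z⁻¹)) * z⁻¹
        = z * (x : G)⁻¹ * z * (x : G) * (z⁻¹ * z⁻¹) := by group
      _ = z * (x : G)⁻¹ * z * (x : G) := by rw [hzinv, hz2, mul_one]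
      _ = z * (x : G)⁻¹ * z⁻¹ * (x : G) := by rw [hzinv]
      _ = ((x : G)⁻¹ * (z * (x : G) * z⁻¹))⁻¹ := by group
  -- Step 3: `K` is abelian
  have hKc : ∀ x ∈ K, ∀ y ∈ K, x * y = y * x := by
    intro x hx y hy
    have h1 : z * (x * y) * z⁻¹ = (x * y)⁻¹ := hinv _ (K.mul_mem hx hy)
    have h2 : z * (x * y) * z⁻¹ = (z * x * z⁻¹) * (z * y * z⁻¹) := by group
    rw [hinv x hx, hinv y hy] at h2
    have h3 : (x * y)⁻¹ = x⁻¹ * y⁻¹ := h1.symm.trans h2
    calc x * y = ((x * y)⁻¹)⁻¹ := (inv_inv _).symm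
      _ = (x⁻¹ * y⁻¹)⁻¹ := by rw [h3]
      _ = y * x := by group
  -- Step 4: `C_K(b) = 1`
  have hCb : ∀ y ∈ K, y * b = b * y → y = 1 := by
    intro y hy hyb
    have h1 : y * z * y⁻¹ ∈ o2c b := o2c_normal hyb hzb
    have h2 : y * z * y⁻¹ * z⁻¹ ∈ o2c b := (o2c b).mul_mem h1 ((o2c b).inv_mem hzb)
    have h3 : z * y⁻¹ * z⁻¹ = y := by
      rw [hinv y⁻¹ (K.inv_mem hy), inv_inv]
    have e : y * z * y⁻¹ * z⁻¹ = y * y := by
      calc y * z * y⁻¹ * z⁻¹ = y * (z * y⁻¹ * z⁻¹) := by group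
        _ = y * y := by rw [h3]
    rw [e] at h2
    exact hodd y hy (hodd2 _ (K.mul_mem hy hy) (o2c b) (o2c_isPGroup b) h2)
  -- Step 5: `C_K(z b) = 1`
  have hCbz : ∀ y ∈ K, y * (z * b) = (z * b) * y → y = 1 := by
    intro y hy hyb
    obtain ⟨q, hqQ, hq⟩ := symp_exists_conj Q z hcomm (fun ζ hζ h _ => hcen ζ hζ h) b hbQ hb2
      hb1 hbz
    have h1 : (q⁻¹ * y * q) * b = b * (q⁻¹ * y * q) := by
      calc (q⁻¹ * y * q) * b = q⁻¹ * (y * (q * b * q⁻¹)) * q := by group
        _ = q⁻¹ * (y * (z * b)) * q := by rw [hq]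
        _ = q⁻¹ * ((z * b) * y) * q := by rw [hyb]
        _ = q⁻¹ * ((q * b * q⁻¹) * y) * q := by rw [hq]
        _ = b * (q⁻¹ * y * q) := by group
    have h2 : q⁻¹ * y * q ∈ K := by
      have hthis := hQK q⁻¹ (Q.inv_mem hqQ) y hy
      rw [inv_inv] at hthis
      exact hthis
    have h3 := hCb _ h2 h1
    calc y = q * (q⁻¹ * y * q) * q⁻¹ := by group
      _ = 1 := by rw [h3]; group
  -- Step 6
  have key2 : ∀ w ∈ K, b * w * b⁻¹ = w⁻¹ → w = 1 := by
    intro w hw e3
    apply hCbz w hw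
    have hbz' : b * z = z * b := hQC b hbQ
    calc w * (z * b) = (w⁻¹)⁻¹ * (b * z) := by rw [inv_inv, hbz']
      _ = (b * w * b⁻¹)⁻¹ * (b * z) := by rw [e3]
      _ = b * w⁻¹ * z := by group
      _ = b * (z * w * z⁻¹) * z := by rw [hinv w hw]
      _ = (b * z) * w := by group
      _ = (z * b) * w := by rw [hbz']
  rw [Subgroup.eq_bot_iff_forall]
  intro x hx
  have hxb : b * x * b⁻¹ ∈ K := hQK b hbQ x hx
  have e1 : b * (x * (b * x * b⁻¹)) * b⁻¹ = (b * x * b⁻¹) * x := by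
    calc b * (x * (b * x * b⁻¹)) * b⁻¹ = (b * x * b⁻¹) * ((b * b) * x * (b⁻¹ * b⁻¹)) := by group
      _ = (b * x * b⁻¹) * x := by rw [hbinv, hb2, one_mul, mul_one]
  have e2 : b * (x * (b * x * b⁻¹)) * b⁻¹ = x * (b * x * b⁻¹) := e1.trans (hKc _ hxb x hx)
  have hw1 : x * (b * x * b⁻¹) = 1 := by
    apply hCb _ (K.mul_mem hx hxb)
    calc (x * (b * x * b⁻¹)) * b = (b * (x * (b * x * b⁻¹)) * b⁻¹) * b := by rw [e2]
      _ = b * (x * (b * x * b⁻¹)) := by group
  have e3 : b * (x * (b * x * b⁻¹)⁻¹) * b⁻¹ = (x * (b * x * b⁻¹)⁻¹)⁻¹ := by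
    calc b * (x * (b * x * b⁻¹)⁻¹) * b⁻¹ = b * x * b * x⁻¹ * (b⁻¹ * b⁻¹) := by group
      _ = b * x * b * x⁻¹ := by rw [hbinv, hb2, mul_one]
      _ = b * x * b⁻¹ * x⁻¹ := by rw [hbinv]
      _ = (x * (b * x * b⁻¹)⁻¹)⁻¹ := by group
  have hw2 : x * (b * x * b⁻¹)⁻¹ = 1 := key2 _ (K.mul_mem hx (K.inv_mem hxb)) e3
  have hxeq : x = b * x * b⁻¹ := mul_inv_eq_one.mp hw2
  rw [← hxeq] at hw1
  exact hodd x hx hw1

/-- `Q` is large extraspecial as soon as `Z(Q) ≤ O₂(C_G(b))` for a non-central involution `b`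
of `Q`. -/
theorem large_of_inv {G : Type*} [Group G] [Finite G] (Q : Subgroup G)
    (hL1 : Cfsg.IsExtraspecial 2 ↥Q)
    (hL2 : Subgroup.centralizer (Q : Set G) = (Subgroup.center ↥Q).map Q.subtype)
    (hL3 : Subgroup.centralizer (((Subgroup.center ↥Q).map Q.subtype : Subgroup G) : Set G) ≤
      Subgroup.normalizer (Q : Set G))
    (b : G) (hbQ : b ∈ Q) (hbZ : b ∉ (Subgroup.center ↥Q).map Q.subtype) (hb : orderOf b = 2)
    (hZ : (Subgroup.center ↥Q).map Q.subtype ≤ o2c b) :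
    Cfsg.IsLargeExtraspecial Q := by
  obtain ⟨z, hzQ, hz2, hz1, hQC, hQN, hcomm, hcen, hself, hZc⟩ :=
    large_extra_setup Q hL1 hL2 hL3
  refine ⟨hL1, hL2, hL3, ?_⟩
  intro K hK hQK
  have hb2 : b * b = 1 := by
    rw [← pow_two, ← hb]; exact pow_orderOf_eq_one b
  exact large_extra_odd Q z hzQ hz2 hL1.1.1 hQC hQN hcomm hcen hself b hbQ hb2
    (fun h => hbZ ((hZc b).mpr (Or.inl h))) (fun h => hbZ ((hZc b).mpr (Or.inr h)))
    (hZ ((hZc z).mpr (Or.inr rfl))) K hK
    (fun q hq k hk => (Subgroup.mem_normalizer_iff.mp (hQK hq) k).mp hk)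

/-- An element conjugating a finite subgroup into itself normalizes it. -/
theorem mem_normalizer_of_conj_le {G : Type*} [Group G] (U : Subgroup G) [Finite ↥U] (w : G)
    (hw : ∀ v ∈ U, w * v * w⁻¹ ∈ U) : w ∈ Subgroup.normalizer (U : Set G) := by
  rw [Subgroup.mem_normalizer_iff]
  intro h
  constructor
  · exact hw h
  · intro hh
    obtain ⟨τ, hτ⟩ := exists_conj_equiv U w hw
    obtain ⟨v, hv⟩ := τ.surjective ⟨w * h * w⁻¹, hh⟩
    have h1 : w * (v : G) * w⁻¹ = w * h * w⁻¹ := by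
      rw [← hτ v, hv]
    have h2 : (v : G) = h := by
      calc (v : G) = w⁻¹ * (w * (v : G) * w⁻¹) * w := by group
        _ = w⁻¹ * (w * h * w⁻¹) * w := by rw [h1]
        _ = h := by group
    rw [← h2]; exact v.2

/-- Orbit-stabilizer for the conjugation action of a subgroup on an element. -/
theorem relIndex_centralizer_eq_ncard {G : Type*} [Group G] (N : Subgroup G) (x : G) :
    (Subgroup.centralizer ({x} : Set G)).relIndex N =
      Set.ncard {y : G | ∃ n ∈ N, y = n * x * n⁻¹} := by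
  let _ : MulAction ↥N G := MulAction.compHom G ((MulAut.conj : G →* MulAut G).comp N.subtype)
  have hsmul : ∀ (n : ↥N) (y : G), n • y = (n : G) * y * (n : G)⁻¹ := fun n y => rfl
  have hstab : MulAction.stabilizer ↥N x =
      (Subgroup.centralizer ({x} : Set G)).subgroupOf N := by
    ext n
    rw [MulAction.mem_stabilizer_iff, Subgroup.mem_subgroupOf,
      Subgroup.mem_centralizer_singleton_iff, hsmul]
    constructor
    · intro h
      calc (n : G) * x = ((n : G) * x * (n : G)⁻¹) * (n : G) := by group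
        _ = x * (n : G) := by rw [h]
    · intro h
      calc (n : G) * x * (n : G)⁻¹ = (x * (n : G)) * (n : G)⁻¹ := by rw [h]
        _ = x := by group
  have horb : MulAction.orbit ↥N x = {y : G | ∃ n ∈ N, y = n * x * n⁻¹} := by
    ext y
    constructor
    · rintro ⟨n, rfl⟩
      exact ⟨(n : G), n.2, hsmul n x⟩
    · rintro ⟨n, hn, rfl⟩
      exact ⟨⟨n, hn⟩, hsmul ⟨n, hn⟩ x⟩
  rw [Subgroup.relIndex, ← hstab, MulAction.index_stabilizer, horb]

/-- If every ordered pair of distinct involutions of the four-group `V = ⟨z, a⟩` is the image of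
`(z, a)` under conjugation by some element, then `|N(V) : C(V)| = 6`. -/
theorem four_group_index {G : Type*} [Group G] [Finite G] (z a : G) (hz2 : z * z = 1)
    (ha2 : a * a = 1) (haz : a * z = z * a) (hz1 : z ≠ 1) (ha1 : a ≠ 1) (hne : a ≠ z)
    (hfull : ∀ u ∈ Subgroup.closure ({z, a} : Set G), ∀ v ∈ Subgroup.closure ({z, a} : Set G),
      u ≠ 1 → v ≠ 1 → u ≠ v → ∃ w : G, w * z * w⁻¹ = u ∧ w * a * w⁻¹ = v) :
    (Subgroup.centralizer ((Subgroup.closure ({z, a} : Set G) : Subgroup G) : Set G)).relIndex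
      (Subgroup.normalizer ((Subgroup.closure ({z, a} : Set G) : Subgroup G) : Set G)) = 6 := by
  obtain ⟨V, hVdef⟩ : ∃ V : Subgroup G, V = Subgroup.closure ({z, a} : Set G) := ⟨_, rfl⟩
  rw [← hVdef] at hfull ⊢
  have hV4 : ∀ u ∈ V, u = 1 ∨ u = z ∨ u = a ∨ u = z * a := by
    rw [hVdef]; exact four_closure z a hz2 ha2 haz
  have hzV : z ∈ V := by
    rw [hVdef]; exact Subgroup.subset_closure (Set.mem_insert _ _)
  have haV : a ∈ V := by
    rw [hVdef]
    exact Subgroup.subset_closure (Set.mem_insert_of_mem _ (Set.mem_singleton _))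
  have hzaV : z * a ∈ V := V.mul_mem hzV haV
  have hza1 : z * a ≠ 1 := by
    intro h
    apply hne
    calc a = z⁻¹ * (z * a) := by group
      _ = z⁻¹ := by rw [h, mul_one]
      _ = z := inv_eq_of_mul_eq_one_left hz2
  have hzaz : z * a ≠ z := by
    intro h
    apply ha1
    calc a = z⁻¹ * (z * a) := by group
      _ = 1 := by rw [h]; group
  have hzaa : z * a ≠ a := by
    intro h
    apply hz1
    calc z = (z * a) * a⁻¹ := by group
      _ = 1 := by rw [h]; group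
  have hNmem : ∀ w u v : G, u ∈ V → v ∈ V → w * z * w⁻¹ = u → w * a * w⁻¹ = v →
      w ∈ Subgroup.normalizer (V : Set G) := by
    intro w u v hu hv hwz hwa
    apply mem_normalizer_of_conj_le V w
    intro x hx
    rcases hV4 x hx with h | h | h | h
    · rw [h]
      have e : w * 1 * w⁻¹ = 1 := by group
      rw [e]; exact V.one_mem
    · rw [h, hwz]; exact hu
    · rw [h, hwa]; exact hv
    · rw [h]
      have e : w * (z * a) * w⁻¹ = (w * z * w⁻¹) * (w * a * w⁻¹) := by group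
      rw [e, hwz, hwa]; exact V.mul_mem hu hv
  have hconjV : ∀ n ∈ Subgroup.normalizer (V : Set G), ∀ x ∈ V, n * x * n⁻¹ ∈ V :=
    fun n hn x hx => (Subgroup.mem_normalizer_iff.mp hn x).mp hx
  have hconj1 : ∀ n x : G, n * x * n⁻¹ = 1 → x = 1 := by
    intro n x h
    calc x = n⁻¹ * (n * x * n⁻¹) * n := by group
      _ = 1 := by rw [h]; group
  have hconjinj : ∀ n x y : G, n * x * n⁻¹ = n * y * n⁻¹ → x = y := by
    intro n x y h
    calc x = n⁻¹ * (n * x * n⁻¹) * n := by group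
      _ = n⁻¹ * (n * y * n⁻¹) * n := by rw [h]
      _ = y := by group
  have horb1 : {y : G | ∃ n ∈ Subgroup.normalizer (V : Set G), y = n * z * n⁻¹} =
      {z, a, z * a} := by
    ext y
    constructor
    · rintro ⟨n, hn, rfl⟩
      rcases hV4 _ (hconjV n hn z hzV) with h | h | h | h
      · exact absurd (hconj1 n z h) hz1
      · rw [h]; exact Set.mem_insert _ _
      · rw [h]; exact Set.mem_insert_of_mem _ (Set.mem_insert _ _)
      · rw [h]
        exact Set.mem_insert_of_mem _ (Set.mem_insert_of_mem _ (Set.mem_singleton _))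
    · intro hy
      rcases Set.mem_insert_iff.mp hy with h | hy2
      · exact ⟨1, Subgroup.one_mem _, by rw [h]; group⟩
      · rcases Set.mem_insert_iff.mp hy2 with h | hy3
        · obtain ⟨w, hw1, hw2⟩ := hfull a haV z hzV ha1 hz1 hne
          exact ⟨w, hNmem w a z haV hzV hw1 hw2, by rw [h, hw1]⟩
        · have h : y = z * a := Set.mem_singleton_iff.mp hy3
          obtain ⟨w, hw1, hw2⟩ := hfull (z * a) hzaV z hzV hza1 hz1 hzaz
          exact ⟨w, hNmem w (z * a) z hzaV hzV hw1 hw2, by rw [h, hw1]⟩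
  have horb2 : {y : G | ∃ n ∈ Subgroup.normalizer (V : Set G) ⊓
        Subgroup.centralizer ({z} : Set G), y = n * a * n⁻¹} = {a, z * a} := by
    ext y
    constructor
    · rintro ⟨n, hn, rfl⟩
      obtain ⟨hnN, hnz⟩ := Subgroup.mem_inf.mp hn
      have hnz' : n * z * n⁻¹ = z := by
        have h1 : n * z = z * n := Subgroup.mem_centralizer_singleton_iff.mp hnz
        calc n * z * n⁻¹ = (z * n) * n⁻¹ := by rw [h1]
          _ = z := by group
      rcases hV4 _ (hconjV n hnN a haV) with h | h | h | h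
      · exact absurd (hconj1 n a h) ha1
      · exact absurd (hconjinj n a z (h.trans hnz'.symm)) hne
      · rw [h]; exact Set.mem_insert _ _
      · rw [h]; exact Set.mem_insert_of_mem _ (Set.mem_singleton _)
    · intro hy
      rcases Set.mem_insert_iff.mp hy with h | hy2
      · exact ⟨1, Subgroup.one_mem _, by rw [h]; group⟩
      · have h : y = z * a := Set.mem_singleton_iff.mp hy2
        obtain ⟨w, hw1, hw2⟩ := hfull z hzV (z * a) hzaV hz1 hza1 (fun h' => hzaz h'.symm)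
        refine ⟨w, Subgroup.mem_inf.mpr ⟨hNmem w z (z * a) hzV hzaV hw1 hw2, ?_⟩,
          by rw [h, hw2]⟩
        rw [Subgroup.mem_centralizer_singleton_iff]
        calc w * z = (w * z * w⁻¹) * w := by group
          _ = z * w := by rw [hw1]
  have hC : Subgroup.centralizer (V : Set G) =
      (Subgroup.normalizer (V : Set G) ⊓ Subgroup.centralizer ({z} : Set G)) ⊓
        Subgroup.centralizer ({a} : Set G) := by
    apply le_antisymm
    · intro c hc
      have hcz : z * c = c * z := Subgroup.mem_centralizer_iff.mp hc z hzV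
      have hca : a * c = c * a := Subgroup.mem_centralizer_iff.mp hc a haV
      exact Subgroup.mem_inf.mpr ⟨Subgroup.mem_inf.mpr
        ⟨Subgroup.centralizer_le_normalizer _ hc,
          Subgroup.mem_centralizer_singleton_iff.mpr hcz.symm⟩,
        Subgroup.mem_centralizer_singleton_iff.mpr hca.symm⟩
    · intro c hc
      obtain ⟨hc1, hca⟩ := Subgroup.mem_inf.mp hc
      obtain ⟨-, hcz⟩ := Subgroup.mem_inf.mp hc1
      have hcz' : c * z = z * c := Subgroup.mem_centralizer_singleton_iff.mp hcz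
      have hca' : c * a = a * c := Subgroup.mem_centralizer_singleton_iff.mp hca
      rw [Subgroup.mem_centralizer_iff]
      intro x hx
      rcases hV4 x hx with h | h | h | h
      · rw [h, one_mul, mul_one]
      · rw [h]; exact hcz'.symm
      · rw [h]; exact hca'.symm
      · rw [h]
        calc z * a * c = z * (a * c) := mul_assoc _ _ _
          _ = z * (c * a) := by rw [hca']
          _ = (z * c) * a := (mul_assoc _ _ _).symm
          _ = (c * z) * a := by rw [hcz']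
          _ = c * (z * a) := mul_assoc _ _ _
  have h3 : (Subgroup.centralizer ({z} : Set G)).relIndex (Subgroup.normalizer (V : Set G))
      = 3 := by
    rw [relIndex_centralizer_eq_ncard, horb1]
    exact Set.ncard_eq_three.mpr ⟨z, a, z * a, fun h => hne h.symm, fun h => hzaz h.symm,
      fun h => hzaa h.symm, rfl⟩
  have h2 : (Subgroup.centralizer ({a} : Set G)).relIndex
      (Subgroup.normalizer (V : Set G) ⊓ Subgroup.centralizer ({z} : Set G)) = 2 := by
    rw [relIndex_centralizer_eq_ncard, horb2]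
    exact Set.ncard_pair (fun h => hzaa h.symm)
  have hmul := Subgroup.relIndex_mul_relIndex
    ((Subgroup.normalizer (V : Set G) ⊓ Subgroup.centralizer ({z} : Set G)) ⊓
      Subgroup.centralizer ({a} : Set G))
    (Subgroup.normalizer (V : Set G) ⊓ Subgroup.centralizer ({z} : Set G))
    (Subgroup.normalizer (V : Set G)) inf_le_left inf_le_left
  rw [Subgroup.inf_relIndex_left, Subgroup.inf_relIndex_left, h2, h3] at hmul
  rw [hC]
  omega

/-- `Q` is large extraspecial as soon as some conjugate of its centre, other than the centre,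
lies in `Q`; then `Z(Q) ≤ Q^g` and `N(V)/C(V) ≅ S₃` for the four-group `V = Z Z^g`. -/
theorem large_of_conj {G : Type*} [Group G] [Finite G] (Q : Subgroup G)
    (hL1 : Cfsg.IsExtraspecial 2 ↥Q)
    (hL2 : Subgroup.centralizer (Q : Set G) = (Subgroup.center ↥Q).map Q.subtype)
    (hL3 : Subgroup.centralizer (((Subgroup.center ↥Q).map Q.subtype : Subgroup G) : Set G) ≤
      Subgroup.normalizer (Q : Set G))
    (g : G)
    (hg : g ∉ Subgroup.normalizer (((Subgroup.center ↥Q).map Q.subtype : Subgroup G) : Set G))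
    (hZg : ((Subgroup.center ↥Q).map Q.subtype).map (MulAut.conj g).toMonoidHom ≤ Q) :
    (Subgroup.center ↥Q).map Q.subtype ≤ Q.map (MulAut.conj g).toMonoidHom ∧
    (Subgroup.centralizer ((((Subgroup.center ↥Q).map Q.subtype) ⊔
        ((Subgroup.center ↥Q).map Q.subtype).map (MulAut.conj g).toMonoidHom : Subgroup G) :
          Set G)).relIndex
      (Subgroup.normalizer ((((Subgroup.center ↥Q).map Q.subtype) ⊔
        ((Subgroup.center ↥Q).map Q.subtype).map (MulAut.conj g).toMonoidHom : Subgroup G) :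
          Set G)) = 6 ∧
    Cfsg.IsLargeExtraspecial Q := by
  obtain ⟨z, hzQ, hz2, hz1, hQC, hQN, hcomm, hcen, hself, hZc⟩ :=
    large_extra_setup Q hL1 hL2 hL3
  have hzZ : z ∈ (Subgroup.center ↥Q).map Q.subtype := (hZc z).mpr (Or.inr rfl)
  have haQ : g * z * g⁻¹ ∈ Q := hZg (Subgroup.mem_map.mpr ⟨z, hzZ, rfl⟩)
  have hne : g * z * g⁻¹ ≠ z := by
    intro h
    apply hg
    rw [Subgroup.mem_normalizer_iff]
    intro x
    rw [hZc, hZc]
    constructor
    · rintro (h1 | h1)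
      · left; rw [h1]; group
      · right; rw [h1]; exact h
    · rintro (h1 | h1)
      · left
        calc x = g⁻¹ * (g * x * g⁻¹) * g := by group
          _ = 1 := by rw [h1]; group
      · right
        calc x = g⁻¹ * (g * x * g⁻¹) * g := by group
          _ = g⁻¹ * (g * z * g⁻¹) * g := by rw [h1, h]
          _ = z := by group
  have hself' : ∀ c : G, (∀ q ∈ Q, c * q = q * c) → c ∈ Q := by
    intro c hc
    rcases hself c hc with h | h
    · rw [h]; exact Q.one_mem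
    · rw [h]; exact hzQ
  obtain ⟨hzmap, hfull⟩ := symp_main Q z hzQ hz2 hz1 hL1.1.1 hQC hQN hcomm
    (fun ζ hζ h _ => hcen ζ hζ h) hself' g (g * z * g⁻¹) rfl haQ hne
  have hc1 : (Subgroup.center ↥Q).map Q.subtype ≤ Q.map (MulAut.conj g).toMonoidHom := by
    intro x hx
    rcases (hZc x).mp hx with h | h
    · rw [h]; exact Subgroup.one_mem _
    · rw [h]; exact hzmap
  have hQle : Q ≤ o2c z := le_o2c Q z hL1.1.1 hQC hQN
  have hzb : z ∈ o2c (g * z * g⁻¹) := by
    obtain ⟨q, hq, hqz⟩ := Subgroup.mem_map.mp hzmap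
    have h1 := o2c_conj g z (g * z * g⁻¹) rfl (hQle hq)
    have e : g * q * g⁻¹ = z := hqz
    rw [e] at h1
    exact h1
  have ha2 : (g * z * g⁻¹) * (g * z * g⁻¹) = 1 := by
    calc g * z * g⁻¹ * (g * z * g⁻¹) = g * (z * z) * g⁻¹ := by group
      _ = 1 := by rw [hz2]; group
  have ha1 : g * z * g⁻¹ ≠ 1 := by
    intro h
    apply hz1
    calc z = g⁻¹ * (g * z * g⁻¹) * g := by group
      _ = 1 := by rw [h]; group
  have hc3 : Cfsg.IsLargeExtraspecial Q := by
    refine ⟨hL1, hL2, hL3, ?_⟩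
    intro K hK hQK
    exact large_extra_odd Q z hzQ hz2 hL1.1.1 hQC hQN hcomm hcen hself (g * z * g⁻¹) haQ ha2
      ha1 hne hzb K hK (fun q hq k hk => (Subgroup.mem_normalizer_iff.mp (hQK hq) k).mp hk)
  have hV : (Subgroup.center ↥Q).map Q.subtype ⊔
      ((Subgroup.center ↥Q).map Q.subtype).map (MulAut.conj g).toMonoidHom =
      Subgroup.closure ({z, g * z * g⁻¹} : Set G) := by
    apply le_antisymm
    · apply sup_le
      · intro x hx
        rcases (hZc x).mp hx with h | h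
        · rw [h]; exact Subgroup.one_mem _
        · rw [h]; exact Subgroup.subset_closure (Set.mem_insert _ _)
      · rintro _ ⟨x, hx, rfl⟩
        rcases (hZc x).mp hx with h | h
        · rw [h, map_one]; exact Subgroup.one_mem _
        · rw [h]
          exact Subgroup.subset_closure
            (Set.mem_insert_of_mem _ (Set.mem_singleton_iff.mpr rfl))
    · rw [Subgroup.closure_le]
      intro x hx
      rcases Set.mem_insert_iff.mp hx with h | hx2
      · rw [h]; exact Subgroup.mem_sup_left hzZ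
      · have h : x = g * z * g⁻¹ := Set.mem_singleton_iff.mp hx2
        rw [h]
        exact Subgroup.mem_sup_right (Subgroup.mem_map.mpr ⟨z, hzZ, rfl⟩)
  refine ⟨hc1, ?_, hc3⟩
  rw [hV]
  exact four_group_index z (g * z * g⁻¹) hz2 ha2 (hQC _ haQ) hz1 ha1 hne
    (fun u hu v hv hu1 hv1 huv => by
      obtain ⟨w, -, hw1, hw2⟩ := hfull u hu v hv hu1 hv1 huv
      exact ⟨w, hw1, hw2⟩)

end Cfsg.Agent.Helper11
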