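import Mathlib
import Cfsg.Prelude
import Cfsg.Agent.Helper1.PUnique
import Cfsg.Agent.Helper24.NormalCenter

set_option autoImplicit false

namespace Cfsg.Agent.Helper11

universe u

theorem cyc_exp_card_le {C : Type*} [Group C] [Finite C] [IsCyclic C] {p : ℕ} (hp0 : 0 < p)
    (h : ∀ c : C, c ^ p = 1) : Nat.card C ≤ p := by
  obtain ⟨g, hg⟩ := IsCyclic.exists_generator (α := C)
  rw [← orderOf_eq_card_of_forall_mem_zpowers hg]
  exact Nat.le_of_dvd hp0 (orderOf_dvd_of_pow_eq_one (h g))

/-- Quotients of metacyclic groups are metacyclic. -/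
theorem meta_quot {R : Type u} [Group R] (h : Cfsg.IsMetacyclic R) (Z : Subgroup R) [Z.Normal] :
    Cfsg.IsMetacyclic (R ⧸ Z) := by
  obtain ⟨N, hN, hc1, hc2⟩ := h
  haveI := hN
  haveI := hc1
  haveI := hc2
  haveI hN' : (N.map (QuotientGroup.mk' Z)).Normal :=
    Subgroup.Normal.map hN (QuotientGroup.mk' Z) (QuotientGroup.mk'_surjective Z)
  refine ⟨N.map (QuotientGroup.mk' Z), hN', ?_, ?_⟩
  · exact isCyclic_of_surjective ((QuotientGroup.mk' Z).subgroupMap N)
      ((QuotientGroup.mk' Z).subgroupMap_surjective N)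
  · refine isCyclic_of_surjective (QuotientGroup.map N (N.map (QuotientGroup.mk' Z))
      (QuotientGroup.mk' Z) (Subgroup.le_comap_map _ N)) ?_
    intro u
    obtain ⟨v, rfl⟩ := QuotientGroup.mk_surjective u
    obtain ⟨r, rfl⟩ := QuotientGroup.mk_surjective v
    exact ⟨(r : R ⧸ N), rfl⟩

/-- A subgroup of exponent `p` of a metacyclic group has order at most `p ^ 2`. -/
theorem meta_exp_card_le {R : Type u} [Group R] [Finite R] {p : ℕ} (hp0 : 0 < p)
    (N : Subgroup R) [N.Normal] [IsCyclic N] [IsCyclic (R ⧸ N)] (H : Subgroup R)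
    (hH : ∀ h ∈ H, h ^ p = 1) : Nat.card H ≤ p ^ 2 := by
  obtain ⟨φ, hφ⟩ : ∃ φ : H →* R ⧸ N, ∀ h : H, φ h = ((h : R) : R ⧸ N) :=
    ⟨(QuotientGroup.mk' N).comp H.subtype, fun h => rfl⟩
  have h1 := Subgroup.card_mul_index φ.ker
  rw [Subgroup.index_ker] at h1
  have hker : Nat.card φ.ker ≤ p := by
    have hmem : ∀ k : φ.ker, ((k.1 : H) : R) ∈ N := by
      intro k
      have h2 := MonoidHom.mem_ker.1 k.2
      rw [hφ] at h2
      exact (QuotientGroup.eq_one_iff _).1 h2
    obtain ⟨ψ, hψ⟩ : ∃ ψ : φ.ker →* N, ∀ k : φ.ker, ((ψ k : N) : R) = ((k.1 : H) : R) :=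
      ⟨{ toFun := fun k => ⟨((k.1 : H) : R), hmem k⟩
         map_one' := rfl
         map_mul' := fun _ _ => rfl }, fun k => rfl⟩
    have hinj : Function.Injective ψ := by
      intro a b hab
      apply Subtype.ext
      apply Subtype.ext
      rw [← hψ a, ← hψ b, hab]
    haveI : IsCyclic φ.ker := isCyclic_of_injective ψ hinj
    apply cyc_exp_card_le hp0
    intro k
    apply Subtype.ext
    apply Subtype.ext
    exact hH k.1.1 k.1.2
  have hrange : Nat.card φ.range ≤ p := by
    apply cyc_exp_card_le hp0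
    rintro ⟨u, h, rfl⟩
    apply Subtype.ext
    show (φ h) ^ p = 1
    have h3 : h ^ p = 1 := Subtype.ext (hH h.1 h.2)
    rw [← map_pow, h3, map_one]
  calc Nat.card H = Nat.card φ.ker * Nat.card φ.range := h1.symm
    _ ≤ p * p := Nat.mul_le_mul hker hrange
    _ = p ^ 2 := (sq p).symm

theorem comm_of_card_le_sq {H : Type u} [Group H] [Finite H] {p : ℕ} [Fact p.Prime]
    (hH : IsPGroup p H) (hc : Nat.card H ≤ p ^ 2) : ∀ a b : H, a * b = b * a := by
  have hp : p.Prime := Fact.out
  obtain ⟨k, hk⟩ := IsPGroup.iff_card.1 hH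
  have hk2 : k ≤ 2 := by
    rw [hk] at hc
    exact (Nat.pow_le_pow_iff_right hp.one_lt).1 hc
  interval_cases k
  · intro a b
    haveI : Subsingleton H := (Nat.card_eq_one_iff_unique.1 (by rw [hk, pow_zero])).1
    exact Subsingleton.elim _ _
  · haveI : IsCyclic H := isCyclic_of_prime_card (p := p) (by rw [hk, pow_one])
    exact commutative_of_cyclic_center_quotient (MonoidHom.id H) (fun x hx => by
      have h1 : x = 1 := MonoidHom.mem_ker.1 hx
      rw [h1]
      exact Subgroup.one_mem _)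
  · exact IsPGroup.commutative_of_card_eq_prime_sq hk

/-- In a metacyclic `p`-group whose elements of order dividing `p` are closed under
multiplication, these elements commute pairwise. -/
theorem meta_comm_of_closed {R : Type u} [Group R] [Finite R] {p : ℕ} [Fact p.Prime]
    (hR : IsPGroup p R) (hm : Cfsg.IsMetacyclic R)
    (hcl : ∀ x y : R, x ^ p = 1 → y ^ p = 1 → (x * y) ^ p = 1) :
    ∀ x y : R, x ^ p = 1 → y ^ p = 1 → x * y = y * x := by
  intro x y hx hy
  obtain ⟨N, hN, hc1, hc2⟩ := hm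
  haveI := hN
  haveI := hc1
  haveI := hc2
  obtain ⟨K, hK⟩ : ∃ K : Subgroup R, ∀ u : R, u ∈ K ↔ u ^ p = 1 :=
    ⟨{ carrier := {u | u ^ p = 1}
       mul_mem' := fun {a b} ha hb => hcl a b ha hb
       one_mem' := one_pow p
       inv_mem' := fun {a} ha => by
         show a⁻¹ ^ p = 1
         rw [inv_pow, show a ^ p = 1 from ha, inv_one] }, fun u => Iff.rfl⟩
  have hcard : Nat.card K ≤ p ^ 2 :=
    meta_exp_card_le (Fact.out : p.Prime).pos N K (fun h hh => (hK h).1 hh)
  have hcomm := comm_of_card_le_sq (hR.to_subgroup K) hcard ⟨x, (hK x).2 hx⟩ ⟨y, (hK y).2 hy⟩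
  exact congrArg Subtype.val hcomm

theorem meta_closed_aux (p : ℕ) [Fact p.Prime] (hp : p ≠ 2) :
    ∀ (n : ℕ) (R : Type u) [Group R] [Finite R],
    Nat.card R = n → IsPGroup p R → Cfsg.IsMetacyclic R →
    ∀ x y : R, x ^ p = 1 → y ^ p = 1 → (x * y) ^ p = 1 := by
  intro n
  induction n using Nat.strong_induction_on with
  | _ n ih =>
    intro R _ _ hn hR hm x y hx hy
    have hpr : p.Prime := Fact.out
    obtain ⟨N, hN, hc1, hc2⟩ := hm
    haveI := hN
    haveI := hc1
    haveI := hc2
    by_cases hNb : N = ⊥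
    · have hcomm : ∀ a b : R, a * b = b * a := by
        intro a b
        have h1 : ((a * b : R) : R ⧸ N) = ((b * a : R) : R ⧸ N) := by
          rw [QuotientGroup.mk_mul, QuotientGroup.mk_mul]
          exact commutative_of_cyclic_center_quotient (MonoidHom.id (R ⧸ N)) (fun u hu => by
            have h1 : u = 1 := MonoidHom.mem_ker.1 hu
            rw [h1]
            exact Subgroup.one_mem _) _ _
        have h2 := QuotientGroup.eq.1 h1
        rw [hNb, Subgroup.mem_bot] at h2
        calc a * b = (a * b) * ((a * b)⁻¹ * (b * a)) := by rw [h2, mul_one]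
          _ = b * a := by group
      have hxy : Commute x y := hcomm x y
      rw [hxy.mul_pow p, hx, hy, one_mul]
    · haveI : Group.IsNilpotent R := hR.isNilpotent
      obtain ⟨w, hwN, hw1, hwc⟩ := Cfsg.Agent.Helper24.exists_mem_center_of_normal N hNb
      have hA : IsPGroup p ↥(N ⊓ Subgroup.center R) := hR.to_subgroup _
      obtain ⟨k, hk⟩ := IsPGroup.iff_card.1 hA
      have hk0 : k ≠ 0 := by
        intro hk0
        rw [hk0, pow_zero] at hk
        have hbot := Subgroup.eq_bot_of_card_eq _ hk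
        have hmem : w ∈ N ⊓ Subgroup.center R := ⟨hwN, hwc⟩
        rw [hbot, Subgroup.mem_bot] at hmem
        exact hw1 hmem
      obtain ⟨z', hz'⟩ := exists_prime_orderOf_dvd_card' (G := ↥(N ⊓ Subgroup.center R)) p
        (by rw [hk]; exact dvd_pow_self p hk0)
      obtain ⟨z, hz⟩ : ∃ z : R, z = (z' : R) := ⟨_, rfl⟩
      have hzo : orderOf z = p := by
        rw [hz, Subgroup.orderOf_coe]
        exact hz'
      have hzc : z ∈ Subgroup.center R := by
        rw [hz]
        exact z'.2.2
      haveI hZn : (Subgroup.zpowers z).Normal := by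
        refine ⟨fun a ha g => ?_⟩
        have hac : a ∈ Subgroup.center R := (Subgroup.zpowers_le.2 hzc) ha
        have h1 : g * a * g⁻¹ = a := by
          rw [Subgroup.mem_center_iff] at hac
          rw [hac g, mul_inv_cancel_right]
        rw [h1]
        exact ha
      have hZcard : Nat.card ↥(Subgroup.zpowers z) = p := by rw [Nat.card_zpowers, hzo]
      have hlt : Nat.card (R ⧸ Subgroup.zpowers z) < n := by
        have h1 := Subgroup.card_eq_card_quotient_mul_card_subgroup (Subgroup.zpowers z)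
        rw [hn, hZcard] at h1
        have h2 : 0 < Nat.card (R ⧸ Subgroup.zpowers z) := Nat.card_pos
        have h3 := hpr.two_le
        calc Nat.card (R ⧸ Subgroup.zpowers z) < Nat.card (R ⧸ Subgroup.zpowers z) * 2 := by omega
          _ ≤ Nat.card (R ⧸ Subgroup.zpowers z) * p := Nat.mul_le_mul_left _ h3
          _ = n := h1.symm
      have hmq : Cfsg.IsMetacyclic (R ⧸ Subgroup.zpowers z) :=
        meta_quot ⟨N, hN, hc1, hc2⟩ (Subgroup.zpowers z)
      have hQ := ih _ hlt (R ⧸ Subgroup.zpowers z) rfl (hR.to_quotient _) hmq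
      have hQc := meta_comm_of_closed (hR.to_quotient _) hmq hQ
      have hxq : ((x : R) : R ⧸ Subgroup.zpowers z) ^ p = 1 := by
        rw [← QuotientGroup.mk_pow, hx, QuotientGroup.mk_one]
      have hyq : ((y : R) : R ⧸ Subgroup.zpowers z) ^ p = 1 := by
        rw [← QuotientGroup.mk_pow, hy, QuotientGroup.mk_one]
      have hcq := hQc _ _ hyq hxq
      have hcZ : y * x * y⁻¹ * x⁻¹ ∈ Subgroup.zpowers z := by
        apply (QuotientGroup.eq_one_iff _).1
        rw [QuotientGroup.mk_mul, QuotientGroup.mk_mul, QuotientGroup.mk_mul,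
          QuotientGroup.mk_inv, QuotientGroup.mk_inv, hcq]
        group
      have hcc : y * x * y⁻¹ * x⁻¹ ∈ Subgroup.center R := (Subgroup.zpowers_le.2 hzc) hcZ
      have hcp : (y * x * y⁻¹ * x⁻¹) ^ p = 1 := by
        have h1 := pow_card_eq_one' (G := ↥(Subgroup.zpowers z)) (x := ⟨_, hcZ⟩)
        rw [hZcard] at h1
        exact congrArg Subtype.val h1
      have hform := Cfsg.Agent.Helper1.class_two_pow x y (y * x * y⁻¹ * x⁻¹) (by group)
        (fun g => ((Subgroup.mem_center_iff.1 hcc) g).symm) p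
      have hdvd : p ∣ p.choose 2 :=
        hpr.dvd_choose_self (by norm_num) (by have := hpr.two_le; omega)
      obtain ⟨m, hm'⟩ := hdvd
      rw [hform, hx, hy, hm', pow_mul, hcp, one_pow, one_mul, one_mul]

/-- In a metacyclic `p`-group, `p` odd, the elements of order dividing `p` are closed under
multiplication. -/
theorem meta_closed (p : ℕ) [Fact p.Prime] (hp : p ≠ 2) (R : Type u) [Group R] [Finite R]
    (hR : IsPGroup p R) (hm : Cfsg.IsMetacyclic R) :
    ∀ x y : R, x ^ p = 1 → y ^ p = 1 → (x * y) ^ p = 1 :=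
  meta_closed_aux p hp _ R rfl hR hm

end Cfsg.Agent.Helper11
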