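import Mathlib
import Cfsg.Agent.Helper11.NilSym

set_option autoImplicit false

namespace Cfsg.Agent.Helper11

/-- `S_n` bound for `n % 4 = 3`: a nilpotent subgroup of `S_n` has order at most
`3 * 2 ^ v₂((n-3)!)`. -/
theorem nil_three_bound (n : ℕ) (hn : n % 4 = 3) (N : Subgroup (Equiv.Perm (Fin n)))
    (hN : Group.IsNilpotent N) :
    Nat.card N ≤ 3 * 2 ^ ((n - 3).factorial.factorization 2) := by
  have h := nil_bound n (Fin n) (by simp) N hN
  unfold nb at h
  rw [if_pos hn] at h
  rw [Nat.factorization_def _ Nat.prime_two]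
  exact h

/-- `S_n` bound for `n % 4 ≠ 3`: a nilpotent subgroup of `S_n` has order at most `2 ^ v₂(n!)`. -/
theorem nil_two_bound (n : ℕ) (hn : n % 4 ≠ 3) (N : Subgroup (Equiv.Perm (Fin n)))
    (hN : Group.IsNilpotent N) :
    Nat.card N ≤ 2 ^ (n.factorial.factorization 2) := by
  have h := nil_bound n (Fin n) (by simp) N hN
  unfold nb at h
  rw [if_neg hn] at h
  rw [Nat.factorization_def _ Nat.prime_two]
  exact h

end Cfsg.Agent.Helper11
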