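import Mathlib

namespace Cfsg.Agent.Helper11

open Subgroup

/-- adjacency (reflexive) in the power graph -/
@[reducible] def pg_adj {G : Type*} [Group G] (x y : G) : Prop :=
  x ∈ zpowers y ∨ y ∈ zpowers x

/-- closed twins in the power graph -/
@[reducible] def pg_twin {G : Type*} [Group G] (x y : G) : Prop :=
  ∀ z : G, pg_adj z x ↔ pg_adj z y

/-- a graph-theoretic witness for an element of order `p * q` -/
def pg_psi (G : Type*) [Group G] (p q : ℕ) : Prop :=
  ∃ c a b : G, pg_adj c a ∧ pg_adj c b ∧ ¬ pg_adj a b ∧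
    {y : G | pg_twin y a}.ncard = p - 1 ∧ {y : G | pg_twin y b}.ncard = q - 1 ∧
    {y : G | pg_twin y c}.ncard = (p - 1) * (q - 1) ∧
    (∀ v, pg_adj v c → pg_adj v a → ¬ pg_adj v b → pg_twin v a) ∧
    (∀ v, pg_adj v c → pg_adj v b → ¬ pg_adj v a → pg_twin v b)

theorem pg_arith0 {A B : ℕ} (hA : 1 ≤ A) (hB : 1 ≤ B) (hAB : A ≠ B) : 2 ≤ A * B := by
  rcases Nat.lt_or_ge A 2 with h | h
  · have hA1 : A = 1 := by omega
    subst hA1
    omega
  · calc 2 = 2 * 1 := rfl
      _ ≤ A * B := Nat.mul_le_mul h hB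

theorem pg_arith1 {r s A B : ℕ} (hr : 2 ≤ r) (h1 : r ^ s * (r - 1) ≤ A)
    (h2 : r ^ s * (r - 1) ≤ B) (h3 : A * B + 1 ≤ r ^ (s + 1)) (hA : 1 ≤ A) (hB : 1 ≤ B)
    (hAB : A ≠ B) : False := by
  obtain ⟨k, rfl⟩ : ∃ k, r = k + 1 := ⟨r - 1, by omega⟩
  have hk : 1 ≤ k := by omega
  rw [Nat.add_sub_cancel] at h1 h2
  rw [pow_succ] at h3
  obtain ⟨u, hu⟩ : ∃ u, u = (k + 1) ^ s := ⟨_, rfl⟩
  rw [← hu] at h1 h2 h3
  have hu1 : 1 ≤ u := by
    rw [hu]
    exact Nat.pos_of_ne_zero (pow_ne_zero _ (by omega))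
  have h4 : (u * k) * (u * k) ≤ A * B := Nat.mul_le_mul h1 h2
  have h5 := pg_arith0 hA hB hAB
  rcases Nat.lt_or_ge k 2 with hk2 | hk2
  · have hk1 : k = 1 := by omega
    subst hk1
    rw [mul_one] at h4
    rcases Nat.lt_or_ge u 2 with hu2 | hu2
    · have hu3 : u = 1 := by omega
      subst hu3
      omega
    · have h6 : u * 2 ≤ u * u := Nat.mul_le_mul_left u hu2
      omega
  · have h60 : 1 * 2 ≤ u * k := Nat.mul_le_mul hu1 hk2
    have h6 : u * k * 2 ≤ u * k * (u * k) := Nat.mul_le_mul_left _ (by omega)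
    have h7 : u ≤ u * k := Nat.le_mul_of_pos_right u (by omega)
    have h8 : u * (k + 1) = u * k + u := by ring
    omega

theorem pg_arith2 {A B : ℕ} (hA : 1 ≤ A) (hB : 1 ≤ B) (hAB : A ≠ B) (h1 : A * B ≤ A)
    (h2 : A * B ≤ B) : False := by
  have hB1 : B ≤ 1 := by
    by_contra h
    push_neg at h
    have h3 : A * 2 ≤ A * B := Nat.mul_le_mul_left A h
    omega
  have hA1 : A ≤ 1 := by
    by_contra h
    push_neg at h
    have h3 : 2 * B ≤ A * B := Nat.mul_le_mul_right B h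
    omega
  omega

theorem pg_not_pp {p q n : ℕ} (hp : p.Prime) (hq : q.Prime) (hpq : p ≠ q) (hn : p * q ∣ n)
    (h : IsPrimePow n) : False := by
  obtain ⟨r, k, hr, -, hrk⟩ := (isPrimePow_nat_iff _).1 h
  rw [← hrk] at hn
  have h1 : p ∣ r ^ k := dvd_trans (dvd_mul_right p q) hn
  have h2 : q ∣ r ^ k := dvd_trans (dvd_mul_left q p) hn
  have h3 : p = r := (Nat.prime_dvd_prime_iff_eq hp hr).1 (hp.dvd_of_dvd_pow h1)
  have h4 : q = r := (Nat.prime_dvd_prime_iff_eq hq hr).1 (hq.dvd_of_dvd_pow h2)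
  exact hpq (h3.trans h4.symm)

section PG

variable {G : Type*} [Group G]

theorem pg_adj_comm (x y : G) : pg_adj x y ↔ pg_adj y x := Or.comm

theorem pg_adj_refl (x : G) : pg_adj x x := Or.inl (mem_zpowers x)

theorem pg_twin_refl (x : G) : pg_twin x x := fun _ => Iff.rfl

theorem pg_twin_symm {x y : G} (h : pg_twin x y) : pg_twin y x := fun z => (h z).symm

theorem pg_twin_trans {x y w : G} (h : pg_twin x y) (h' : pg_twin y w) : pg_twin x w :=
  fun z => (h z).trans (h' z)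

theorem pg_twin_adj {x y : G} (h : pg_twin x y) : pg_adj x y := (h x).1 (pg_adj_refl x)

theorem pg_twin_of_zpowers_eq {x y : G} (h : zpowers x = zpowers y) : pg_twin x y := by
  intro z
  constructor
  · rintro (h1 | h1)
    · exact Or.inl (by rw [← h]; exact h1)
    · have h2 : zpowers x ≤ zpowers z := (zpowers_le).2 h1
      rw [h] at h2
      exact Or.inr (h2 (mem_zpowers y))
  · rintro (h1 | h1)
    · exact Or.inl (by rw [h]; exact h1)
    · have h2 : zpowers y ≤ zpowers z := (zpowers_le).2 h1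
      rw [← h] at h2
      exact Or.inr (h2 (mem_zpowers x))

theorem pg_pow_coprime {a : G} {K : Subgroup G} {m n : ℕ} (hm : a ^ m ∈ K) (hn : a ^ n ∈ K)
    (hco : Nat.Coprime m n) : a ∈ K := by
  have hb := Nat.gcd_eq_gcd_ab m n
  rw [hco.gcd_eq_one] at hb
  have h1 : a = (a ^ m) ^ (Nat.gcdA m n) * (a ^ n) ^ (Nat.gcdB m n) := by
    rw [← zpow_natCast a m, ← zpow_natCast a n, ← zpow_mul, ← zpow_mul, ← zpow_add, ← hb]
    simp
  rw [h1]
  exact K.mul_mem (K.zpow_mem hm _) (K.zpow_mem hn _)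

variable [Finite G]

theorem pg_zpowers_eq {x y : G} (h : x ∈ zpowers y) (ho : orderOf y ≤ orderOf x) :
    zpowers x = zpowers y := by
  apply Subgroup.eq_of_le_of_card_ge ((zpowers_le).2 h)
  rw [Nat.card_zpowers, Nat.card_zpowers]
  exact ho

theorem pg_cyc {c x y : G} (hx : x ∈ zpowers c) (hy : y ∈ zpowers c)
    (h : orderOf x ∣ orderOf y) : x ∈ zpowers y := by
  obtain ⟨u, hu⟩ := (Submonoid.mem_powers_iff x c).1 ((mem_powers_iff_mem_zpowers).2 hx)
  obtain ⟨v, hv⟩ := (Submonoid.mem_powers_iff y c).1 ((mem_powers_iff_mem_zpowers).2 hy)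
  subst hu
  subst hv
  have hn : 0 < orderOf c := orderOf_pos c
  have hgpos : 0 < Nat.gcd (orderOf c) v := Nat.gcd_pos_of_pos_left _ hn
  have hg : c ^ (Nat.gcd (orderOf c) v) ∈ zpowers (c ^ v) := by
    have hb := Nat.gcd_eq_gcd_ab (orderOf c) v
    have h1 : c ^ (Nat.gcd (orderOf c) v) = (c ^ v) ^ (Nat.gcdB (orderOf c) v) := by
      rw [← zpow_natCast c (Nat.gcd (orderOf c) v), hb, zpow_add, zpow_mul, zpow_mul,
        zpow_natCast, zpow_natCast, pow_orderOf_eq_one, one_zpow, one_mul]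
    rw [h1]
    exact zpow_mem_zpowers _ _
  have hov : orderOf (c ^ v) = orderOf c / Nat.gcd (orderOf c) v := orderOf_pow c
  rw [hov] at h
  have h2 : (c ^ u) ^ (orderOf c / Nat.gcd (orderOf c) v) = 1 :=
    orderOf_dvd_iff_pow_eq_one.1 h
  rw [← pow_mul] at h2
  have h3 : orderOf c ∣ u * (orderOf c / Nat.gcd (orderOf c) v) :=
    orderOf_dvd_iff_pow_eq_one.2 h2
  have h4 : Nat.gcd (orderOf c) v * (orderOf c / Nat.gcd (orderOf c) v) = orderOf c :=
    Nat.mul_div_cancel' (Nat.gcd_dvd_left _ _)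
  have h5 : 0 < orderOf c / Nat.gcd (orderOf c) v :=
    Nat.div_pos (Nat.le_of_dvd hn (Nat.gcd_dvd_left _ _)) hgpos
  have h6 : Nat.gcd (orderOf c) v ∣ u := by
    apply Nat.dvd_of_mul_dvd_mul_right h5
    rw [h4]
    exact h3
  obtain ⟨w, hw⟩ := h6
  rw [hw, pow_mul]
  exact pow_mem hg w

theorem pg_chain {y₀ z y : G} {ℓ t : ℕ} (hℓ : ℓ.Prime) (ht : orderOf y₀ = ℓ ^ t)
    (hz : z ∈ zpowers y₀) (hy : y ∈ zpowers y₀) : z ∈ zpowers y ∨ y ∈ zpowers z := by
  have h1 := orderOf_dvd_of_mem_zpowers hz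
  have h2 := orderOf_dvd_of_mem_zpowers hy
  rw [ht] at h1 h2
  obtain ⟨i, -, hi⟩ := (Nat.dvd_prime_pow hℓ).1 h1
  obtain ⟨j, -, hj⟩ := (Nat.dvd_prime_pow hℓ).1 h2
  rcases le_total i j with h | h
  · exact Or.inl (pg_cyc hz hy (by rw [hi, hj]; exact pow_dvd_pow ℓ h))
  · exact Or.inr (pg_cyc hy hz (by rw [hi, hj]; exact pow_dvd_pow ℓ h))

theorem pg_gens_ncard (x : G) :
    {y : G | zpowers y = zpowers x}.ncard = Nat.totient (orderOf x) := by
  have hn : 0 < orderOf x := orderOf_pos x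
  have hset : {y : G | zpowers y = zpowers x} =
      (fun k : ℕ => x ^ k) ''
        (↑((Finset.range (orderOf x)).filter (fun k => (orderOf x).Coprime k)) : Set ℕ) := by
    ext y
    simp only [Set.mem_setOf_eq, Set.mem_image, Finset.mem_coe, Finset.mem_filter,
      Finset.mem_range]
    constructor
    · intro hy
      have hyx : y ∈ zpowers x := by rw [← hy]; exact mem_zpowers y
      obtain ⟨k, hk⟩ := (Submonoid.mem_powers_iff y x).1 ((mem_powers_iff_mem_zpowers).2 hyx)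
      have hk' : x ^ (k % orderOf x) = y := by rw [pow_mod_orderOf]; exact hk
      refine ⟨k % orderOf x, ⟨Nat.mod_lt _ hn, ?_⟩, hk'⟩
      have ho : orderOf y = orderOf x := by
        rw [← Nat.card_zpowers, ← Nat.card_zpowers, hy]
      rw [← hk', orderOf_pow] at ho
      have h1 := Nat.mul_div_cancel' (Nat.gcd_dvd_left (orderOf x) (k % orderOf x))
      rw [ho] at h1
      exact Nat.eq_of_mul_eq_mul_right hn (h1.trans (one_mul _).symm)
    · rintro ⟨k, ⟨_, hco⟩, rfl⟩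
      exact pg_zpowers_eq (pow_mem (mem_zpowers x) k)
        (le_of_eq (Nat.Coprime.orderOf_pow hco).symm)
  have hinj : Set.InjOn (fun k : ℕ => x ^ k)
      (↑((Finset.range (orderOf x)).filter (fun k => (orderOf x).Coprime k)) : Set ℕ) := by
    intro k hk k' hk' h
    simp only [Finset.mem_coe, Finset.mem_filter, Finset.mem_range] at hk hk'
    exact pow_injOn_Iio_orderOf hk.1 hk'.1 h
  rw [hset, hinj.ncard_image, Set.ncard_coe_finset, Nat.totient_eq_card_coprime]

theorem pg_cyclic_dom {x y : G} (hx : x ∈ zpowers y) (hx1 : x ≠ 1)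
    (hall : ∀ w ∈ zpowers y, pg_adj w x) :
    zpowers x = zpowers y ∨ IsPrimePow (orderOf y) := by
  by_contra hcon
  rw [not_or] at hcon
  obtain ⟨hne, hnpp⟩ := hcon
  have hypos : 0 < orderOf y := orderOf_pos y
  have hd1 : orderOf x ≠ 1 := fun h => hx1 (orderOf_eq_one_iff.1 h)
  obtain ⟨m, hm⟩ := orderOf_dvd_of_mem_zpowers hx
  have hm1 : m ≠ 1 := by
    rintro rfl
    rw [mul_one] at hm
    exact hne (pg_zpowers_eq hx (le_of_eq hm))
  have key : ∀ ℓ r : ℕ, ℓ.Prime → r.Prime → ℓ ∣ orderOf x → r ∣ m → ℓ = r := by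
    intro ℓ r hℓ hr hℓd hrm
    obtain ⟨d', hd'⟩ := hℓd
    obtain ⟨m', hm'⟩ := hrm
    have hy : orderOf y = (ℓ * m') * (d' * r) := by
      rw [hm, hd', hm']
      ring
    have hlm : ℓ * m' ≠ 0 := by
      intro h
      rw [h, zero_mul] at hy
      omega
    have hd'pos : 0 < d' := by
      rcases Nat.eq_zero_or_pos d' with h | h
      · rw [h, zero_mul, mul_zero] at hy
        omega
      · exact h
    have hw : orderOf (y ^ (ℓ * m')) = d' * r := by
      rw [orderOf_pow_of_dvd hlm ⟨d' * r, hy⟩, hy]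
      exact Nat.mul_div_cancel_left _ (Nat.pos_of_ne_zero hlm)
    rcases hall _ (pow_mem (mem_zpowers y) (ℓ * m')) with h | h
    · have h3 := orderOf_dvd_of_mem_zpowers h
      rw [hw, hd'] at h3
      have h4 : d' * r ∣ d' * ℓ := by rwa [mul_comm ℓ d'] at h3
      exact ((Nat.prime_dvd_prime_iff_eq hr hℓ).1 (Nat.dvd_of_mul_dvd_mul_left hd'pos h4)).symm
    · have h3 := orderOf_dvd_of_mem_zpowers h
      rw [hw, hd'] at h3
      have h4 : d' * ℓ ∣ d' * r := by rwa [mul_comm ℓ d'] at h3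
      exact (Nat.prime_dvd_prime_iff_eq hℓ hr).1 (Nat.dvd_of_mul_dvd_mul_left hd'pos h4)
  obtain ⟨ℓ₀, hℓ₀, hℓ₀d⟩ := Nat.exists_prime_and_dvd hd1
  obtain ⟨r₀, hr₀, hr₀m⟩ := Nat.exists_prime_and_dvd hm1
  have hall' : ∀ s : ℕ, s.Prime → s ∣ orderOf y → s = ℓ₀ := by
    intro s hs hsn
    rw [hm] at hsn
    rcases (Nat.Prime.dvd_mul hs).1 hsn with h | h
    · exact (key s r₀ hs hr₀ h hr₀m).trans (key ℓ₀ r₀ hℓ₀ hr₀ hℓ₀d hr₀m).symm
    · exact (key ℓ₀ s hℓ₀ hs hℓ₀d h).symm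
  have heq := Nat.eq_prime_pow_of_unique_prime_dvd (Nat.pos_iff_ne_zero.1 hypos)
    (fun {d} h1 h2 => hall' d h1 h2)
  have hk : (orderOf y).primeFactorsList.length ≠ 0 := by
    intro h0
    rw [h0, pow_zero] at heq
    have h7 : ℓ₀ ∣ orderOf y := dvd_trans hℓ₀d (orderOf_dvd_of_mem_zpowers hx)
    rw [heq] at h7
    exact hℓ₀.one_lt.ne' (Nat.dvd_one.1 h7)
  exact hnpp ((isPrimePow_nat_iff _).2 ⟨ℓ₀, _, hℓ₀, Nat.pos_of_ne_zero hk, heq.symm⟩)

theorem pg_twin_struct {x y : G} (hx : x ∈ zpowers y) (hx1 : x ≠ 1) (ht : pg_twin x y) :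
    zpowers x = zpowers y ∨ IsPrimePow (orderOf y) := by
  apply pg_cyclic_dom hx hx1
  intro w hw
  exact (ht w).2 (Or.inl hw)

theorem pg_max_twin (x : G) :
    ∃ y₀ : G, pg_twin y₀ x ∧ ∀ y, pg_twin y x → y ∈ zpowers y₀ := by
  obtain ⟨y₀, hy₀, hmax⟩ := Set.exists_max_image {y : G | pg_twin y x} orderOf
    (Set.toFinite _) ⟨x, pg_twin_refl x⟩
  refine ⟨y₀, hy₀, ?_⟩
  intro y hy
  have hadj : pg_adj y y₀ := pg_twin_adj (pg_twin_trans hy (pg_twin_symm hy₀))
  rcases hadj with h | h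
  · exact h
  · have h1 : orderOf y ≤ orderOf y₀ := hmax y hy
    have h2 : zpowers y₀ = zpowers y := pg_zpowers_eq h h1
    rw [h2]
    exact mem_zpowers y

theorem pg_twin_ne_one (hS : ∀ x : G, (∀ z, pg_adj z x) → x = 1) {x y : G} (hx : x ≠ 1)
    (h : pg_twin y x) : y ≠ 1 := by
  rintro rfl
  apply hx
  apply hS
  intro z
  exact (h z).1 (Or.inr (one_mem _))

theorem pg_atom_twin (hS : ∀ x : G, (∀ z, pg_adj z x) → x = 1) {x : G} {ℓ : ℕ}
    (hℓ : ℓ.Prime) (hx : orderOf x = ℓ) :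
    ∃ y₀ : G, x ∈ zpowers y₀ ∧ {y : G | pg_twin y x}.ncard + 1 = orderOf y₀ := by
  have hx1 : x ≠ 1 := by
    intro h
    rw [h, orderOf_one] at hx
    exact hℓ.one_lt.ne hx
  obtain ⟨y₀, hy₀, hmax⟩ := pg_max_twin x
  have hxy : x ∈ zpowers y₀ := hmax x (pg_twin_refl x)
  have hpow : ∃ t, orderOf y₀ = ℓ ^ t := by
    rcases pg_twin_struct hxy hx1 (pg_twin_symm hy₀) with h | h
    · refine ⟨1, ?_⟩
      rw [pow_one, ← hx, ← Nat.card_zpowers, ← Nat.card_zpowers, h]
    · obtain ⟨r, k, hr, hk, hrk⟩ := (isPrimePow_nat_iff _).1 h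
      have h1 : ℓ ∣ r ^ k := by
        rw [hrk, ← hx]
        exact orderOf_dvd_of_mem_zpowers hxy
      have h2 : ℓ = r := (Nat.prime_dvd_prime_iff_eq hℓ hr).1 (hℓ.dvd_of_dvd_pow h1)
      exact ⟨k, by rw [h2]; exact hrk.symm⟩
  obtain ⟨t, ht⟩ := hpow
  have hset : {y : G | pg_twin y x} = (↑(zpowers y₀) : Set G) \ {1} := by
    ext y
    simp only [Set.mem_setOf_eq, Set.mem_diff, SetLike.mem_coe, Set.mem_singleton_iff]
    constructor
    · intro hy
      exact ⟨hmax y hy, pg_twin_ne_one hS hx1 hy⟩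
    · rintro ⟨hy, hy1⟩
      have hxy' : x ∈ zpowers y := by
        apply pg_cyc hxy hy
        rw [hx]
        have h1 := orderOf_dvd_of_mem_zpowers hy
        rw [ht] at h1
        obtain ⟨j, -, hj⟩ := (Nat.dvd_prime_pow hℓ).1 h1
        rw [hj]
        have hj0 : j ≠ 0 := by
          rintro rfl
          rw [pow_zero] at hj
          exact hy1 (orderOf_eq_one_iff.1 hj)
        exact dvd_pow_self ℓ hj0
      intro z
      constructor
      · rintro (h | h)
        · have h3 : z ∈ zpowers y₀ := (zpowers_le.2 hy) h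
          exact (hy₀ z).1 (Or.inl h3)
        · exact Or.inr ((zpowers_le.2 h) hxy')
      · intro h
        rcases (hy₀ z).2 h with h' | h'
        · exact pg_chain hℓ ht h' hy
        · exact Or.inr ((zpowers_le.2 h') hy)
  refine ⟨y₀, hxy, ?_⟩
  have hc : (↑(zpowers y₀) : Set G).ncard = orderOf y₀ := by
    rw [← Nat.card_coe_set_eq]
    exact Nat.card_zpowers y₀
  rw [hset, Set.ncard_sdiff_singleton_of_mem (SetLike.mem_coe.2 (one_mem (zpowers y₀))), hc]
  have := orderOf_pos y₀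
  omega

theorem pg_dom {x : G} (hx1 : x ≠ 1) (hdom : ∀ z, pg_adj z x) :
    IsCyclic G ∨ ∃ ℓ k : ℕ, ℓ.Prime ∧ Nat.card G = ℓ ^ k := by
  have hmain : ∀ g : G, g ∈ zpowers x ∨ (x ∈ zpowers g ∧ IsPrimePow (orderOf g)) := by
    intro g
    rcases hdom g with h | h
    · exact Or.inl h
    · rcases pg_cyclic_dom h hx1 (fun w _ => hdom w) with h' | h'
      · refine Or.inl ?_
        rw [h']
        exact mem_zpowers g
      · exact Or.inr ⟨h, h'⟩
  by_cases hpp : IsPrimePow (orderOf x)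
  · right
    obtain ⟨ℓ, k, hℓ, hk, hℓk⟩ := (isPrimePow_nat_iff _).1 hpp
    haveI : Fact ℓ.Prime := ⟨hℓ⟩
    have hpg : IsPGroup ℓ G := by
      intro g
      have hgo : ∃ j, orderOf g = ℓ ^ j := by
        rcases hmain g with h | ⟨h, h'⟩
        · have h1 := orderOf_dvd_of_mem_zpowers h
          rw [← hℓk] at h1
          obtain ⟨j, -, hj⟩ := (Nat.dvd_prime_pow hℓ).1 h1
          exact ⟨j, hj⟩
        · obtain ⟨r, j, hr, hj, hrj⟩ := (isPrimePow_nat_iff _).1 h'
          have h1 : ℓ ∣ r ^ j := by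
            rw [hrj]
            refine dvd_trans ?_ (orderOf_dvd_of_mem_zpowers h)
            rw [← hℓk]
            exact dvd_pow_self ℓ hk.ne'
          have h2 : ℓ = r := (Nat.prime_dvd_prime_iff_eq hℓ hr).1 (hℓ.dvd_of_dvd_pow h1)
          exact ⟨j, by rw [h2]; exact hrj.symm⟩
      obtain ⟨j, hj⟩ := hgo
      exact ⟨j, by rw [← hj]; exact pow_orderOf_eq_one g⟩
    obtain ⟨n, hn⟩ := (IsPGroup.iff_card).1 hpg
    exact ⟨ℓ, n, hℓ, hn⟩
  · left
    refine ⟨⟨x, fun g => ?_⟩⟩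
    rcases hmain g with h | ⟨h, h'⟩
    · exact mem_zpowers_iff.1 h
    · exfalso
      apply hpp
      obtain ⟨r, j, hr, hj, hrj⟩ := (isPrimePow_nat_iff _).1 h'
      have h1 := orderOf_dvd_of_mem_zpowers h
      rw [← hrj] at h1
      obtain ⟨i, -, hi⟩ := (Nat.dvd_prime_pow hr).1 h1
      have hi0 : i ≠ 0 := by
        rintro rfl
        rw [pow_zero] at hi
        exact hx1 (orderOf_eq_one_iff.1 hi)
      exact (isPrimePow_nat_iff _).2 ⟨r, i, hr, Nat.pos_of_ne_zero hi0, hi.symm⟩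

theorem pg_cyc_or_pp (h : IsCyclic G ∨ ∃ ℓ k : ℕ, ℓ.Prime ∧ Nat.card G = ℓ ^ k) {p q : ℕ}
    (hp : p.Prime) (hq : q.Prime) (hpq : p ≠ q) :
    (∃ g : G, orderOf g = p * q) ↔ p * q ∣ Nat.card G := by
  constructor
  · rintro ⟨g, hg⟩
    rw [← hg]
    exact orderOf_dvd_natCard g
  · intro hdvd
    rcases h with h | ⟨ℓ, k, hℓ, hk⟩
    · haveI := h
      obtain ⟨g, hg⟩ := IsCyclic.exists_ofOrder_eq_natCard (α := G)
      refine ⟨g ^ (orderOf g / (p * q)), ?_⟩
      apply orderOf_pow_orderOf_div (orderOf_pos g).ne'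
      rw [hg]
      exact hdvd
    · exfalso
      rw [hk] at hdvd
      exact pg_not_pp hp hq hpq hdvd ((isPrimePow_nat_iff _).2 ⟨ℓ, k, hℓ, by
        rcases Nat.eq_zero_or_pos k with h0 | h0
        · exfalso
          rw [h0, pow_zero] at hdvd
          have h1 : p ∣ 1 := dvd_trans (dvd_mul_right p q) hdvd
          exact hp.one_lt.ne' (Nat.dvd_one.1 h1)
        · exact h0, rfl⟩)

theorem pg_complete_aux (hS : ∀ x : G, (∀ z, pg_adj z x) → x = 1) {p q : ℕ} (hp : p.Prime)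
    (hq : q.Prime) {c a b : G} (hc : orderOf c = p * q) (ha : orderOf a = p)
    (hac : a ∈ zpowers c) (hbc : b ∈ zpowers c) (hab : ¬ pg_adj a b) :
    (∀ y, pg_twin y a → zpowers y = zpowers a) ∧
      (∀ v, pg_adj v c → pg_adj v a → ¬ pg_adj v b → pg_twin v a) := by
  have ha1 : a ≠ 1 := by
    intro h
    rw [h, orderOf_one] at ha
    exact hp.one_lt.ne ha
  have key : ∀ v : G, v ∈ zpowers c → a ∈ zpowers v → ¬ pg_adj v b →
      zpowers v = zpowers a := by
    intro v hvc hav hvb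
    have h1 : orderOf v ∣ p * q := by
      have h0 := orderOf_dvd_of_mem_zpowers hvc
      rwa [hc] at h0
    have h2 : p ∣ orderOf v := by
      have h0 := orderOf_dvd_of_mem_zpowers hav
      rwa [ha] at h0
    obtain ⟨k, hk⟩ := h2
    rw [hk] at h1
    have h3 : k ∣ q := Nat.dvd_of_mul_dvd_mul_left hp.pos h1
    rcases (Nat.dvd_prime hq).1 h3 with h4 | h4
    · symm
      apply pg_zpowers_eq hav
      exact le_of_eq (by rw [hk, h4, mul_one, ha])
    · exfalso
      apply hvb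
      have h5 : zpowers v = zpowers c := by
        apply pg_zpowers_eq hvc
        exact le_of_eq (by rw [hk, h4, hc])
      exact Or.inr (by rw [h5]; exact hbc)
  constructor
  · intro y hy
    have hy1 : y ≠ 1 := pg_twin_ne_one hS ha1 hy
    have hyb : ¬ pg_adj y b := by
      intro h
      exact hab ((pg_adj_comm _ _).1 ((hy b).1 ((pg_adj_comm _ _).1 h)))
    rcases pg_twin_adj hy with h | h
    · apply pg_zpowers_eq h
      rw [ha]
      have h1 := orderOf_dvd_of_mem_zpowers h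
      rw [ha] at h1
      rcases (Nat.dvd_prime hp).1 h1 with h2 | h2
      · exact absurd (orderOf_eq_one_iff.1 h2) hy1
      · exact le_of_eq h2.symm
    · have hcy : pg_adj c y := (hy c).2 (Or.inr hac)
      rcases hcy with h' | h'
      · exfalso
        exact hyb (Or.inr ((zpowers_le.2 h') hbc))
      · exact key y h' h hyb
  · intro v hvc hva hvb
    apply pg_twin_of_zpowers_eq
    rcases hvc with h | h
    · rcases hva with h' | h'
      · have hv1 : v ≠ 1 := by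
          rintro rfl
          exact hvb (Or.inl (one_mem _))
        apply pg_zpowers_eq h'
        rw [ha]
        have h1 := orderOf_dvd_of_mem_zpowers h'
        rw [ha] at h1
        rcases (Nat.dvd_prime hp).1 h1 with h2 | h2
        · exact absurd (orderOf_eq_one_iff.1 h2) hv1
        · exact le_of_eq h2.symm
      · exact key v h h' hvb
    · exfalso
      exact hvb (Or.inr ((zpowers_le.2 h) hbc))

theorem pg_psi_of_order (hS : ∀ x : G, (∀ z, pg_adj z x) → x = 1) {p q : ℕ} (hp : p.Prime)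
    (hq : q.Prime) (hpq : p ≠ q) (h : ∃ g : G, orderOf g = p * q) : pg_psi G p q := by
  obtain ⟨c, hc⟩ := h
  have hcpos : orderOf c ≠ 0 := (orderOf_pos c).ne'
  have ha : orderOf (c ^ q) = p := by
    have h0 := orderOf_pow_orderOf_div hcpos
      (show p ∣ orderOf c by rw [hc]; exact dvd_mul_right p q)
    rwa [hc, Nat.mul_div_cancel_left _ hp.pos] at h0
  have hb : orderOf (c ^ p) = q := by
    have h0 := orderOf_pow_orderOf_div hcpos
      (show q ∣ orderOf c by rw [hc]; exact dvd_mul_left q p)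
    rwa [hc, Nat.mul_div_cancel _ hq.pos] at h0
  have hab : ¬ pg_adj (c ^ q) (c ^ p) := by
    rintro (h | h)
    · have h1 := orderOf_dvd_of_mem_zpowers h
      rw [ha, hb] at h1
      exact hpq ((Nat.prime_dvd_prime_iff_eq hp hq).1 h1)
    · have h1 := orderOf_dvd_of_mem_zpowers h
      rw [ha, hb] at h1
      exact hpq ((Nat.prime_dvd_prime_iff_eq hq hp).1 h1).symm
  have hac : c ^ q ∈ zpowers c := pow_mem (mem_zpowers c) q
  have hbc : c ^ p ∈ zpowers c := pow_mem (mem_zpowers c) p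
  have hc1 : c ≠ 1 := by
    intro h
    rw [h, one_pow, orderOf_one] at ha
    exact hp.one_lt.ne ha
  obtain ⟨hTa, hXa⟩ := pg_complete_aux hS hp hq hc ha hac hbc hab
  obtain ⟨hTb, hXb⟩ := pg_complete_aux hS hq hp (by rw [hc, mul_comm]) hb hbc hac
    (fun h => hab ((pg_adj_comm _ _).1 h))
  have hcardA : {y : G | pg_twin y (c ^ q)}.ncard = p - 1 := by
    have h0 : {y : G | pg_twin y (c ^ q)} = {y : G | zpowers y = zpowers (c ^ q)} := by
      ext y
      exact ⟨fun h => hTa y h, fun h => pg_twin_of_zpowers_eq h⟩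
    rw [h0, pg_gens_ncard, ha, Nat.totient_prime hp]
  have hcardB : {y : G | pg_twin y (c ^ p)}.ncard = q - 1 := by
    have h0 : {y : G | pg_twin y (c ^ p)} = {y : G | zpowers y = zpowers (c ^ p)} := by
      ext y
      exact ⟨fun h => hTb y h, fun h => pg_twin_of_zpowers_eq h⟩
    rw [h0, pg_gens_ncard, hb, Nat.totient_prime hq]
  have hcardC : {y : G | pg_twin y c}.ncard = (p - 1) * (q - 1) := by
    have h0 : {y : G | pg_twin y c} = {y : G | zpowers y = zpowers c} := by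
      ext y
      constructor
      · intro hy
        rcases pg_twin_adj hy with h | h
        · have hy1 : y ≠ 1 := pg_twin_ne_one hS hc1 hy
          rcases pg_twin_struct h hy1 hy with h' | h'
          · exact h'
          · exact absurd h' (fun hh => pg_not_pp hp hq hpq (dvd_of_eq hc.symm) hh)
        · rcases pg_twin_struct h hc1 (pg_twin_symm hy) with h' | h'
          · exact h'.symm
          · exfalso
            have h2 := orderOf_dvd_of_mem_zpowers h
            rw [hc] at h2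
            exact pg_not_pp hp hq hpq h2 h'
      · intro h
        exact pg_twin_of_zpowers_eq h
    rw [h0, pg_gens_ncard, hc, Nat.totient_mul ((Nat.coprime_primes hp hq).2 hpq),
      Nat.totient_prime hp, Nat.totient_prime hq]
  exact ⟨c, c ^ q, c ^ p, Or.inr hac, Or.inr hbc, hab, hcardA, hcardB, hcardC, hXa, hXb⟩

theorem pg_sound_A1 {c a b : G} (hac : a ∈ zpowers c) (hab : ¬ pg_adj a b)
    (hX : ∀ v, pg_adj v c → pg_adj v a → ¬ pg_adj v b → pg_twin v a) :
    IsPrimePow (orderOf a) := by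
  by_contra hnp
  have ha1 : a ≠ 1 := by
    intro h
    rw [h] at hab
    exact hab (Or.inl (one_mem _))
  have ho1 : orderOf a ≠ 1 := fun h => ha1 (orderOf_eq_one_iff.1 h)
  have hmem : ∀ ℓ : ℕ, ℓ.Prime → ℓ ∣ orderOf a → a ^ ℓ ∈ zpowers b := by
    intro ℓ hℓ hℓa
    have hva : a ^ ℓ ∈ zpowers a := pow_mem (mem_zpowers a) ℓ
    have hv1 : a ^ ℓ ≠ 1 := by
      intro h
      have h1 : orderOf a ∣ ℓ := orderOf_dvd_of_pow_eq_one h
      rcases (Nat.dvd_prime hℓ).1 h1 with h2 | h2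
      · exact ho1 h2
      · apply hnp
        rw [h2]
        exact hℓ.isPrimePow
    by_contra hvb
    have hvb' : ¬ pg_adj (a ^ ℓ) b := by
      rintro (h | h)
      · exact hvb h
      · exact hab (Or.inr ((zpowers_le.2 hva) h))
    have htw : pg_twin (a ^ ℓ) a :=
      hX _ (Or.inl ((zpowers_le.2 hac) hva)) (Or.inl hva) hvb'
    rcases pg_twin_struct hva hv1 htw with h | h
    · have h1 : orderOf (a ^ ℓ) = orderOf a := by
        rw [← Nat.card_zpowers, ← Nat.card_zpowers, h]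
      rw [orderOf_pow_of_dvd hℓ.ne_zero hℓa] at h1
      have h2 := Nat.div_mul_cancel hℓa
      rw [h1] at h2
      have h3 : ℓ = 1 :=
        Nat.eq_of_mul_eq_mul_left (orderOf_pos a) (h2.trans (mul_one _).symm)
      exact hℓ.one_lt.ne' h3
    · exact hnp h
  obtain ⟨ℓ₁, hℓ₁, hℓ₁a⟩ := Nat.exists_prime_and_dvd ho1
  have hex : ∃ ℓ₂ : ℕ, ℓ₂.Prime ∧ ℓ₂ ∣ orderOf a ∧ ℓ₂ ≠ ℓ₁ := by
    by_contra hcon
    push_neg at hcon
    have heq := Nat.eq_prime_pow_of_unique_prime_dvd (orderOf_pos a).ne'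
      (fun {d} hd hda => hcon d hd hda)
    apply hnp
    have hk : (orderOf a).primeFactorsList.length ≠ 0 := by
      intro h0
      rw [h0, pow_zero] at heq
      exact ho1 heq
    exact (isPrimePow_nat_iff _).2 ⟨ℓ₁, _, hℓ₁, Nat.pos_of_ne_zero hk, heq.symm⟩
  obtain ⟨ℓ₂, hℓ₂, hℓ₂a, hne⟩ := hex
  have haK : a ∈ zpowers b :=
    pg_pow_coprime (hmem ℓ₁ hℓ₁ hℓ₁a) (hmem ℓ₂ hℓ₂ hℓ₂a)
      ((Nat.coprime_primes hℓ₁ hℓ₂).2 hne.symm)
  exact hab (Or.inl haK)

theorem pg_sound_A2 (hS : ∀ x : G, (∀ z, pg_adj z x) → x = 1) {c a b : G}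
    {p ℓ₁ ℓ₂ i j : ℕ} (hp : p.Prime) (hℓ₁ : ℓ₁.Prime) (hℓ₂ : ℓ₂.Prime) (hne : ℓ₁ ≠ ℓ₂)
    (hoa : orderOf a = ℓ₁ ^ i) (hob : orderOf b = ℓ₂ ^ j) (hi : i ≠ 0) (hj : j ≠ 0)
    (hac : a ∈ zpowers c)
    (hX : ∀ v, pg_adj v c → pg_adj v a → ¬ pg_adj v b → pg_twin v a)
    (hcard : {y : G | pg_twin y a}.ncard = p - 1) :
    ∃ a₀ : G, a₀ ∈ zpowers a ∧ orderOf a₀ = p := by
  have hdiv : ℓ₁ ∣ orderOf a := by
    rw [hoa]
    exact dvd_pow_self ℓ₁ hi
  have ha₀ : orderOf (a ^ (orderOf a / ℓ₁)) = ℓ₁ :=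
    orderOf_pow_orderOf_div (orderOf_pos a).ne' hdiv
  have hmem : a ^ (orderOf a / ℓ₁) ∈ zpowers a := pow_mem (mem_zpowers a) _
  have hnb : ¬ pg_adj (a ^ (orderOf a / ℓ₁)) b := by
    rintro (h | h)
    · have h1 := orderOf_dvd_of_mem_zpowers h
      rw [ha₀, hob] at h1
      exact hne ((Nat.prime_dvd_prime_iff_eq hℓ₁ hℓ₂).1 (hℓ₁.dvd_of_dvd_pow h1))
    · have h1 := orderOf_dvd_of_mem_zpowers h
      rw [ha₀, hob] at h1
      have h2 : ℓ₂ ∣ ℓ₁ := dvd_trans (dvd_pow_self ℓ₂ hj) h1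
      exact hne ((Nat.prime_dvd_prime_iff_eq hℓ₂ hℓ₁).1 h2).symm
  have htw : pg_twin (a ^ (orderOf a / ℓ₁)) a :=
    hX _ (Or.inl ((zpowers_le.2 hac) hmem)) (Or.inl hmem) hnb
  obtain ⟨y₀, hy₀, hy₀card⟩ := pg_atom_twin hS hℓ₁ ha₀
  have hseteq : {y : G | pg_twin y (a ^ (orderOf a / ℓ₁))} = {y : G | pg_twin y a} := by
    ext y
    exact ⟨fun h => pg_twin_trans h htw, fun h => pg_twin_trans h (pg_twin_symm htw)⟩
  rw [hseteq, hcard] at hy₀card
  have hp1 : 1 ≤ p := hp.pos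
  have hy₀p : orderOf y₀ = p := by omega
  have h1 := orderOf_dvd_of_mem_zpowers hy₀
  rw [ha₀, hy₀p] at h1
  have h2 : ℓ₁ = p := (Nat.prime_dvd_prime_iff_eq hℓ₁ hp).1 h1
  exact ⟨a ^ (orderOf a / ℓ₁), hmem, by rw [ha₀, h2]⟩

theorem pg_sound_B (hS : ∀ x : G, (∀ z, pg_adj z x) → x = 1) {p q : ℕ} (hp : p.Prime)
    (hq : q.Prime) (hpq : p ≠ q) {c a b : G} (hca : c ∈ zpowers a) (hcb : c ∈ zpowers b)
    (hab : ¬ pg_adj a b)
    (hTa : {y : G | pg_twin y a}.ncard = p - 1) (hTb : {y : G | pg_twin y b}.ncard = q - 1)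
    (hTc : {y : G | pg_twin y c}.ncard = (p - 1) * (q - 1)) : False := by
  have hp2 := hp.two_le
  have hq2 := hq.two_le
  have hA : 1 ≤ p - 1 := by omega
  have hB : 1 ≤ q - 1 := by omega
  have hAB : p - 1 ≠ q - 1 := by omega
  have h2AB := pg_arith0 hA hB hAB
  have hc1 : c ≠ 1 := by
    intro hc
    rw [hc] at hTc
    have h1 : {y : G | pg_twin y (1 : G)} = {1} := by
      ext y
      simp only [Set.mem_setOf_eq, Set.mem_singleton_iff]
      constructor
      · intro hy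
        apply hS
        intro z
        exact (hy z).2 (Or.inr (one_mem _))
      · intro hy
        rw [hy]
        exact pg_twin_refl 1
    rw [h1, Set.ncard_singleton] at hTc
    omega
  obtain ⟨y₀, hy₀, hmax⟩ := pg_max_twin c
  have hcy : c ∈ zpowers y₀ := hmax c (pg_twin_refl c)
  have hstruct := pg_twin_struct hcy hc1 (pg_twin_symm hy₀)
  have hay : pg_adj a y₀ := (hy₀ a).2 (Or.inr hca)
  have hby : pg_adj b y₀ := (hy₀ b).2 (Or.inr hcb)
  have hyab : y₀ ∈ zpowers a ∧ y₀ ∈ zpowers b := by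
    rcases hay with ha | ha
    · exfalso
      rcases hby with hb | hb
      · rcases hstruct with h | h
        · rw [← h] at ha
          exact hab (Or.inl ((zpowers_le.2 hcb) ha))
        · obtain ⟨r, k, hr, -, hrk⟩ := (isPrimePow_nat_iff _).1 h
          exact hab (pg_chain hr hrk.symm ha hb)
      · exact hab (Or.inl ((zpowers_le.2 hb) ha))
    · rcases hby with hb | hb
      · exfalso
        exact hab (Or.inr ((zpowers_le.2 ha) hb))
      · exact ⟨ha, hb⟩
  obtain ⟨hya, hyb⟩ := hyab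
  have hφa : Nat.totient (orderOf y₀) ≤ p - 1 := by
    rw [← hTa]
    calc Nat.totient (orderOf y₀) ≤ Nat.totient (orderOf a) :=
          Nat.le_of_dvd (Nat.totient_pos.2 (orderOf_pos a))
            (Nat.totient_dvd_of_dvd (orderOf_dvd_of_mem_zpowers hya))
      _ = {y : G | zpowers y = zpowers a}.ncard := (pg_gens_ncard a).symm
      _ ≤ {y : G | pg_twin y a}.ncard :=
          Set.ncard_le_ncard (fun y hy => pg_twin_of_zpowers_eq hy) (Set.toFinite _)
  have hφb : Nat.totient (orderOf y₀) ≤ q - 1 := by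
    rw [← hTb]
    calc Nat.totient (orderOf y₀) ≤ Nat.totient (orderOf b) :=
          Nat.le_of_dvd (Nat.totient_pos.2 (orderOf_pos b))
            (Nat.totient_dvd_of_dvd (orderOf_dvd_of_mem_zpowers hyb))
      _ = {y : G | zpowers y = zpowers b}.ncard := (pg_gens_ncard b).symm
      _ ≤ {y : G | pg_twin y b}.ncard :=
          Set.ncard_le_ncard (fun y hy => pg_twin_of_zpowers_eq hy) (Set.toFinite _)
  have hTc_sub : {y : G | pg_twin y c} ⊆ (↑(zpowers y₀) : Set G) \ {1} := by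
    intro y hy
    exact (Set.mem_diff y).2 ⟨hmax y hy,
      fun h => pg_twin_ne_one hS hc1 hy (Set.mem_singleton_iff.1 h)⟩
  have hTc_le : (p - 1) * (q - 1) + 1 ≤ orderOf y₀ := by
    have h1 : {y : G | pg_twin y c}.ncard ≤ ((↑(zpowers y₀) : Set G) \ {1}).ncard :=
      Set.ncard_le_ncard hTc_sub (Set.toFinite _)
    have hc : (↑(zpowers y₀) : Set G).ncard = orderOf y₀ := by
      rw [← Nat.card_coe_set_eq]
      exact Nat.card_zpowers y₀
    rw [hTc, Set.ncard_sdiff_singleton_of_mem (SetLike.mem_coe.2 (one_mem (zpowers y₀))),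
      hc] at h1
    have := orderOf_pos y₀
    omega
  by_cases hpp : IsPrimePow (orderOf y₀)
  · obtain ⟨r, k, hr, hk, hrk⟩ := (isPrimePow_nat_iff _).1 hpp
    obtain ⟨s, rfl⟩ : ∃ s, k = s + 1 := ⟨k - 1, by omega⟩
    rw [← hrk, Nat.totient_prime_pow_succ hr] at hφa hφb
    rw [← hrk] at hTc_le
    exact pg_arith1 hr.two_le hφa hφb hTc_le hA hB hAB
  · have hcz : zpowers c = zpowers y₀ := by
      rcases hstruct with h | h
      · exact h
      · exact absurd h hpp
    have hoc : orderOf c = orderOf y₀ := by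
      rw [← Nat.card_zpowers, ← Nat.card_zpowers, hcz]
    have hsub : {y : G | pg_twin y c} ⊆ {y : G | zpowers y = zpowers c} := by
      intro y hy
      have hyc : y ∈ zpowers c := by
        rw [hcz]
        exact hmax y hy
      have hy1 : y ≠ 1 := pg_twin_ne_one hS hc1 hy
      rcases pg_twin_struct hyc hy1 hy with h | h
      · exact h
      · rw [hoc] at h
        exact absurd h hpp
    have h1 : (p - 1) * (q - 1) ≤ Nat.totient (orderOf y₀) := by
      rw [← hTc, ← hoc, ← pg_gens_ncard c]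
      exact Set.ncard_le_ncard hsub (Set.toFinite _)
    exact pg_arith2 hA hB hAB (le_trans h1 hφa) (le_trans h1 hφb)

theorem pg_order_of_psi (hS : ∀ x : G, (∀ z, pg_adj z x) → x = 1) {p q : ℕ} (hp : p.Prime)
    (hq : q.Prime) (hpq : p ≠ q) (h : pg_psi G p q) : ∃ g : G, orderOf g = p * q := by
  obtain ⟨c, a, b, hca, hcb, hab, hTa, hTb, hTc, hXa, hXb⟩ := h
  have hba : ¬ pg_adj b a := fun h => hab ((pg_adj_comm _ _).1 h)
  rcases hca with hca | hca
  · rcases hcb with hcb | hcb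
    · exfalso
      exact pg_sound_B hS hp hq hpq hca hcb hab hTa hTb hTc
    · exact absurd (Or.inr ((zpowers_le.2 hca) hcb)) hab
  · rcases hcb with hcb | hcb
    · exact absurd (Or.inl ((zpowers_le.2 hcb) hca)) hab
    · have hppa := pg_sound_A1 hca hab hXa
      have hppb := pg_sound_A1 hcb hba hXb
      obtain ⟨ℓ₁, i, hℓ₁, hi, hoa⟩ := (isPrimePow_nat_iff _).1 hppa
      obtain ⟨ℓ₂, j, hℓ₂, hj, hob⟩ := (isPrimePow_nat_iff _).1 hppb
      have hne : ℓ₁ ≠ ℓ₂ := by
        intro hEq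
        rw [← hEq] at hob
        rcases le_total i j with h | h
        · exact hab (Or.inl (pg_cyc hca hcb (by rw [← hoa, ← hob]; exact pow_dvd_pow _ h)))
        · exact hab (Or.inr (pg_cyc hcb hca (by rw [← hoa, ← hob]; exact pow_dvd_pow _ h)))
      obtain ⟨a₀, ha₀m, ha₀⟩ :=
        pg_sound_A2 hS hp hℓ₁ hℓ₂ hne hoa.symm hob.symm hi.ne' hj.ne' hca hXa hTa
      obtain ⟨b₀, hb₀m, hb₀⟩ :=
        pg_sound_A2 hS hq hℓ₂ hℓ₁ hne.symm hob.symm hoa.symm hj.ne' hi.ne' hcb hXb hTb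
      have ha₀c : a₀ ∈ zpowers c := (zpowers_le.2 hca) ha₀m
      have hb₀c : b₀ ∈ zpowers c := (zpowers_le.2 hcb) hb₀m
      obtain ⟨u, hu⟩ := mem_zpowers_iff.1 ha₀c
      obtain ⟨v, hv⟩ := mem_zpowers_iff.1 hb₀c
      have hcomm : Commute a₀ b₀ := by
        rw [← hu, ← hv]
        exact Commute.zpow_zpow_self c u v
      refine ⟨a₀ * b₀, ?_⟩
      rw [hcomm.orderOf_mul_eq_mul_orderOf_of_coprime, ha₀, hb₀]
      rw [ha₀, hb₀]
      exact (Nat.coprime_primes hp hq).2 hpq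

end PG

theorem pg_psi_transport {G H : Type*} [Group G] [Group H] (e : G ≃ H)
    (he : ∀ x y : G, pg_adj x y ↔ pg_adj (e x) (e y)) {p q : ℕ} (h : pg_psi G p q) :
    pg_psi H p q := by
  obtain ⟨c, a, b, hca, hcb, hab, hTa, hTb, hTc, hXa, hXb⟩ := h
  have htw : ∀ x y : G, pg_twin (e y) (e x) ↔ pg_twin y x := by
    intro x y
    constructor
    · intro h z
      exact ((he z y).trans (h (e z))).trans (he z x).symm
    · intro h z'
      obtain ⟨z, rfl⟩ := e.surjective z'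
      exact ((he z y).symm.trans (h z)).trans (he z x)
  have hcard : ∀ x : G, {y' : H | pg_twin y' (e x)}.ncard = {y : G | pg_twin y x}.ncard := by
    intro x
    have h0 : {y' : H | pg_twin y' (e x)} = e '' {y : G | pg_twin y x} := by
      ext y'
      obtain ⟨y, rfl⟩ := e.surjective y'
      constructor
      · intro h
        exact ⟨y, (htw x y).1 h, rfl⟩
      · rintro ⟨y2, hy2, hEq⟩
        have h3 := e.injective hEq
        rw [← h3]
        exact (htw x y2).2 hy2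
    rw [h0, Set.ncard_image_of_injective _ e.injective]
  refine ⟨e c, e a, e b, (he c a).1 hca, (he c b).1 hcb, fun h => hab ((he a b).2 h),
    ?_, ?_, ?_, ?_, ?_⟩
  · rw [hcard, hTa]
  · rw [hcard, hTb]
  · rw [hcard, hTc]
  · intro v' h1 h2 h3
    obtain ⟨v, rfl⟩ := e.surjective v'
    exact (htw a v).2 (hXa v ((he v c).2 h1) ((he v a).2 h2) (fun h => h3 ((he v b).1 h)))
  · intro v' h1 h2 h3
    obtain ⟨v, rfl⟩ := e.surjective v'
    exact (htw b v).2 (hXb v ((he v c).2 h1) ((he v b).2 h2) (fun h => h3 ((he v a).1 h)))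

theorem pg_main {G H : Type*} [Group G] [Finite G] [Group H] [Finite H] (e : G ≃ H)
    (he : ∀ x y : G, pg_adj x y ↔ pg_adj (e x) (e y))
    {p q : ℕ} (hp : p.Prime) (hq : q.Prime) (hpq : p ≠ q) :
    (∃ g : G, orderOf g = p * q) ↔ (∃ h : H, orderOf h = p * q) := by
  have he' : ∀ x y : H, pg_adj x y ↔ pg_adj (e.symm x) (e.symm y) := by
    intro x y
    have h0 := he (e.symm x) (e.symm y)
    rw [e.apply_symm_apply, e.apply_symm_apply] at h0
    exact h0.symm
  have hcard : Nat.card G = Nat.card H := Nat.card_congr e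
  by_cases hG : ∃ x : G, x ≠ 1 ∧ ∀ z, pg_adj z x
  · have hH : ∃ x : H, x ≠ 1 ∧ ∀ z, pg_adj z x := by
      obtain ⟨x, hx1, hx⟩ := hG
      have hdomx : ∀ z : H, pg_adj z (e x) := by
        intro z
        have h0 := (he (e.symm z) x).1 (hx _)
        rwa [e.apply_symm_apply] at h0
      have hdom1 : ∀ z : H, pg_adj z (e 1) := by
        intro z
        have h0 := (he (e.symm z) 1).1 (Or.inr (one_mem _))
        rwa [e.apply_symm_apply] at h0
      by_cases h : e x = 1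
      · refine ⟨e 1, ?_, hdom1⟩
        intro h1
        exact hx1 (e.injective (h.trans h1.symm))
      · exact ⟨e x, h, hdomx⟩
    obtain ⟨x, hx1, hx⟩ := hG
    obtain ⟨x', hx1', hx'⟩ := hH
    rw [pg_cyc_or_pp (pg_dom hx1 hx) hp hq hpq, pg_cyc_or_pp (pg_dom hx1' hx') hp hq hpq,
      hcard]
  · have hSG : ∀ x : G, (∀ z, pg_adj z x) → x = 1 := by
      intro x hx
      by_contra hx1
      exact hG ⟨x, hx1, hx⟩
    have hSH : ∀ x : H, (∀ z, pg_adj z x) → x = 1 := by
      intro x hx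
      by_contra hx1
      have hdomx : ∀ z : G, pg_adj z (e.symm x) := by
        intro z
        have h0 := (he' (e z) x).1 (hx _)
        rwa [e.symm_apply_apply] at h0
      have hdom1 : ∀ z : G, pg_adj z (e.symm 1) := by
        intro z
        have h0 := (he' (e z) 1).1 (Or.inr (one_mem _))
        rwa [e.symm_apply_apply] at h0
      have h1 := hSG _ hdomx
      have h2 := hSG _ hdom1
      exact hx1 (e.symm.injective (h1.trans h2.symm))
    constructor
    · intro h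
      exact pg_order_of_psi hSH hp hq hpq
        (pg_psi_transport e he (pg_psi_of_order hSG hp hq hpq h))
    · intro h
      exact pg_order_of_psi hSG hp hq hpq
        (pg_psi_transport e.symm he' (pg_psi_of_order hSH hp hq hpq h))

end Cfsg.Agent.Helper11
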