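import Mathlib
import Cfsg.Prelude
import Cfsg.Agent.Helper11.Meta
import Cfsg.Agent.Helper11.MetaAct
import Cfsg.Agent.Helper11.MetaOmega
import Cfsg.Agent.Helper24.RankTwo
import Cfsg.Agent.Helper24.CoprimeAut
import Cfsg.Agent.Helper24.NormalCenter
import Cfsg.Agent.Helper1.PUnique
import Cfsg.Agent.Helper1.Coprime
import Cfsg.Agent.S0640
import Cfsg.Agent.S1447

set_option autoImplicit false

namespace Cfsg.Agent.Helper11

open scoped commutatorElement

universe u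

/-- Pairwise commuting generators give a commutative closure. -/
theorem rs_comm_closure {G : Type u} [Group G] (s : Set G)
    (h : ∀ x ∈ s, ∀ y ∈ s, x * y = y * x) :
    ∀ a ∈ Subgroup.closure s, ∀ b ∈ Subgroup.closure s, a * b = b * a := by
  have h1 : Subgroup.closure s ≤ Subgroup.centralizer s := by
    rw [Subgroup.closure_le]
    intro x hx
    rw [SetLike.mem_coe, Subgroup.mem_centralizer_iff]
    intro y hy
    exact h y hy x hx
  have h2 : Subgroup.closure s ≤ Subgroup.centralizer (Subgroup.closure s : Set G) := by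
    rw [Subgroup.closure_le]
    intro x hx
    rw [SetLike.mem_coe, Subgroup.mem_centralizer_iff]
    intro y hy
    have h3 := h1 hy
    rw [Subgroup.mem_centralizer_iff] at h3
    exact (h3 x hx).symm
  intro a ha b hb
  have h3 := h2 ha
  rw [Subgroup.mem_centralizer_iff] at h3
  exact (h3 b hb).symm

/-- A nontrivial element of a subgroup of prime order generates it. -/
theorem rs_gen_prime {G : Type u} [Group G] [Finite G] {p : ℕ} [Fact p.Prime] (Z : Subgroup G)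
    (hZcard : Nat.card Z = p) (c : G) (hc : c ∈ Z) (hc1 : c ≠ 1) :
    ∀ z ∈ Z, ∃ i : ℕ, c ^ i = z := by
  intro z hz
  have h1 : Subgroup.zpowers (⟨c, hc⟩ : ↥Z) = ⊤ := by
    apply zpowers_eq_top_of_prime_card hZcard
    intro h
    exact hc1 (congrArg Subtype.val h)
  have h2 : (⟨z, hz⟩ : ↥Z) ∈ Subgroup.zpowers (⟨c, hc⟩ : ↥Z) := by
    rw [h1]; exact Subgroup.mem_top _
  rw [← mem_powers_iff_mem_zpowers] at h2
  obtain ⟨i, hi⟩ := (Submonoid.mem_powers_iff _ _).1 h2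
  exact ⟨i, by simpa using congrArg Subtype.val hi⟩

/-- In a cyclic group of order `p ^ (s + 1)` the elements killed by `p ^ s` are `p`-th powers. -/
theorem rs_cyc_pow {G : Type u} [Group G] [Finite G] {p : ℕ} [Fact p.Prime] (C : Subgroup G)
    (hcyc : IsCyclic C) (s : ℕ) (hcard : Nat.card C = p ^ (s + 1)) (g : G) (hg : g ∈ C)
    (hgs : g ^ (p ^ s) = 1) : ∃ c ∈ C, g = c ^ p := by
  have hpr : p.Prime := Fact.out
  haveI := hcyc
  obtain ⟨t, ht⟩ := IsCyclic.exists_generator (α := ↥C)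
  have hord : orderOf t = p ^ (s + 1) := by
    rw [orderOf_eq_card_of_forall_mem_zpowers ht, hcard]
  obtain ⟨k, hk⟩ := Subgroup.mem_zpowers_iff.1 (ht ⟨g, hg⟩)
  have h1 : t ^ (k * ((p ^ s : ℕ) : ℤ)) = 1 := by
    rw [zpow_mul, hk, zpow_natCast]
    exact Subtype.ext (by simpa using hgs)
  have h2 : ((orderOf t : ℕ) : ℤ) ∣ k * ((p ^ s : ℕ) : ℤ) := orderOf_dvd_iff_zpow_eq_one.2 h1
  rw [hord] at h2
  have h3 : (p : ℤ) ∣ k := by
    obtain ⟨j, hj⟩ := h2
    have hne : ((p ^ s : ℕ) : ℤ) ≠ 0 := by exact_mod_cast (pow_pos hpr.pos s).ne'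
    refine ⟨j, ?_⟩
    apply mul_right_cancel₀ hne
    rw [hj]; push_cast; ring
  obtain ⟨m, hm⟩ := h3
  refine ⟨((t ^ m : ↥C) : G), (t ^ m).2, ?_⟩
  have h5 : (⟨g, hg⟩ : ↥C) = (t ^ m) ^ p := by
    rw [← zpow_natCast, ← zpow_mul, mul_comm, ← hm, hk]
  have h6 := congrArg Subtype.val h5
  simpa using h6

/-- A subgroup of index at most `p` normal in `V` together with one outside element gives `V`. -/
theorem rs_decomp {G : Type u} [Group G] [Finite G] {p : ℕ} [Fact p.Prime] (U V : Subgroup G)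
    (hV : IsPGroup p V) (hUV : U ≤ V) (hcard : Nat.card V ≤ p * Nat.card U) (g : G)
    (hgV : g ∈ V) (hgU : g ∉ U) (hn : ∀ u ∈ U, ∀ v ∈ V, v * u * v⁻¹ ∈ U) :
    ∀ v ∈ V, ∃ i : ℕ, ∃ u ∈ U, v = g ^ i * u := by
  have hnz : ∀ j : ℤ, ∀ u ∈ U, g ^ j * u * (g ^ j)⁻¹ ∈ U := fun j u hu =>
    hn u hu _ (V.zpow_mem hgV j)
  obtain ⟨S, hS⟩ : ∃ S : Subgroup G, ∀ x, x ∈ S ↔ ∃ i : ℤ, ∃ u ∈ U, x = g ^ i * u := by
    refine ⟨{ carrier := {x | ∃ i : ℤ, ∃ u ∈ U, x = g ^ i * u}, mul_mem' := ?_, one_mem' := ?_, inv_mem' := ?_ }, fun x => Iff.rfl⟩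
    · rintro a b ⟨i, u, hu, rfl⟩ ⟨j, u', hu', rfl⟩
      refine ⟨i + j, (g ^ j)⁻¹ * u * g ^ j * u', U.mul_mem ?_ hu', ?_⟩
      · have h1 := hnz (-j) u hu
        rw [zpow_neg, inv_inv] at h1
        exact h1
      · group
    · exact ⟨0, 1, U.one_mem, by simp⟩
    · rintro a ⟨i, u, hu, rfl⟩
      refine ⟨-i, g ^ i * u⁻¹ * (g ^ i)⁻¹, hnz i _ (U.inv_mem hu), ?_⟩
      group
  have hUS : U ≤ S := fun u hu => (hS u).2 ⟨0, u, hu, by simp⟩
  have hgS : g ∈ S := (hS g).2 ⟨1, 1, U.one_mem, by simp⟩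
  have hSV : S ≤ V := by
    intro x hx
    obtain ⟨i, u, hu, rfl⟩ := (hS x).1 hx
    exact V.mul_mem (V.zpow_mem hgV i) (hUV hu)
  have hSne : ¬ S ≤ U := fun h => hgU (h hgS)
  have h1 : p * Nat.card U ≤ Nat.card S := ma_card_ge U S (hV.to_le hSV) hUS hSne
  have hSV' : S = V := Subgroup.eq_of_le_of_card_ge hSV (le_trans hcard h1)
  intro v hv
  rw [← hSV'] at hv
  obtain ⟨i, u, hu, rfl⟩ := (hS v).1 hv
  have h2 : g ^ i ∈ Subgroup.zpowers g := Subgroup.zpow_mem_zpowers g i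
  rw [← mem_powers_iff_mem_zpowers] at h2
  obtain ⟨n, hn'⟩ := (Submonoid.mem_powers_iff _ _).1 h2
  exact ⟨n, u, hu, by rw [hn']⟩

/-- The prime is larger than three. -/
theorem rs_three_lt {G : Type u} [Group G] [Finite G] (p : ℕ) [Fact p.Prime] (hp : p ≠ 2)
    (R A : Subgroup G) (hR : IsPGroup p R) (hR1 : R ≠ ⊥) (hr : Cfsg.PRankLE p 2 R)
    (hA : A ≤ Subgroup.normalizer (R : Set G)) (hcop : (Nat.card A).Coprime p)
    (hAodd : Odd (Nat.card A)) (hRA : ⁅R, A⁆ = R) : 3 < p := by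
  have hpr : p.Prime := Fact.out
  have hex : ∃ a ∈ A, ∃ r ∈ R, a * r * a⁻¹ ≠ r := by
    by_contra hcon
    push_neg at hcon
    apply hR1
    rw [← hRA, Subgroup.commutator_eq_bot_iff_le_centralizer]
    intro r hr'
    rw [Subgroup.mem_centralizer_iff]
    intro a ha
    have h1 := hcon a ha r hr'
    calc a * r = a * r * a⁻¹ * a := by group
      _ = r * a := by rw [h1]
  obtain ⟨a, ha, r, hrR, har⟩ := hex
  have hinv : ∀ x ∈ R, (MulAut.conj a) x ∈ R := by
    intro x hx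
    rw [MulAut.conj_apply]
    exact (Subgroup.mem_normalizer_iff.1 (hA ha) x).1 hx
  obtain ⟨b, hb, hbo⟩ := Cfsg.Agent.Helper24.exists_restrict_aut (MulAut.conj a) R hinv
  have hb1 : b ≠ 1 := by
    intro h
    have h1 := hb ⟨r, hrR⟩
    rw [h, MulAut.one_apply, MulAut.conj_apply] at h1
    exact har h1.symm
  have hbo1 : orderOf b ≠ 1 := fun h => hb1 (orderOf_eq_one_iff.1 h)
  have hq : (orderOf b).minFac.Prime := Nat.minFac_prime hbo1
  have hqb : (orderOf b).minFac ∣ orderOf b := Nat.minFac_dvd _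
  have hqA : (orderOf b).minFac ∣ Nat.card A := by
    have h1 : orderOf (MulAut.conj a) ∣ orderOf a := orderOf_map_dvd MulAut.conj a
    have h2 : orderOf a ∣ Nat.card A := by
      have h3 := orderOf_dvd_natCard (⟨a, ha⟩ : ↥A)
      rwa [Subgroup.orderOf_mk] at h3
    exact (hqb.trans hbo).trans (h1.trans h2)
  have hqp : (orderOf b).minFac ≠ p := by
    intro h
    have h1 : p ∣ Nat.card A := by rw [← h]; exact hqA
    exact (Nat.Prime.coprime_iff_not_dvd hpr).1 hcop.symm h1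
  have hq2 : (orderOf b).minFac ≠ 2 := by
    intro h
    have h1 : 2 ∣ Nat.card A := by rw [← h]; exact hqA
    obtain ⟨k, hk⟩ := hAodd
    omega
  have hqM : (orderOf b).minFac ∣ Nat.card (MulAut ↥R) := hqb.trans (orderOf_dvd_natCard b)
  have h640 := (Cfsg.Agent.S0640.result hp hR hr _ hq hqp hqM).2
  have hq2' := hq.two_le
  omega

/-- The elements of order dividing `p` form a subgroup of order at most `p ^ 3`. -/
theorem rs_omega {G : Type u} [Group G] [Finite G] {p : ℕ} [Fact p.Prime] (hp3 : 3 < p)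
    (R : Subgroup G) (hR : IsPGroup p R) (hr : Cfsg.PRankLE p 2 R) :
    ∃ E : Subgroup G, E ≤ R ∧ (∀ x ∈ R, x ^ p = 1 → x ∈ E) ∧ (∀ x ∈ E, x ^ p = 1) ∧
      Nat.card E ≤ p ^ 3 := by
  have hrk : ∀ F : Subgroup ↥R, Cfsg.IsElementaryAbelian p F → Nat.card F ≤ p ^ 2 :=
    fun F hF => hr F hF.1 hF.2
  have hmul : ∀ x ∈ R, ∀ y ∈ R, x ^ p = 1 → y ^ p = 1 → (x * y) ^ p = 1 := by
    intro x hx y hy hxp hyp
    have h1 := Cfsg.Agent.Helper24.pow_prime_mul_eq_one_of_rank_two hp3 _ ↥R rfl hR hrk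
      ⟨x, hx⟩ ⟨y, hy⟩ (Subtype.ext (by simpa using hxp)) (Subtype.ext (by simpa using hyp))
    simpa using congrArg Subtype.val h1
  obtain ⟨E, hE⟩ : ∃ E : Subgroup G, ∀ x, x ∈ E ↔ (x ∈ R ∧ x ^ p = 1) := by
    refine ⟨{ carrier := {x | x ∈ R ∧ x ^ p = 1}, mul_mem' := ?_, one_mem' := ?_, inv_mem' := ?_ }, fun x => Iff.rfl⟩
    · rintro a b ⟨ha, ha'⟩ ⟨hb, hb'⟩
      exact ⟨R.mul_mem ha hb, hmul a ha b hb ha' hb'⟩
    · exact ⟨R.one_mem, one_pow p⟩
    · rintro a ⟨ha, ha'⟩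
      exact ⟨R.inv_mem ha, by rw [inv_pow, ha', inv_one]⟩
  have hER : E ≤ R := fun x hx => ((hE x).1 hx).1
  refine ⟨E, hER, fun x hx hxp => (hE x).2 ⟨hx, hxp⟩, fun x hx => ((hE x).1 hx).2, ?_⟩
  have h1 : Nat.card (E.subgroupOf R) ≤ p ^ 3 := by
    apply Cfsg.Agent.Helper24.card_le_cube_of_exponent_of_rank_two hR hrk
    intro u hu
    rw [Subgroup.mem_subgroupOf] at hu
    exact Subtype.ext (by simpa using ((hE _).1 hu).2)
  have h2 : Nat.card (E.subgroupOf R) = Nat.card E :=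
    Nat.card_congr (Subgroup.subgroupOfEquivOfLe hER).toEquiv
  rw [← h2]; exact h1

/-- Structure of a subgroup of order `p ^ 3` that has no commutative subgroup of order
above `p ^ 2`. -/
theorem rs_E {G : Type u} [Group G] [Finite G] {p : ℕ} [Fact p.Prime] (E : Subgroup G)
    (hEpg : IsPGroup p E) (hEcard : p ^ 2 < Nat.card E) (hEcard3 : Nat.card E ≤ p ^ 3)
    (hrkE : ∀ F : Subgroup G, F ≤ E → (∀ a ∈ F, ∀ b ∈ F, a * b = b * a) → Nat.card F ≤ p ^ 2) :
    ∃ Z : Subgroup G, Z ≤ E ∧ (∀ z ∈ Z, ∀ e ∈ E, e * z = z * e) ∧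
      (∀ g ∈ E, (∀ e ∈ E, e * g = g * e) → g ∈ Z) ∧ Nat.card Z = p ∧ Nat.card E = p ^ 3 ∧
      (∀ x ∈ E, ∀ y ∈ E, ⁅x, y⁆ ∈ Z) ∧ ∃ x ∈ E, ∃ y ∈ E, ⁅x, y⁆ ≠ 1 := by
  classical
  have hpr : p.Prime := Fact.out
  have hE3 : Nat.card E = p ^ 3 := by
    obtain ⟨k, hk⟩ := IsPGroup.iff_card.1 hEpg
    rw [hk] at hEcard hEcard3 ⊢
    have h1 : 2 < k := by
      by_contra hk2
      have h4 : p ^ k ≤ p ^ 2 := Nat.pow_le_pow_right hpr.pos (by omega)
      omega
    have h2 : k ≤ 3 := by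
      by_contra hk3
      have h4 : p ^ 4 ≤ p ^ k := Nat.pow_le_pow_right hpr.pos (by omega)
      have h5 : p ^ 3 < p ^ 4 := Nat.pow_lt_pow_right hpr.one_lt (by omega)
      omega
    have h3 : k = 3 := by omega
    rw [h3]
  obtain ⟨Z, hZdef⟩ : ∃ Z : Subgroup G, Z = E ⊓ Subgroup.centralizer (E : Set G) := ⟨_, rfl⟩
  have hZmem : ∀ z, z ∈ Z ↔ (z ∈ E ∧ ∀ e ∈ E, e * z = z * e) := by
    intro z
    rw [hZdef, Subgroup.mem_inf]
    exact and_congr Iff.rfl Subgroup.mem_centralizer_iff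
  have hZE : Z ≤ E := fun z hz => ((hZmem z).1 hz).1
  have hZc : ∀ z ∈ Z, ∀ e ∈ E, e * z = z * e := fun z hz => ((hZmem z).1 hz).2
  have hZin : ∀ g ∈ E, (∀ e ∈ E, e * g = g * e) → g ∈ Z := fun g hg h => (hZmem g).2 ⟨hg, h⟩
  have hnab : ∃ x ∈ E, ∃ y ∈ E, x * y ≠ y * x := by
    by_contra hcon
    push_neg at hcon
    have h1 := hrkE E le_rfl hcon
    omega
  obtain ⟨x, hx, y, hy, hxy⟩ := hnab
  have hyZ : y ∉ Z := fun h => hxy (hZc y h x hx)
  have hZpg : IsPGroup p Z := hEpg.to_le hZE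
  have hZge : p ≤ Nat.card Z := by
    haveI : Group.IsNilpotent ↥E := hEpg.isNilpotent
    haveI : (⊤ : Subgroup ↥E).Normal := ⟨fun n _ g => Subgroup.mem_top _⟩
    have htop : (⊤ : Subgroup ↥E) ≠ ⊥ := by
      intro h
      have h1 : Nat.card (⊤ : Subgroup ↥E) = 1 := by rw [h, Subgroup.card_bot]
      rw [Subgroup.card_top] at h1
      have h2 := pow_pos hpr.pos 2
      omega
    obtain ⟨z, -, hz1, hzc⟩ :=
      Cfsg.Agent.Helper24.exists_mem_center_of_normal (⊤ : Subgroup ↥E) htop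
    have hzZ : (z : G) ∈ Z := by
      apply hZin _ z.2
      intro e he
      have h1 := Subgroup.mem_center_iff.1 hzc ⟨e, he⟩
      exact congrArg Subtype.val h1
    have hne : ¬ Z ≤ ⊥ := by
      intro h
      have h1 := h hzZ
      rw [Subgroup.mem_bot] at h1
      exact hz1 (Subtype.ext h1)
    have h2 := ma_card_ge ⊥ Z hZpg bot_le hne
    rw [Subgroup.card_bot, mul_one] at h2
    exact h2
  have hZle : Nat.card Z ≤ p := by
    obtain ⟨F, hF⟩ : ∃ F : Subgroup G, F = Subgroup.closure ((Z : Set G) ∪ {y}) := ⟨_, rfl⟩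
    have hsub : ∀ g ∈ ((Z : Set G) ∪ {y}), g ∈ E := by
      intro g hg
      rcases hg with hg | hg
      · exact hZE hg
      · rw [Set.mem_singleton_iff] at hg; rw [hg]; exact hy
    have hFE : F ≤ E := by
      rw [hF, Subgroup.closure_le]
      exact hsub
    have hFc : ∀ a ∈ F, ∀ b ∈ F, a * b = b * a := by
      rw [hF]
      apply rs_comm_closure
      intro a ha b hb
      rcases ha with ha | ha
      · exact (hZc a ha b (hsub b hb)).symm
      · rcases hb with hb | hb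
        · exact hZc b hb a (hsub a (Or.inr ha))
        · rw [Set.mem_singleton_iff] at ha hb; rw [ha, hb]
    have hZF : Z ≤ F := by
      rw [hF]
      exact fun z hz => Subgroup.subset_closure (Or.inl hz)
    have hyF : y ∈ F := by
      rw [hF]
      exact Subgroup.subset_closure (Or.inr rfl)
    have h1 := ma_card_ge Z F (hEpg.to_le hFE) hZF (fun h => hyZ (h hyF))
    have h2 := hrkE F hFE hFc
    have h3 : p * Nat.card Z ≤ p * p := by
      calc p * Nat.card Z ≤ Nat.card F := h1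
        _ ≤ p ^ 2 := h2
        _ = p * p := by ring
    exact Nat.le_of_mul_le_mul_left h3 hpr.pos
  have hZcard : Nat.card Z = p := le_antisymm hZle hZge
  have hcomm : ∀ a ∈ E, ∀ b ∈ E, ⁅a, b⁆ ∈ Z := by
    haveI hZn : (Z.subgroupOf E).Normal := by
      refine ⟨fun n hn g => ?_⟩
      rw [Subgroup.mem_subgroupOf] at hn ⊢
      have h1 : (g : G) * (n : G) = (n : G) * (g : G) := hZc _ hn _ g.2
      have h2 : ((g * n * g⁻¹ : ↥E) : G) = (n : G) := by
        simp only [Subgroup.coe_mul, Subgroup.coe_inv]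
        rw [h1, mul_inv_cancel_right]
      rw [h2]; exact hn
    have hc1 : Nat.card (Z.subgroupOf E) = p := by
      rw [← hZcard]
      exact Nat.card_congr (Subgroup.subgroupOfEquivOfLe hZE).toEquiv
    have hc2 : Nat.card (↥E ⧸ Z.subgroupOf E) = p ^ 2 := by
      have h1 := Subgroup.card_eq_card_quotient_mul_card_subgroup (Z.subgroupOf E)
      rw [hc1, hE3] at h1
      have h2 : p ^ 2 * p = Nat.card (↥E ⧸ Z.subgroupOf E) * p := by rw [← h1]; ring
      exact (Nat.eq_of_mul_eq_mul_right hpr.pos h2).symm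
    have hQ : ∀ a b : ↥E ⧸ Z.subgroupOf E, a * b = b * a :=
      comm_of_card_le_sq (hEpg.to_quotient _) (le_of_eq hc2)
    intro a ha b hb
    have h1 : ⁅(⟨a, ha⟩ : ↥E), ⟨b, hb⟩⁆ ∈ Z.subgroupOf E := by
      apply (QuotientGroup.eq_one_iff _).1
      show QuotientGroup.mk' (Z.subgroupOf E) ⁅(⟨a, ha⟩ : ↥E), ⟨b, hb⟩⁆ = 1
      rw [map_commutatorElement, commutatorElement_eq_one_iff_mul_comm]
      exact hQ _ _
    rw [Subgroup.mem_subgroupOf] at h1
    simpa [commutatorElement_def] using h1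
  exact ⟨Z, hZE, hZc, hZin, hZcard, hE3, hcomm, x, hx, y, hy,
    fun h => hxy (commutatorElement_eq_one_iff_mul_comm.1 h)⟩

/-- Two non-commuting elements generate a group of order `p ^ 3`. -/
theorem rs_gen {G : Type u} [Group G] [Finite G] {p : ℕ} [Fact p.Prime] (E : Subgroup G)
    (hEpg : IsPGroup p E) (hE3 : Nat.card E = p ^ 3) (x y : G) (hx : x ∈ E) (hy : y ∈ E)
    (hxy : ⁅x, y⁆ ≠ 1) (g : G) (hgx : g * x = x * g) (hgy : g * y = y * g) :
    ∀ e ∈ E, g * e = e * g := by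
  have hpr : p.Prime := Fact.out
  obtain ⟨H, hH⟩ : ∃ H : Subgroup G, H = Subgroup.closure {x, y} := ⟨_, rfl⟩
  have hxH : x ∈ H := by rw [hH]; exact Subgroup.subset_closure (Or.inl rfl)
  have hyH : y ∈ H := by rw [hH]; exact Subgroup.subset_closure (Or.inr rfl)
  have hHE : H ≤ E := by
    rw [hH, Subgroup.closure_le]
    intro t ht
    rcases ht with ht | ht
    · rw [ht]; exact hx
    · rw [Set.mem_singleton_iff] at ht; rw [ht]; exact hy
  have hHeq : H = E := by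
    by_contra hne
    have hnle : ¬ E ≤ H := fun h => hne (le_antisymm hHE h)
    have h1 := ma_card_ge H E hEpg hHE hnle
    rw [hE3] at h1
    have h2 : Nat.card H ≤ p ^ 2 := by
      have h3 : p * Nat.card H ≤ p * p ^ 2 := by
        calc p * Nat.card H ≤ p ^ 3 := h1
          _ = p * p ^ 2 := by ring
      exact Nat.le_of_mul_le_mul_left h3 hpr.pos
    have h4 := comm_of_card_le_sq (hEpg.to_le hHE) h2 ⟨x, hxH⟩ ⟨y, hyH⟩
    have h5 : x * y = y * x := congrArg Subtype.val h4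
    exact hxy (commutatorElement_eq_one_iff_mul_comm.2 h5)
  intro e he
  rw [← hHeq, hH] at he
  have h6 : Subgroup.closure {x, y} ≤ Subgroup.centralizer ({g} : Set G) := by
    rw [Subgroup.closure_le]
    intro t ht
    rw [SetLike.mem_coe, Subgroup.mem_centralizer_iff]
    intro s hs
    rw [Set.mem_singleton_iff] at hs
    rw [hs]
    rcases ht with ht | ht
    · rw [ht]; exact hgx
    · rw [Set.mem_singleton_iff] at ht; rw [ht]; exact hgy
  have h7 := h6 he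
  rw [Subgroup.mem_centralizer_iff] at h7
  exact h7 g rfl

/-- Iterated conjugation. -/
theorem rs_conj_pow {G : Type u} [Group G] (a b c : G) (h : a * b * a⁻¹ = c * b)
    (hc : a * c = c * a) (n : ℕ) : a ^ n * b * (a ^ n)⁻¹ = c ^ n * b := by
  induction n with
  | zero => simp
  | succ n ih =>
    have h1 : a ^ (n + 1) * b * (a ^ (n + 1))⁻¹ = a * (a ^ n * b * (a ^ n)⁻¹) * a⁻¹ := by
      rw [pow_succ']; group
    rw [h1, ih]
    have h2 : a * (c ^ n * b) * a⁻¹ = (a * c ^ n * a⁻¹) * (a * b * a⁻¹) := by group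
    have h3 : a * c ^ n * a⁻¹ = c ^ n := by
      have h4 : Commute a (c ^ n) := (show Commute a c from hc).pow_right n
      rw [h4.eq, mul_inv_cancel_right]
    rw [h2, h3, h, pow_succ, mul_assoc]

/-- An element acting trivially modulo the centre on a group of order `p ^ 3` acts as an
inner map. -/
theorem rs_inner {G : Type u} [Group G] [Finite G] {p : ℕ} [Fact p.Prime] (E Z : Subgroup G)
    (hEpg : IsPGroup p E) (hE3 : Nat.card E = p ^ 3) (hZE : Z ≤ E) (hZcard : Nat.card Z = p)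
    (hZc : ∀ z ∈ Z, ∀ e ∈ E, e * z = z * e) (hcomm : ∀ a ∈ E, ∀ b ∈ E, ⁅a, b⁆ ∈ Z)
    (x y : G) (hx : x ∈ E) (hy : y ∈ E) (hxy : ⁅x, y⁆ ≠ 1) (r : G)
    (hrx : ⁅r, x⁆ ∈ Z) (hry : ⁅r, y⁆ ∈ Z) :
    ∃ e ∈ E, ∀ e' ∈ E, (e⁻¹ * r) * e' = e' * (e⁻¹ * r) := by
  have hyx : ⁅y, x⁆ ≠ 1 := by
    intro h
    apply hxy
    rw [commutatorElement_eq_one_iff_mul_comm] at h ⊢
    exact h.symm
  obtain ⟨i, hi⟩ := rs_gen_prime Z hZcard ⁅y, x⁆ (hcomm y hy x hx) hyx ⁅r, x⁆ hrx
  obtain ⟨j, hj⟩ := rs_gen_prime Z hZcard ⁅x, y⁆ (hcomm x hx y hy) hxy ⁅r, y⁆ hry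
  have h1 : y ^ i * x * (y ^ i)⁻¹ = ⁅y, x⁆ ^ i * x := by
    apply rs_conj_pow
    · simp only [commutatorElement_def]; group
    · exact hZc _ (hcomm y hy x hx) y hy
  have h2 : x ^ j * y * (x ^ j)⁻¹ = ⁅x, y⁆ ^ j * y := by
    apply rs_conj_pow
    · simp only [commutatorElement_def]; group
    · exact hZc _ (hcomm x hx y hy) x hx
  rw [hi] at h1
  rw [hj] at h2
  have hex : (x ^ j * y ^ i) * x * (x ^ j * y ^ i)⁻¹ = r * x * r⁻¹ := by
    have h3 : (x ^ j * y ^ i) * x * (x ^ j * y ^ i)⁻¹ =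
        x ^ j * (y ^ i * x * (y ^ i)⁻¹) * (x ^ j)⁻¹ := by group
    rw [h3, h1]
    have hcx : Commute (x ^ j) ⁅r, x⁆ := by
      have h4 : Commute x ⁅r, x⁆ := hZc _ hrx x hx
      exact h4.pow_left j
    have h5 : Commute (x ^ j) (⁅r, x⁆ * x) := hcx.mul_right (Commute.pow_self x j)
    rw [h5.eq, mul_inv_cancel_right]
    simp only [commutatorElement_def]; group
  have hey : (x ^ j * y ^ i) * y * (x ^ j * y ^ i)⁻¹ = r * y * r⁻¹ := by
    have h3 : (x ^ j * y ^ i) * y * (x ^ j * y ^ i)⁻¹ = x ^ j * y * (x ^ j)⁻¹ := by group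
    rw [h3, h2]
    simp only [commutatorElement_def]; group
  have heE : x ^ j * y ^ i ∈ E := E.mul_mem (E.pow_mem hx j) (E.pow_mem hy i)
  obtain ⟨e, he⟩ : ∃ e, e = x ^ j * y ^ i := ⟨_, rfl⟩
  rw [← he] at hex hey heE
  refine ⟨e, heE, ?_⟩
  have hgx : (e⁻¹ * r) * x = x * (e⁻¹ * r) := by
    have h3 : r * x = e * x * e⁻¹ * r := by rw [hex]; group
    rw [mul_assoc, h3]; group
  have hgy : (e⁻¹ * r) * y = y * (e⁻¹ * r) := by
    have h3 : r * y = e * y * e⁻¹ * r := by rw [hey]; group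
    rw [mul_assoc, h3]; group
  exact rs_gen E hEpg hE3 x y hx hy hxy _ hgx hgy

/-- Roots of coprime degree are unique among elements of order dividing `p`. -/
theorem rs_root {G : Type u} [Group G] {p : ℕ} (x y : G) (hx : x ^ p = 1) (hy : y ^ p = 1)
    (m : ℕ) (hm : Nat.Coprime m p) (h : x ^ m = y ^ m) : x = y := by
  have hm' : Nat.gcd m p = 1 := hm
  have h1 : ∀ t : G, t ^ p = 1 → t = (t ^ m) ^ (Nat.gcdA m p) := by
    intro t ht
    have h2 : ((Nat.gcd m p : ℕ) : ℤ) = m * Nat.gcdA m p + p * Nat.gcdB m p :=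
      Nat.gcd_eq_gcd_ab m p
    rw [hm'] at h2
    have h3 : t ^ ((m : ℤ) * Nat.gcdA m p + (p : ℤ) * Nat.gcdB m p) = t := by
      rw [← h2]; simp
    rw [zpow_add, zpow_mul, zpow_mul, zpow_natCast, zpow_natCast, ht, one_zpow, mul_one] at h3
    exact h3.symm
  calc x = (x ^ m) ^ (Nat.gcdA m p) := h1 x hx
    _ = (y ^ m) ^ (Nat.gcdA m p) := by rw [h]
    _ = y := (h1 y hy).symm

/-- Commutators are bimultiplicative when they are central. -/
theorem rs_bil {G : Type u} [Group G] (E Z : Subgroup G) (hZE : Z ≤ E)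
    (hZc : ∀ z ∈ Z, ∀ e ∈ E, e * z = z * e) (hcomm : ∀ a ∈ E, ∀ b ∈ E, ⁅a, b⁆ ∈ Z) :
    (∀ u ∈ E, ∀ f ∈ E, ∀ g ∈ E, ⁅u, f * g⁆ = ⁅u, f⁆ * ⁅u, g⁆) ∧
    (∀ u ∈ E, ∀ u' ∈ E, ∀ f ∈ E, ⁅u * u', f⁆ = ⁅u, f⁆ * ⁅u', f⁆) ∧
    (∀ u ∈ E, ∀ f ∈ E, ∀ n : ℕ, ⁅u, f ^ n⁆ = ⁅u, f⁆ ^ n) ∧
    (∀ u ∈ E, ∀ f ∈ E, ∀ n : ℕ, ⁅u ^ n, f⁆ = ⁅u, f⁆ ^ n) := by
  have hconj : ∀ z ∈ Z, ∀ e ∈ E, e * z * e⁻¹ = z := by
    intro z hz e he
    rw [hZc z hz e he, mul_inv_cancel_right]
  have h1 : ∀ u ∈ E, ∀ f ∈ E, ∀ g ∈ E, ⁅u, f * g⁆ = ⁅u, f⁆ * ⁅u, g⁆ := by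
    intro u hu f hf g hg
    have h : ⁅u, f * g⁆ = ⁅u, f⁆ * (f * ⁅u, g⁆ * f⁻¹) := by
      simp only [commutatorElement_def]; group
    rw [h, hconj _ (hcomm u hu g hg) f hf]
  have h2 : ∀ u ∈ E, ∀ u' ∈ E, ∀ f ∈ E, ⁅u * u', f⁆ = ⁅u, f⁆ * ⁅u', f⁆ := by
    intro u hu u' hu' f hf
    have h : ⁅u * u', f⁆ = (u * ⁅u', f⁆ * u⁻¹) * ⁅u, f⁆ := by
      simp only [commutatorElement_def]; group
    rw [h, hconj _ (hcomm u' hu' f hf) u hu]
    exact hZc _ (hcomm u hu f hf) _ (hZE (hcomm u' hu' f hf))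
  refine ⟨h1, h2, ?_, ?_⟩
  · intro u hu f hf n
    induction n with
    | zero => rw [pow_zero, pow_zero, commutatorElement_one_right]
    | succ n ih => rw [pow_succ, h1 u hu _ (E.pow_mem hf n) f hf, ih, pow_succ]
  · intro u hu f hf n
    induction n with
    | zero => rw [pow_zero, pow_zero, commutatorElement_one_left]
    | succ n ih => rw [pow_succ, h2 _ (E.pow_mem hu n) u hu f hf, ih, pow_succ]

/-- A rearrangement. -/
theorem rs_arith1 {G : Type u} [Group G] (v z z' : G) (n : ℕ) (h : Commute (z * z') v) :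
    v ^ n * z * (z' * v) = v ^ (n + 1) * (z * z') := by
  calc v ^ n * z * (z' * v) = v ^ n * ((z * z') * v) := by simp only [mul_assoc]
    _ = v ^ n * (v * (z * z')) := by rw [h.eq]
    _ = v ^ (n + 1) * (z * z') := by rw [pow_succ, mul_assoc]

set_option maxHeartbeats 4000000 in
/-- Structure of a rank two `p`-group equal to its commutator with an odd coprime group. -/
theorem rs_main {G : Type u} [Group G] [Finite G] (p : ℕ) [Fact p.Prime] (hp : p ≠ 2)
    (R A : Subgroup G) (hR : IsPGroup p R) (hR1 : R ≠ ⊥) (hr : Cfsg.PRankLE p 2 R)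
    (hA : A ≤ Subgroup.normalizer (R : Set G)) (hcop : (Nat.card A).Coprime p)
    (hAodd : Odd (Nat.card A)) (hRA : ⁅R, A⁆ = R) :
    3 < p ∧ (IsMulCommutative R ∨ ∃ R₁ R₂ : Subgroup G, R₁ ⊔ R₂ = R ∧
        (∀ a ∈ R₁, ∀ b ∈ R₂, a * b = b * a) ∧
        ¬ IsMulCommutative R₁ ∧ Nat.card R₁ = p ^ 3 ∧ Monoid.exponent R₁ = p ∧ IsCyclic R₂ ∧
        Subgroup.closure {x : G | x ∈ R₂ ∧ x ^ p = 1} = ⁅R₁, R₁⁆) := by
  classical
  have hpr : p.Prime := Fact.out
  have hp3 : 3 < p := rs_three_lt p hp R A hR hR1 hr hA hcop hAodd hRA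
  refine ⟨hp3, ?_⟩
  have hRN : R ≤ Subgroup.normalizer (R : Set G) := Subgroup.le_normalizer
  have hrkG : ∀ F : Subgroup G, F ≤ R → (∀ a ∈ F, ∀ b ∈ F, a * b = b * a) →
      (∀ a ∈ F, a ^ p = 1) → Nat.card F ≤ p ^ 2 := by
    intro F hFR hFc hFe
    have h1 : Nat.card (F.subgroupOf R) ≤ p ^ 2 := by
      apply hr (F.subgroupOf R)
      · refine ⟨⟨fun a b => ?_⟩⟩
        apply Subtype.ext
        apply Subtype.ext
        exact hFc _ (Subgroup.mem_subgroupOf.1 a.2) _ (Subgroup.mem_subgroupOf.1 b.2)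
      · intro a ha
        rw [Subgroup.mem_subgroupOf] at ha
        exact Subtype.ext (by simpa using hFe _ ha)
    have h2 : Nat.card (F.subgroupOf R) = Nat.card F :=
      Nat.card_congr (Subgroup.subgroupOfEquivOfLe hFR).toEquiv
    rw [← h2]; exact h1
  obtain ⟨E, hER, hEall, hEexp, hEle⟩ := rs_omega hp3 R hR hr
  have hEpg : IsPGroup p E := hR.to_le hER
  by_cases hEsmall : Nat.card E ≤ p ^ 2
  · left
    have hO : Nat.card ↥(Cfsg.omegaOne p (⊤ : Subgroup ↥R)) ≤ p ^ 2 := by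
      have h1 : Cfsg.omegaOne p (⊤ : Subgroup ↥R) ≤ E.subgroupOf R := by
        show Subgroup.closure {x : ↥R | x ∈ (⊤ : Subgroup ↥R) ∧ x ^ p = 1} ≤ E.subgroupOf R
        rw [Subgroup.closure_le]
        rintro x ⟨-, hx⟩
        rw [SetLike.mem_coe, Subgroup.mem_subgroupOf]
        apply hEall _ x.2
        simpa using congrArg Subtype.val hx
      have h2 : Nat.card (E.subgroupOf R) = Nat.card E :=
        Nat.card_congr (Subgroup.subgroupOfEquivOfLe hER).toEquiv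
      calc Nat.card ↥(Cfsg.omegaOne p (⊤ : Subgroup ↥R)) ≤ Nat.card (E.subgroupOf R) :=
            Subgroup.card_le_of_le h1
        _ = Nat.card E := h2
        _ ≤ p ^ 2 := hEsmall
    have hmeta : Cfsg.IsMetacyclic ↥R := mc_main hp3 _ ↥R rfl hR hO
    have hab := (ma_wrap hp R A hR hmeta hA hcop hRA).1
    exact ⟨⟨fun a b => Subtype.ext (hab a.1 a.2 b.1 b.2)⟩⟩
  · right
    have hEbig : p ^ 2 < Nat.card E := not_le.1 hEsmall
    have hrkE : ∀ F : Subgroup G, F ≤ E → (∀ a ∈ F, ∀ b ∈ F, a * b = b * a) →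
        Nat.card F ≤ p ^ 2 :=
      fun F hFE hFc => hrkG F (hFE.trans hER) hFc (fun a ha => hEexp a (hFE ha))
    obtain ⟨Z, hZE, hZc, hZin, hZcard, hE3, hcomm, x₀, hx₀, y₀, hy₀, hxy₀⟩ :=
      rs_E E hEpg hEbig hEle hrkE
    obtain ⟨hb1, hb2, hb3, hb4⟩ := rs_bil E Z hZE hZc hcomm
    have hZp : ∀ z ∈ Z, z ^ p = 1 := fun z hz => oq_pow_card Z p hZcard z hz
    have hZconj : ∀ z ∈ Z, ∀ e ∈ E, e * z * e⁻¹ = z := by
      intro z hz e he
      rw [hZc z hz e he, mul_inv_cancel_right]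
    have hNE : ∀ n ∈ Subgroup.normalizer (R : Set G), ∀ e ∈ E, n * e * n⁻¹ ∈ E := by
      intro n hn e he
      apply hEall
      · exact (Subgroup.mem_normalizer_iff.1 hn e).1 (hER he)
      · rw [conj_pow, hEexp e he, mul_one, mul_inv_cancel]
    have hNinv : ∀ n ∈ Subgroup.normalizer (R : Set G), ∀ e ∈ E, n⁻¹ * e * n ∈ E := by
      intro n hn e he
      have h1 := hNE n⁻¹ (Subgroup.inv_mem _ hn) e he
      rwa [inv_inv] at h1
    have hNZ : ∀ n ∈ Subgroup.normalizer (R : Set G), ∀ z ∈ Z, n * z * n⁻¹ ∈ Z := by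
      intro n hn z hz
      apply hZin _ (hNE n hn z (hZE hz))
      intro e he
      have h1 := hZc z hz _ (hNinv n hn e he)
      calc e * (n * z * n⁻¹) = n * (n⁻¹ * e * n * z) * n⁻¹ := by group
        _ = n * (z * (n⁻¹ * e * n)) * n⁻¹ := by rw [h1]
        _ = n * z * n⁻¹ * e := by group
    have hZR : Z ≤ R := hZE.trans hER
    haveI hZnR : (Z.subgroupOf R).Normal := by
      refine ⟨fun n hn g => ?_⟩
      rw [Subgroup.mem_subgroupOf] at hn ⊢
      have h1 := hNZ (g : G) (hRN g.2) _ hn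
      simpa using h1
    haveI hEnR : (E.subgroupOf R).Normal := by
      refine ⟨fun n hn g => ?_⟩
      rw [Subgroup.mem_subgroupOf] at hn ⊢
      have h1 := hNE (g : G) (hRN g.2) _ hn
      simpa using h1
    have hZRc : ∀ z ∈ Z, ∀ r ∈ R, r * z = z * r := by
      have hc1 : Nat.card (Z.subgroupOf R) = p := by
        rw [← hZcard]
        exact Nat.card_congr (Subgroup.subgroupOfEquivOfLe hZR).toEquiv
      have h1 := oq_central hR (Z.subgroupOf R) hc1
      intro z hz r hr'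
      have h2 : (⟨z, hZR hz⟩ : ↥R) ∈ Subgroup.center ↥R :=
        h1 (show (⟨z, hZR hz⟩ : ↥R) ∈ Z.subgroupOf R from hz)
      have h3 := Subgroup.mem_center_iff.1 h2 ⟨r, hr'⟩
      exact congrArg Subtype.val h3
    haveI hnilR : Group.IsNilpotent ↥R := hR.isNilpotent
    have hEZne : ¬ E.subgroupOf R ≤ Z.subgroupOf R := by
      intro h
      have h1 : (⟨x₀, hER hx₀⟩ : ↥R) ∈ Z.subgroupOf R :=
        h (show (⟨x₀, hER hx₀⟩ : ↥R) ∈ E.subgroupOf R from hx₀)
      have h2 : x₀ ∈ Z := h1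
      exact hxy₀ (commutatorElement_eq_one_iff_mul_comm.2 (hZc x₀ h2 y₀ hy₀).symm)
    obtain ⟨w', hw'E, hw'Z, hw'c⟩ :=
      Cfsg.Agent.Helper24.exists_mem_not_mem_commutator_mem (E.subgroupOf R) (Z.subgroupOf R)
        hEZne
    obtain ⟨w, hw⟩ : ∃ w : G, w = (w' : G) := ⟨_, rfl⟩
    have hwE : w ∈ E := by rw [hw]; exact hw'E
    have hwZ : w ∉ Z := by rw [hw]; exact hw'Z
    have hwc : ∀ r ∈ R, ⁅r, w⁆ ∈ Z := by
      intro r hr'
      have h1 := hw'c ⟨r, hr'⟩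
      rw [Subgroup.mem_subgroupOf] at h1
      have h2 : ⁅w, r⁆ ∈ Z := by
        rw [hw]; simpa [commutatorElement_def] using h1
      have h3 : ⁅r, w⁆ = ⁅w, r⁆⁻¹ := by simp only [commutatorElement_def]; group
      rw [h3]; exact Z.inv_mem h2
    obtain ⟨W, hW⟩ : ∃ W : Subgroup G, ∀ x, x ∈ W ↔ (x ∈ E ∧ ∀ r ∈ R, ⁅r, x⁆ ∈ Z) := by
      refine ⟨{ carrier := {x | x ∈ E ∧ ∀ r ∈ R, ⁅r, x⁆ ∈ Z}, mul_mem' := ?_, one_mem' := ?_, inv_mem' := ?_ }, fun x => Iff.rfl⟩
      · rintro a b ⟨ha, ha'⟩ ⟨hb, hb'⟩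
        refine ⟨E.mul_mem ha hb, fun r hr' => ?_⟩
        have h1 : ⁅r, a * b⁆ = ⁅r, a⁆ * (a * ⁅r, b⁆ * a⁻¹) := by
          simp only [commutatorElement_def]; group
        rw [h1, hZconj _ (hb' r hr') a ha]
        exact Z.mul_mem (ha' r hr') (hb' r hr')
      · refine ⟨E.one_mem, fun r hr' => ?_⟩
        rw [commutatorElement_one_right]
        exact Z.one_mem
      · rintro a ⟨ha, ha'⟩
        refine ⟨E.inv_mem ha, fun r hr' => ?_⟩
        have h1 : ⁅r, a⁻¹⁆ = a⁻¹ * ⁅r, a⁆⁻¹ * a⁻¹⁻¹ := by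
          simp only [commutatorElement_def]; group
        rw [h1, hZconj _ (Z.inv_mem (ha' r hr')) _ (E.inv_mem ha)]
        exact Z.inv_mem (ha' r hr')
    have hWE : W ≤ E := fun x hx => ((hW x).1 hx).1
    have hZW : Z ≤ W := by
      intro z hz
      refine (hW z).2 ⟨hZE hz, fun r hr' => ?_⟩
      have h1 : ⁅r, z⁆ = 1 := by
        rw [commutatorElement_eq_one_iff_mul_comm]; exact hZRc z hz r hr'
      rw [h1]; exact Z.one_mem
    have hwW : w ∈ W := (hW w).2 ⟨hwE, hwc⟩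
    obtain ⟨C, hCdef⟩ : ∃ C : Subgroup G, C = R ⊓ Subgroup.centralizer (E : Set G) := ⟨_, rfl⟩
    have hCmem : ∀ c, c ∈ C ↔ (c ∈ R ∧ ∀ e ∈ E, e * c = c * e) := by
      intro c
      rw [hCdef, Subgroup.mem_inf]
      exact and_congr Iff.rfl Subgroup.mem_centralizer_iff
    have hCR : C ≤ R := fun c hc => ((hCmem c).1 hc).1
    have hCc : ∀ c ∈ C, ∀ e ∈ E, e * c = c * e := fun c hc => ((hCmem c).1 hc).2
    have hZC : Z ≤ C := fun z hz => (hCmem z).2 ⟨hZR hz, hZc z hz⟩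
    have hCord : ∀ c ∈ C, c ^ p = 1 → c ∈ Z := fun c hc hcp =>
      hZin c (hEall c (hCR hc) hcp) (hCc c hc)
    have hCpg : IsPGroup p C := hR.to_le hCR
    have hCcyc : IsCyclic ↥C := by
      have hc1 : Nat.card (Z.subgroupOf C) = p := by
        rw [← hZcard]
        exact Nat.card_congr (Subgroup.subgroupOfEquivOfLe hZC).toEquiv
      have huniq : ∀ H : Subgroup ↥C, Nat.card H = p → H = Z.subgroupOf C := by
        intro H hH
        apply Subgroup.eq_of_le_of_card_ge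
        · intro x hx
          rw [Subgroup.mem_subgroupOf]
          apply hCord _ x.2
          have h1 := oq_pow_card H p hH x hx
          simpa using congrArg Subtype.val h1
        · exact le_of_eq (by rw [hc1, hH])
      exact Cfsg.Agent.Helper1.pgroup_unique_cyclic_odd p hp hCpg
        (fun H K hH hK => (huniq H hH).trans (huniq K hK).symm)
    have hkey : ∀ r ∈ R, ∀ e ∈ E, ⁅r, e⁆ ∈ Z := by
      by_contra hcon
      push_neg at hcon
      obtain ⟨r₁, hr₁, e₁, he₁, hre₁⟩ := hcon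
      have he₁W : e₁ ∉ W := fun h => hre₁ (((hW e₁).1 h).2 r₁ hr₁)
      have hWpg : IsPGroup p W := hEpg.to_le hWE
      have hWcard : Nat.card W = p ^ 2 := by
        have h1 := ma_card_ge Z W hWpg hZW (fun h => hwZ (h hwW))
        have h2 := ma_card_ge W E hEpg hWE (fun h => he₁W (h he₁))
        rw [hZcard] at h1
        rw [hE3] at h2
        have h3 : Nat.card W ≤ p ^ 2 := by
          have h4 : p * Nat.card W ≤ p * p ^ 2 := by
            calc p * Nat.card W ≤ p ^ 3 := h2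
              _ = p * p ^ 2 := by ring
          exact Nat.le_of_mul_le_mul_left h4 hpr.pos
        have h5 : p ^ 2 ≤ Nat.card W := by
          calc p ^ 2 = p * p := by ring
            _ ≤ Nat.card W := h1
        exact le_antisymm h3 h5
      have hWab : ∀ a ∈ W, ∀ b ∈ W, a * b = b * a := by
        intro a ha b hb
        have h1 := comm_of_card_le_sq hWpg (le_of_eq hWcard) ⟨a, ha⟩ ⟨b, hb⟩
        exact congrArg Subtype.val h1
      have hNW : ∀ n ∈ Subgroup.normalizer (R : Set G), ∀ x ∈ W, n * x * n⁻¹ ∈ W := by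
        intro n hn x hx
        obtain ⟨hxE, hxc⟩ := (hW x).1 hx
        refine (hW _).2 ⟨hNE n hn x hxE, fun r hr' => ?_⟩
        have h1 : n⁻¹ * r * n ∈ R := by
          have h0 := (Subgroup.mem_normalizer_iff.1 (Subgroup.inv_mem _ hn) r).1 hr'
          rwa [inv_inv] at h0
        have h2 : ⁅r, n * x * n⁻¹⁆ = n * ⁅n⁻¹ * r * n, x⁆ * n⁻¹ := by
          simp only [commutatorElement_def]; group
        rw [h2]
        exact hNZ n hn _ (hxc _ h1)
      have hCEW : ∀ e ∈ E, (∀ v ∈ W, v * e = e * v) → e ∈ W := by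
        intro e he hev
        by_contra heW
        obtain ⟨F, hF⟩ : ∃ F : Subgroup G, F = Subgroup.closure ((W : Set G) ∪ {e}) := ⟨_, rfl⟩
        have hsub : ∀ g ∈ ((W : Set G) ∪ {e}), g ∈ E := by
          intro g hg
          rcases hg with hg | hg
          · exact hWE hg
          · rw [Set.mem_singleton_iff] at hg; rw [hg]; exact he
        have hFE : F ≤ E := by
          rw [hF, Subgroup.closure_le]
          exact hsub
        have hFc : ∀ a ∈ F, ∀ b ∈ F, a * b = b * a := by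
          rw [hF]
          apply rs_comm_closure
          intro a ha b hb
          rcases ha with ha | ha
          · rcases hb with hb | hb
            · exact hWab a ha b hb
            · rw [Set.mem_singleton_iff] at hb; rw [hb]; exact hev a ha
          · rw [Set.mem_singleton_iff] at ha
            rcases hb with hb | hb
            · rw [ha]; exact (hev b hb).symm
            · rw [Set.mem_singleton_iff] at hb; rw [ha, hb]
        have hWF : W ≤ F := by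
          rw [hF]
          exact fun z hz => Subgroup.subset_closure (Or.inl hz)
        have heF : e ∈ F := by
          rw [hF]
          exact Subgroup.subset_closure (Or.inr rfl)
        have h1 := ma_card_ge W F (hEpg.to_le hFE) hWF (fun h => heW (h heF))
        have h2 := hrkE F hFE hFc
        rw [hWcard] at h1
        have h3 : 0 < p ^ 2 := pow_pos hpr.pos 2
        have h4 : p * p ^ 2 ≤ p ^ 2 := le_trans h1 h2
        have h5 : 2 * p ^ 2 ≤ p * p ^ 2 := Nat.mul_le_mul_right _ hpr.two_le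
        omega
      obtain ⟨D, hDdef⟩ : ∃ D : Subgroup G, D = R ⊓ Subgroup.centralizer (W : Set G) :=
        ⟨_, rfl⟩
      have hDmem : ∀ d, d ∈ D ↔ (d ∈ R ∧ ∀ v ∈ W, v * d = d * v) := by
        intro d
        rw [hDdef, Subgroup.mem_inf]
        exact and_congr Iff.rfl Subgroup.mem_centralizer_iff
      have hDR : D ≤ R := fun d hd => ((hDmem d).1 hd).1
      have hDc : ∀ d ∈ D, ∀ v ∈ W, v * d = d * v := fun d hd => ((hDmem d).1 hd).2
      have hWD : W ≤ D := fun v hv =>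
        (hDmem v).2 ⟨hER (hWE hv), fun u hu => hWab u hu v hv⟩
      have hDE : ∀ d ∈ D, d ∈ E → d ∈ W := fun d hd hdE => hCEW d hdE (hDc d hd)
      have hCD : C ≤ D := fun c hc =>
        (hDmem c).2 ⟨hCR hc, fun v hv => hCc c hc v (hWE hv)⟩
      have hNDn : ∀ n ∈ Subgroup.normalizer (R : Set G), ∀ d ∈ D, n * d * n⁻¹ ∈ D := by
        intro n hn d hd
        refine (hDmem _).2 ⟨(Subgroup.mem_normalizer_iff.1 hn d).1 (hDR hd), fun v hv => ?_⟩
        have h1 : n⁻¹ * v * n ∈ W := by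
          have h0 := hNW n⁻¹ (Subgroup.inv_mem _ hn) v hv
          rwa [inv_inv] at h0
        have h2 := hDc d hd _ h1
        calc v * (n * d * n⁻¹) = n * (n⁻¹ * v * n * d) * n⁻¹ := by group
          _ = n * (d * (n⁻¹ * v * n)) * n⁻¹ := by rw [h2]
          _ = n * d * n⁻¹ * v := by group
      have hDpg : IsPGroup p D := hR.to_le hDR
      have hDmeta : Cfsg.IsMetacyclic ↥D := by
        have hO : Nat.card ↥(Cfsg.omegaOne p (⊤ : Subgroup ↥D)) ≤ p ^ 2 := by
          have h1 : Cfsg.omegaOne p (⊤ : Subgroup ↥D) ≤ W.subgroupOf D := by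
            show Subgroup.closure {x : ↥D | x ∈ (⊤ : Subgroup ↥D) ∧ x ^ p = 1} ≤ W.subgroupOf D
            rw [Subgroup.closure_le]
            rintro x ⟨-, hx⟩
            rw [SetLike.mem_coe, Subgroup.mem_subgroupOf]
            apply hDE _ x.2
            apply hEall _ (hDR x.2)
            simpa using congrArg Subtype.val hx
          have h2 : Nat.card (W.subgroupOf D) = Nat.card W :=
            Nat.card_congr (Subgroup.subgroupOfEquivOfLe hWD).toEquiv
          calc Nat.card ↥(Cfsg.omegaOne p (⊤ : Subgroup ↥D)) ≤ Nat.card (W.subgroupOf D) :=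
                Subgroup.card_le_of_le h1
            _ = Nat.card W := h2
            _ ≤ p ^ 2 := le_of_eq hWcard
        exact mc_main hp3 _ ↥D rfl hDpg hO
      have hAD : A ≤ Subgroup.normalizer (D : Set G) := by
        intro a ha
        rw [Subgroup.mem_normalizer_iff]
        intro d
        constructor
        · intro hd
          exact hNDn a (hA ha) d hd
        · intro hd
          have h0 := hNDn a⁻¹ (Subgroup.inv_mem _ (hA ha)) _ hd
          have h2 : a⁻¹ * (a * d * a⁻¹) * a⁻¹⁻¹ = d := by group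
          rwa [h2] at h0
      obtain ⟨K, hKdef⟩ : ∃ K : Subgroup G, K = ⁅D, A⁆ := ⟨_, rfl⟩
      have hKab : ∀ a ∈ K, ∀ b ∈ K, a * b = b * a := by
        have h1 := (Cfsg.Agent.S1447.result p hp D A hDpg hDmeta hAD hcop).1
        rw [← hKdef] at h1
        intro a ha b hb
        exact congrArg Subtype.val (h1.is_comm.comm ⟨a, ha⟩ ⟨b, hb⟩)
      have hKD : K ≤ D := by
        rw [hKdef]
        exact Cfsg.Agent.Helper1.commutator_le_of_le_normalizer D A hAD
      have hWdec : ∀ v ∈ W, ∃ i : ℕ, ∃ u ∈ Z, v = w ^ i * u := by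
        have hc : Nat.card W ≤ p * Nat.card Z := by
          rw [hWcard, hZcard]; exact le_of_eq (by ring)
        exact rs_decomp Z W hWpg hZW hc w hwW hwZ
          (fun u hu v hv => by rw [hZconj u hu v (hWE hv)]; exact hu)
      have hcentw : ∀ g : G, g * w = w * g → (∀ z ∈ Z, z * g = g * z) →
          ∀ v ∈ W, v * g = g * v := by
        intro g hgw hgZ v hv
        obtain ⟨i, u, hu, rfl⟩ := hWdec v hv
        have h1 : Commute g (w ^ i) := (show Commute g w from hgw).pow_right i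
        have h2 : Commute g u := (hgZ u hu).symm
        exact ((h1.mul_right h2).eq).symm
      have he₁w : ⁅e₁, w⁆ ≠ 1 := by
        intro h
        rw [commutatorElement_eq_one_iff_mul_comm] at h
        exact he₁W (hCEW e₁ he₁ (hcentw e₁ h (fun z hz => (hZc z hz e₁ he₁).symm)))
      have hdecED : ∀ r ∈ R, ∃ e ∈ E, ∃ d ∈ D, r = e * d := by
        intro r hr'
        have hc₁ : ⁅e₁, w⁆ ∈ Z := hcomm e₁ he₁ w hwE
        obtain ⟨i, hi⟩ := rs_gen_prime Z hZcard ⁅e₁, w⁆ hc₁ he₁w ⁅r, w⁆ (hwc r hr')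
        have h1 : e₁ ^ i * w * (e₁ ^ i)⁻¹ = ⁅e₁, w⁆ ^ i * w := by
          apply rs_conj_pow
          · simp only [commutatorElement_def]; group
          · exact hZc _ hc₁ e₁ he₁
        rw [hi] at h1
        have h2 : ⁅r, w⁆ * w = r * w * r⁻¹ := by
          simp only [commutatorElement_def]; group
        rw [h2] at h1
        have hdR : (e₁ ^ i)⁻¹ * r ∈ R := R.mul_mem (R.inv_mem (R.pow_mem (hER he₁) i)) hr'
        refine ⟨e₁ ^ i, E.pow_mem he₁ i, (e₁ ^ i)⁻¹ * r, ?_, by group⟩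
        refine (hDmem _).2 ⟨hdR, hcentw _ ?_ ?_⟩
        · have h3 : r * w = e₁ ^ i * w * (e₁ ^ i)⁻¹ * r := by rw [h1]; group
          rw [mul_assoc, h3]; group
        · intro z hz
          exact (hZRc z hz _ hdR).symm
      have hRE : ∀ r ∈ R, ∀ e ∈ E, r * e * r⁻¹ ∈ E := fun r hr' => hNE r (hRN hr')
      have hRE' : ∀ r ∈ R, ∀ e ∈ E, r⁻¹ * e * r ∈ E := fun r hr' => hNinv r (hRN hr')
      have hKR : K ≤ R := hKD.trans hDR
      obtain ⟨M, hM⟩ : ∃ M : Subgroup G, ∀ x, x ∈ M ↔ ∃ k ∈ K, ∃ e ∈ E, x = k * e := by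
        refine ⟨{ carrier := {x | ∃ k ∈ K, ∃ e ∈ E, x = k * e}, mul_mem' := ?_, one_mem' := ?_, inv_mem' := ?_ }, fun x => Iff.rfl⟩
        · rintro a b ⟨k, hk, e, he, rfl⟩ ⟨k', hk', e', he', rfl⟩
          exact ⟨k * k', K.mul_mem hk hk', k'⁻¹ * e * k' * e',
            E.mul_mem (hRE' k' (hKR hk') e he) he', by group⟩
        · exact ⟨1, K.one_mem, 1, E.one_mem, by simp⟩
        · rintro a ⟨k, hk, e, he, rfl⟩
          exact ⟨k⁻¹, K.inv_mem hk, k * e⁻¹ * k⁻¹, hRE k (hKR hk) _ (E.inv_mem he), by group⟩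
      have hRM : R ≤ M := by
        rw [← hRA, Subgroup.commutator_le]
        intro r hr' a ha
        obtain ⟨e, he, d, hd, rfl⟩ := hdecED r hr'
        have hk : ⁅d, a⁆ ∈ K := by
          rw [hKdef]; exact Subgroup.commutator_mem_commutator hd ha
        have he'' : a * e⁻¹ * a⁻¹ ∈ E := hNE a (hA ha) _ (E.inv_mem he)
        refine (hM _).2 ⟨⁅d, a⁆, hk, ⁅d, a⁆⁻¹ * e * ⁅d, a⁆ * (a * e⁻¹ * a⁻¹),
          E.mul_mem (hRE' _ (hKR hk) e he) he'', ?_⟩
        simp only [commutatorElement_def]; group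
      have hDdec : ∀ d ∈ D, ∃ k ∈ K, ∃ v ∈ W, d = k * v := by
        intro d hd
        obtain ⟨k, hk, e, he, rfl⟩ := (hM d).1 (hRM (hDR hd))
        have heD : e ∈ D := by
          have h0 := D.mul_mem (D.inv_mem (hKD hk)) hd
          rwa [inv_mul_cancel_left] at h0
        exact ⟨k, hk, e, hDE e heD he, rfl⟩
      have hDab : ∀ a ∈ D, ∀ b ∈ D, a * b = b * a := by
        intro a ha b hb
        obtain ⟨k, hk, v, hv, rfl⟩ := hDdec a ha
        obtain ⟨k', hk', v', hv', rfl⟩ := hDdec b hb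
        have h1 : Commute k k' := hKab k hk k' hk'
        have h2 : Commute k v' := (hDc k (hKD hk) v' hv').symm
        have h3 : Commute v k' := hDc k' (hKD hk') v hv
        have h4 : Commute v v' := hWab v hv v' hv'
        exact ((h1.mul_right h2).mul_left (h3.mul_right h4)).eq
      have hEdec : ∀ e ∈ E, ∃ i : ℕ, ∃ v ∈ W, e = e₁ ^ i * v := by
        have hc : Nat.card E ≤ p * Nat.card W := by
          rw [hWcard, hE3]; exact le_of_eq (by ring)
        exact rs_decomp W E hEpg hWE hc e₁ he₁ he₁W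
          (fun u hu v hv => hNW v (hRN (hER hv)) u hu)
      have hdeW : ∀ d ∈ D, ∀ e ∈ E, ⁅d, e⁆ ∈ W := by
        intro d hd e he
        apply hDE
        · have h1 : ⁅d, e⁆ = d * (e * d⁻¹ * e⁻¹) := by
            simp only [commutatorElement_def]; group
          rw [h1]
          exact D.mul_mem hd (hNDn e (hRN (hER he)) _ (D.inv_mem hd))
        · rw [commutatorElement_def]
          exact E.mul_mem (hRE d (hDR hd) e he) (E.inv_mem he)
      have hcentE : ∀ g : G, g * e₁ = e₁ * g → (∀ v ∈ W, v * g = g * v) →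
          ∀ e ∈ E, e * g = g * e := by
        intro g hg1 hgW e he
        obtain ⟨i, v, hv, rfl⟩ := hEdec e he
        have h1 : Commute g (e₁ ^ i) := (show Commute g e₁ from hg1).pow_right i
        have h2 : Commute g v := (hgW v hv).symm
        exact ((h1.mul_right h2).eq).symm
      have hWZ : ∀ u ∈ W, ⁅u, e₁⁆ = 1 → u ∈ Z := by
        intro u hu h
        rw [commutatorElement_eq_one_iff_mul_comm] at h
        exact hZin u (hWE hu) (hcentE u h (fun v hv => hWab v hv u hu))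
      have hPA : ∀ d ∈ D, ∀ n : ℕ, ∃ z ∈ Z, ⁅d, e₁ ^ n⁆ = ⁅d, e₁⁆ ^ n * z := by
        intro d hd n
        induction n with
        | zero =>
          exact ⟨1, Z.one_mem, by rw [pow_zero, pow_zero, commutatorElement_one_right, mul_one]⟩
        | succ n ih =>
          obtain ⟨z, hz, hzeq⟩ := ih
          have huW : ⁅d, e₁⁆ ∈ W := hdeW d hd e₁ he₁
          have huE : ⁅d, e₁⁆ ∈ E := hWE huW
          have hz' : ⁅e₁ ^ n, ⁅d, e₁⁆⁆ ∈ Z := hcomm _ (E.pow_mem he₁ n) _ huE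
          refine ⟨z * ⁅e₁ ^ n, ⁅d, e₁⁆⁆, Z.mul_mem hz hz', ?_⟩
          have h1 : ⁅d, e₁ ^ (n + 1)⁆ = ⁅d, e₁ ^ n⁆ * (⁅e₁ ^ n, ⁅d, e₁⁆⁆ * ⁅d, e₁⁆) := by
            rw [pow_succ]
            simp only [commutatorElement_def]; group
          rw [h1, hzeq]
          have h2 : Commute (z * ⁅e₁ ^ n, ⁅d, e₁⁆⁆) ⁅d, e₁⁆ :=
            (hZc _ (Z.mul_mem hz hz') _ huE).symm
          exact rs_arith1 _ _ _ n h2
      obtain ⟨Δ, hΔ⟩ : ∃ Δ : G → G, ∀ d, Δ d = ⁅⁅d, e₁⁆, e₁⁆ :=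
        ⟨fun d => ⁅⁅d, e₁⁆, e₁⁆, fun d => rfl⟩
      have hΔZ : ∀ d ∈ D, Δ d ∈ Z := by
        intro d hd
        rw [hΔ]
        exact hcomm _ (hWE (hdeW d hd e₁ he₁)) e₁ he₁
      have hΦmul : ∀ d ∈ D, ∀ d' ∈ D, ⁅d * d', e₁⁆ = ⁅d, e₁⁆ * ⁅d', e₁⁆ := by
        intro d hd d' hd'
        have h : ⁅d * d', e₁⁆ = (d * ⁅d', e₁⁆ * d⁻¹) * ⁅d, e₁⁆ := by
          simp only [commutatorElement_def]; group
        have h2 : d * ⁅d', e₁⁆ * d⁻¹ = ⁅d', e₁⁆ := by
          rw [← hDc d hd _ (hdeW d' hd' e₁ he₁), mul_inv_cancel_right]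
        rw [h, h2]
        exact hWab _ (hdeW d' hd' e₁ he₁) _ (hdeW d hd e₁ he₁)
      have hΔmul : ∀ d ∈ D, ∀ d' ∈ D, Δ (d * d') = Δ d * Δ d' := by
        intro d hd d' hd'
        simp only [hΔ]
        rw [hΦmul d hd d' hd',
          hb2 _ (hWE (hdeW d hd e₁ he₁)) _ (hWE (hdeW d' hd' e₁ he₁)) e₁ he₁]
      have hΔpow : ∀ d ∈ D, ∀ n : ℕ, Δ (d ^ n) = Δ d ^ n := by
        intro d hd n
        induction n with
        | zero =>
          rw [pow_zero, pow_zero, hΔ, commutatorElement_one_left, commutatorElement_one_left]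
        | succ n ih => rw [pow_succ, hΔmul _ (D.pow_mem hd n) d hd, ih, pow_succ]
      have hΔW : ∀ v ∈ W, Δ v = 1 := by
        intro v hv
        rw [hΔ, commutatorElement_eq_one_iff_mul_comm]
        exact (hZc _ (hcomm v (hWE hv) e₁ he₁) e₁ he₁).symm
      have hΔC : ∀ c ∈ C, Δ c = 1 := by
        intro c hc
        have h1 : ⁅c, e₁⁆ = 1 := by
          rw [commutatorElement_eq_one_iff_mul_comm]; exact (hCc c hc e₁ he₁).symm
        rw [hΔ, h1, commutatorElement_one_left]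
      have hP2 : ∀ a ∈ A, ∀ β : ℕ, ∀ v ∈ W, a * e₁ * a⁻¹ = e₁ ^ β * v → ∀ d ∈ D,
          a * Δ d * a⁻¹ = Δ (a * d * a⁻¹) ^ (β * β) := by
        intro a ha β v hv hβ d hd
        simp only [hΔ]
        have hd' : a * d * a⁻¹ ∈ D := hNDn a (hA ha) d hd
        have hconj : a * ⁅⁅d, e₁⁆, e₁⁆ * a⁻¹ =
            ⁅⁅a * d * a⁻¹, a * e₁ * a⁻¹⁆, a * e₁ * a⁻¹⁆ := by
          simp only [commutatorElement_def]; group
        rw [hconj, hβ]
        obtain ⟨d', hd'def⟩ : ∃ d', d' = a * d * a⁻¹ := ⟨_, rfl⟩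
        rw [← hd'def] at hd' ⊢
        have hvE : v ∈ E := hWE hv
        have hfE : e₁ ^ β * v ∈ E := E.mul_mem (E.pow_mem he₁ β) hvE
        have huW : ⁅d', e₁⁆ ∈ W := hdeW d' hd' e₁ he₁
        have huE : ⁅d', e₁⁆ ∈ E := hWE huW
        have hdv : ⁅d', v⁆ = 1 := by
          rw [commutatorElement_eq_one_iff_mul_comm]; exact (hDc d' hd' v hv).symm
        have s1 : ⁅d', e₁ ^ β * v⁆ = ⁅d', e₁ ^ β⁆ := by
          have h : ⁅d', e₁ ^ β * v⁆ = ⁅d', e₁ ^ β⁆ * (e₁ ^ β * ⁅d', v⁆ * (e₁ ^ β)⁻¹) := by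
            simp only [commutatorElement_def]; group
          rw [h, hdv, mul_one, mul_inv_cancel, mul_one]
        obtain ⟨z, hz, hzeq⟩ := hPA d' hd' β
        have hzf : ⁅z, e₁ ^ β * v⁆ = 1 := by
          rw [commutatorElement_eq_one_iff_mul_comm]; exact (hZc z hz _ hfE).symm
        have huv : ⁅⁅d', e₁⁆ ^ β, v⁆ = 1 := by
          rw [commutatorElement_eq_one_iff_mul_comm]; exact hWab _ (W.pow_mem huW β) v hv
        rw [s1, hzeq, hb2 _ (E.pow_mem huE β) z (hZE hz) _ hfE, hzf, mul_one,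
          hb1 _ (E.pow_mem huE β) _ (E.pow_mem he₁ β) v hvE, huv, mul_one,
          hb4 _ huE _ (E.pow_mem he₁ β) β, hb3 _ huE e₁ he₁ β, ← pow_mul]
      have hexd : ∃ d₁ ∈ D, Δ d₁ ≠ 1 := by
        obtain ⟨e, he, d, hd, hrd⟩ := hdecED r₁ hr₁
        refine ⟨d, hd, fun h => ?_⟩
        rw [hΔ] at h
        have huZ : ⁅d, e₁⁆ ∈ Z := hWZ _ (hdeW d hd e₁ he₁) h
        apply hre₁
        have h1 : ⁅r₁, e₁⁆ = (e * ⁅d, e₁⁆ * e⁻¹) * ⁅e, e₁⁆ := by
          rw [hrd]; simp only [commutatorElement_def]; group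
        rw [h1, hZconj _ huZ e he]
        exact Z.mul_mem huZ (hcomm e he e₁ he₁)
      have hker : ∀ d ∈ D, Δ d = 1 → ∃ v ∈ W, ∃ c ∈ C, d = v * c := by
        intro d hd h
        rw [hΔ] at h
        have h1 : ⁅d, e₁⁆ ∈ Z := hWZ _ (hdeW d hd e₁ he₁) h
        have h2 : ⁅d, w⁆ ∈ Z := by
          have h0 : ⁅d, w⁆ = 1 := by
            rw [commutatorElement_eq_one_iff_mul_comm]; exact (hDc d hd w hwW).symm
          rw [h0]; exact Z.one_mem
        obtain ⟨e, he, hec⟩ :=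
          rs_inner E Z hEpg hE3 hZE hZcard hZc hcomm e₁ w he₁ hwE he₁w d h1 h2
        have hcC : e⁻¹ * d ∈ C :=
          (hCmem _).2 ⟨R.mul_mem (R.inv_mem (hER he)) (hDR hd),
            fun e' he' => (hec e' he').symm⟩
        have heD : e ∈ D := by
          have h0 := D.mul_mem hd (D.inv_mem (hCD hcC))
          have h3 : d * (e⁻¹ * d)⁻¹ = e := by group
          rwa [h3] at h0
        exact ⟨e, hDE e heD he, e⁻¹ * d, hcC, by group⟩
      obtain ⟨N, hN⟩ : ∃ N, N = Nat.card C := ⟨_, rfl⟩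
      obtain ⟨s, hs⟩ : ∃ s : ℕ, N = p ^ (s + 1) := by
        obtain ⟨k, hk⟩ := IsPGroup.iff_card.1 hCpg
        have hk0 : k ≠ 0 := by
          intro h0
          rw [h0, pow_zero] at hk
          have h1 := Subgroup.card_le_of_le hZC
          rw [hZcard, hk] at h1
          omega
        refine ⟨k - 1, ?_⟩
        have h2 : k - 1 + 1 = k := by omega
        rw [hN, hk, h2]
      have hCN : ∀ c ∈ C, c ^ N = 1 := fun c hc => oq_pow_card C N hN.symm c hc
      have hDpC : ∀ d ∈ D, d ^ p ∈ C := by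
        intro d hd
        have huW : ⁅d, e₁⁆ ∈ W := hdeW d hd e₁ he₁
        have h1 : d ^ p * e₁ * (d ^ p)⁻¹ = ⁅d, e₁⁆ ^ p * e₁ := by
          apply rs_conj_pow
          · simp only [commutatorElement_def]; group
          · exact (hDc d hd _ huW).symm
        rw [hEexp _ (hWE huW), one_mul] at h1
        have h2 : d ^ p * e₁ = e₁ * d ^ p := by
          calc d ^ p * e₁ = d ^ p * e₁ * (d ^ p)⁻¹ * d ^ p := by group
            _ = e₁ * d ^ p := by rw [h1]
        exact (hCmem _).2 ⟨R.pow_mem (hDR hd) p, hcentE _ h2 (hDc _ (D.pow_mem hd p))⟩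
      have hpowN : ∀ x : G, x ^ p = 1 → x ^ N = 1 := by
        intro x hx
        rw [hs, pow_succ, mul_comm, pow_mul, hx, one_pow]
      have hΨker : ∀ v ∈ W, ∀ c ∈ C, (v * c) ^ N = 1 := by
        intro v hv c hc
        have h1 : Commute v c := hCc c hc v (hWE hv)
        rw [h1.mul_pow, hpowN v (hEexp v (hWE hv)), hCN c hc, one_mul]
      have hΨZ : ∀ d ∈ D, d ^ N ∈ Z := by
        intro d hd
        have h1 : d ^ N = (d ^ p) ^ (p ^ s) := by
          rw [hs, pow_succ, mul_comm, pow_mul]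
        rw [h1]
        apply hCord _ (C.pow_mem (hDpC d hd) _)
        rw [← pow_mul, ← pow_succ, ← hs]
        exact hCN _ (hDpC d hd)
      obtain ⟨d₁, hd₁, hΔd₁⟩ := hexd
      have hΨd₁ : d₁ ^ N ≠ 1 := by
        intro h
        have hg : (d₁ ^ p) ^ (p ^ s) = 1 := by
          rw [← pow_mul, ← pow_succ', ← hs]; exact h
        obtain ⟨c, hc, hceq⟩ :=
          rs_cyc_pow C hCcyc s (by rw [← hN]; exact hs) (d₁ ^ p) (hDpC d₁ hd₁) hg
        have hcD : c ∈ D := hCD hc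
        have hcomm1 : Commute d₁ c⁻¹ := hDab d₁ hd₁ c⁻¹ (D.inv_mem hcD)
        have hv : (d₁ * c⁻¹) ^ p = 1 := by
          rw [hcomm1.mul_pow, hceq, inv_pow, mul_inv_cancel]
        have hvD : d₁ * c⁻¹ ∈ D := D.mul_mem hd₁ (D.inv_mem hcD)
        have hvW : d₁ * c⁻¹ ∈ W := hDE _ hvD (hEall _ (hDR hvD) hv)
        apply hΔd₁
        have h2 : d₁ = (d₁ * c⁻¹) * c := by group
        have h3 : Δ ((d₁ * c⁻¹) * c) = 1 := by
          rw [hΔmul _ hvD c hcD, hΔW _ hvW, hΔC c hc, one_mul]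
        rw [← h2] at h3
        exact h3
      have hΨeq : ∀ d ∈ D, ∀ d' ∈ D, Δ d = Δ d' → d ^ N = d' ^ N := by
        intro d hd d' hd' h
        have hd'p : d' ^ (p - 1) ∈ D := D.pow_mem hd' _
        have hp1 : p - 1 + 1 = p := by omega
        have h1 : Δ (d * d' ^ (p - 1)) = 1 := by
          rw [hΔmul d hd _ hd'p, hΔpow d' hd', h, ← pow_succ', hp1]
          exact hZp _ (hΔZ d' hd')
        obtain ⟨v, hv, c, hc, hvc⟩ := hker _ (D.mul_mem hd hd'p) h1
        have h3 : (d * d' ^ (p - 1)) ^ N = 1 := by rw [hvc]; exact hΨker v hv c hc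
        have hcm : Commute d (d' ^ (p - 1)) := hDab d hd _ hd'p
        rw [hcm.mul_pow] at h3
        have h4 : (d' ^ (p - 1)) ^ N * d' ^ N = 1 := by
          rw [← pow_mul, ← pow_add]
          have h5 : (p - 1) * N + N = N * p := by
            calc (p - 1) * N + N = (p - 1 + 1) * N := by ring
              _ = N * p := by rw [hp1, mul_comm]
          rw [h5, pow_mul]
          exact hZp _ (hΨZ d' hd')
        calc d ^ N = d ^ N * ((d' ^ (p - 1)) ^ N * d' ^ N) := by rw [h4, mul_one]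
          _ = (d ^ N * (d' ^ (p - 1)) ^ N) * d' ^ N := by rw [mul_assoc]
          _ = d' ^ N := by rw [h3, one_mul]
      have hz₁Z : Δ d₁ ∈ Z := hΔZ d₁ hd₁
      obtain ⟨m, hm⟩ := rs_gen_prime Z hZcard (Δ d₁) hz₁Z hΔd₁ (d₁ ^ N) (hΨZ d₁ hd₁)
      have hmcop : Nat.Coprime m p := by
        apply Nat.Coprime.symm
        rw [Nat.Prime.coprime_iff_not_dvd hpr]
        rintro ⟨t, rfl⟩
        apply hΨd₁
        rw [← hm, pow_mul, hZp _ hz₁Z, one_pow]
      have hEquiv : ∀ a ∈ A, Δ (a * d₁ * a⁻¹) = a * Δ d₁ * a⁻¹ := by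
        intro a ha
        have hd₂ : a * d₁ * a⁻¹ ∈ D := hNDn a (hA ha) d₁ hd₁
        have hX : a * Δ d₁ * a⁻¹ ∈ Z := hNZ a (hA ha) _ hz₁Z
        have hY : Δ (a * d₁ * a⁻¹) ∈ Z := hΔZ _ hd₂
        obtain ⟨i, hi⟩ := rs_gen_prime Z hZcard (Δ d₁) hz₁Z hΔd₁ _ hY
        have h1 : (a * d₁ * a⁻¹) ^ N = (d₁ ^ i) ^ N := by
          apply hΨeq _ hd₂ _ (D.pow_mem hd₁ i)
          rw [hΔpow d₁ hd₁, hi]
        apply rs_root _ _ (hZp _ hY) (hZp _ hX) m hmcop
        calc Δ (a * d₁ * a⁻¹) ^ m = (Δ d₁ ^ i) ^ m := by rw [hi]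
          _ = (Δ d₁ ^ m) ^ i := by rw [← pow_mul, ← pow_mul, mul_comm]
          _ = (d₁ ^ N) ^ i := by rw [hm]
          _ = (d₁ ^ i) ^ N := by rw [← pow_mul, ← pow_mul, mul_comm]
          _ = (a * d₁ * a⁻¹) ^ N := h1.symm
          _ = a * d₁ ^ N * a⁻¹ := conj_pow
          _ = a * Δ d₁ ^ m * a⁻¹ := by rw [hm]
          _ = (a * Δ d₁ * a⁻¹) ^ m := conj_pow.symm
      have he₁ne : e₁ ≠ 1 := fun h => he₁W (by rw [h]; exact W.one_mem)
      have he₁ord : orderOf e₁ = p := orderOf_eq_prime (hEexp e₁ he₁) he₁ne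
      have hstep1 : ∀ a ∈ A, e₁⁻¹ * (a * e₁ * a⁻¹) ∈ W ∨ e₁ * (a * e₁ * a⁻¹) ∈ W := by
        intro a ha
        obtain ⟨β, v, hv, hβ⟩ := hEdec _ (hNE a (hA ha) e₁ he₁)
        have h1 := hP2 a ha β v hv hβ d₁ hd₁
        rw [hEquiv a ha] at h1
        have hXne : a * Δ d₁ * a⁻¹ ≠ 1 := by
          intro h
          apply hΔd₁
          calc Δ d₁ = a⁻¹ * (a * Δ d₁ * a⁻¹) * a := by group
            _ = 1 := by rw [h, mul_one, inv_mul_cancel]
        have hXord : orderOf (a * Δ d₁ * a⁻¹) = p :=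
          orderOf_eq_prime (hZp _ (hNZ a (hA ha) _ hz₁Z)) hXne
        have h3 : (a * Δ d₁ * a⁻¹) ^ (β * β) = (a * Δ d₁ * a⁻¹) ^ 1 := by
          rw [pow_one]; exact h1.symm
        have h4 : β * β ≡ 1 [MOD p] := by
          have h0 := pow_eq_pow_iff_modEq.1 h3
          rwa [hXord] at h0
        have h5 : ((β : ZMod p)) * (β : ZMod p) = 1 := by
          have h0 := (ZMod.natCast_eq_natCast_iff (β * β) 1 p).2 h4
          push_cast at h0
          exact h0
        rcases mul_self_eq_one_iff.1 h5 with h6 | h6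
        · left
          have h7 : β ≡ 1 [MOD p] := by
            apply (ZMod.natCast_eq_natCast_iff β 1 p).1
            rw [h6, Nat.cast_one]
          have h8 : e₁ ^ β = e₁ ^ 1 := by
            apply pow_eq_pow_iff_modEq.2
            rw [he₁ord]; exact h7
          rw [hβ, h8, pow_one, inv_mul_cancel_left]
          exact hv
        · right
          have h7 : β + 1 ≡ 0 [MOD p] := by
            apply (ZMod.natCast_eq_natCast_iff (β + 1) 0 p).1
            rw [Nat.cast_add, Nat.cast_one, Nat.cast_zero, h6, neg_add_cancel]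
          have h8 : e₁ ^ (β + 1) = e₁ ^ 0 := by
            apply pow_eq_pow_iff_modEq.2
            rw [he₁ord]; exact h7
          rw [hβ, ← mul_assoc, ← pow_succ', h8, pow_zero, one_mul]
          exact hv
      have hWn : ∀ e ∈ E, ∀ v ∈ W, e * v * e⁻¹ ∈ W := fun e he v hv =>
        hNW e (hRN (hER he)) v hv
      have hstep2 : ∀ a ∈ A, e₁⁻¹ * ((a * a) * e₁ * (a * a)⁻¹) ∈ W := by
        intro a ha
        rcases hstep1 a ha with h | h
        · have hv' : a * (e₁⁻¹ * (a * e₁ * a⁻¹)) * a⁻¹ ∈ W := hNW a (hA ha) _ h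
          have h1 : e₁⁻¹ * ((a * a) * e₁ * (a * a)⁻¹) =
              (e₁⁻¹ * (a * e₁ * a⁻¹)) * (a * (e₁⁻¹ * (a * e₁ * a⁻¹)) * a⁻¹) := by group
          rw [h1]; exact W.mul_mem h hv'
        · have hv' : a * (e₁ * (a * e₁ * a⁻¹)) * a⁻¹ ∈ W := hNW a (hA ha) _ h
          have hv'' : e₁⁻¹ * (e₁ * (a * e₁ * a⁻¹))⁻¹ * e₁⁻¹⁻¹ ∈ W :=
            hWn e₁⁻¹ (E.inv_mem he₁) _ (W.inv_mem h)
          have h1 : e₁⁻¹ * ((a * a) * e₁ * (a * a)⁻¹) =
              (e₁⁻¹ * (e₁ * (a * e₁ * a⁻¹))⁻¹ * e₁⁻¹⁻¹) *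
                (a * (e₁ * (a * e₁ * a⁻¹)) * a⁻¹) := by group
          rw [h1]; exact W.mul_mem hv'' hv'
      have hstep3 : ∀ a ∈ A, e₁⁻¹ * (a * e₁ * a⁻¹) ∈ W := by
        intro a ha
        obtain ⟨k, hk⟩ := hAodd
        have h1 : a ^ (2 * k + 1) = 1 := oq_pow_card A _ hk a ha
        have h2 : a = a ^ (k + 1) * a ^ (k + 1) := by
          have h4 : k + 1 + (k + 1) = (2 * k + 1) + 1 := by omega
          rw [← pow_add, h4, pow_succ, h1, one_mul]
        have h3 := hstep2 (a ^ (k + 1)) (A.pow_mem ha _)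
        rw [← h2] at h3
        exact h3
      have hcomD : ∀ r ∈ R, ∀ s ∈ R, ∀ a : G, ⁅r, a⁆ ∈ D → ⁅s, a⁆ ∈ D → ⁅r * s, a⁆ ∈ D := by
        intro r hr' s hs' a h1 h2
        have h : ⁅r * s, a⁆ = (r * ⁅s, a⁆ * r⁻¹) * ⁅r, a⁆ := by
          simp only [commutatorElement_def]; group
        rw [h]
        exact D.mul_mem (hNDn r (hRN hr') _ h2) h1
      have he₁a : ∀ a ∈ A, ⁅e₁, a⁆ ∈ D := by
        intro a ha
        have h1 := hstep3 a ha
        have h2 : ⁅e₁, a⁆ = e₁ * (e₁⁻¹ * (a * e₁ * a⁻¹))⁻¹ * e₁⁻¹ := by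
          simp only [commutatorElement_def]; group
        rw [h2]
        exact hWD (hWn e₁ he₁ _ (W.inv_mem h1))
      have hpowa : ∀ a ∈ A, ∀ i : ℕ, ⁅e₁ ^ i, a⁆ ∈ D := by
        intro a ha i
        induction i with
        | zero => rw [pow_zero, commutatorElement_one_left]; exact D.one_mem
        | succ i ih =>
          rw [pow_succ]
          exact hcomD _ (R.pow_mem (hER he₁) i) e₁ (hER he₁) a ih (he₁a a ha)
      have hda : ∀ d ∈ D, ∀ a ∈ A, ⁅d, a⁆ ∈ D := by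
        intro d hd a ha
        have h : ⁅d, a⁆ = d * (a * d⁻¹ * a⁻¹) := by
          simp only [commutatorElement_def]; group
        rw [h]
        exact D.mul_mem hd (hNDn a (hA ha) _ (D.inv_mem hd))
      have hfin : R ≤ D := by
        rw [← hRA, Subgroup.commutator_le]
        intro r hr' a ha
        obtain ⟨e, he, d, hd, rfl⟩ := hdecED r hr'
        obtain ⟨i, v, hv, rfl⟩ := hEdec e he
        have h1 : ⁅e₁ ^ i * v, a⁆ ∈ D :=
          hcomD _ (R.pow_mem (hER he₁) i) v (hER (hWE hv)) a (hpowa a ha i)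
            (hda v (hWD hv) a ha)
        exact hcomD _ (hER he) d (hDR hd) a h1 (hda d hd a ha)
      exact he₁W (hDE e₁ (hfin (hER he₁)) he₁)
    have hdecR : ∀ r ∈ R, ∃ e ∈ E, ∃ c ∈ C, r = e * c := by
      intro r hr'
      obtain ⟨e, he, hec⟩ := rs_inner E Z hEpg hE3 hZE hZcard hZc hcomm x₀ y₀ hx₀ hy₀ hxy₀ r
        (hkey r hr' x₀ hx₀) (hkey r hr' y₀ hy₀)
      exact ⟨e, he, e⁻¹ * r,
        (hCmem _).2 ⟨R.mul_mem (R.inv_mem (hER he)) hr', fun e' he' => (hec e' he').symm⟩,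
        by group⟩
    refine ⟨E, C, ?_, ?_, ?_, hE3, ?_, hCcyc, ?_⟩
    · apply le_antisymm (sup_le hER hCR)
      intro r hr'
      obtain ⟨e, he, c, hc, rfl⟩ := hdecR r hr'
      exact Subgroup.mul_mem_sup he hc
    · exact fun a ha b hb => hCc b hb a ha
    · intro h
      exact hxy₀ (commutatorElement_eq_one_iff_mul_comm.2
        (congrArg Subtype.val (h.is_comm.comm ⟨x₀, hx₀⟩ ⟨y₀, hy₀⟩)))
    · have h1 : Monoid.exponent ↥E ∣ p := by
        apply Monoid.exponent_dvd_of_forall_pow_eq_one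
        intro g
        exact Subtype.ext (by simpa using hEexp g.1 g.2)
      rcases (Nat.dvd_prime hpr).1 h1 with h2 | h2
      · exfalso
        rw [Monoid.exp_eq_one_iff] at h2
        haveI := h2
        have h3 : (⟨x₀, hx₀⟩ : ↥E) = 1 := Subsingleton.elim _ _
        have h4 : x₀ = 1 := congrArg Subtype.val h3
        apply hxy₀
        rw [h4, commutatorElement_one_left]
      · exact h2
    · apply le_antisymm
      · rw [Subgroup.closure_le]
        rintro x ⟨hxC, hxp⟩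
        have hxZ : x ∈ Z := hCord x hxC hxp
        obtain ⟨i, hi⟩ := rs_gen_prime Z hZcard ⁅x₀, y₀⁆ (hcomm x₀ hx₀ y₀ hy₀) hxy₀ x hxZ
        rw [SetLike.mem_coe, ← hi]
        exact Subgroup.pow_mem _ (Subgroup.commutator_mem_commutator hx₀ hy₀) i
      · rw [Subgroup.commutator_le]
        intro a ha b hb
        have hz : ⁅a, b⁆ ∈ Z := hcomm a ha b hb
        exact Subgroup.subset_closure ⟨hZC hz, hZp _ hz⟩

end Cfsg.Agent.Helper11
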