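import Cfsg.Agent.Helper11.TGolay2
import Cfsg.Agent.S1593

set_option autoImplicit false
set_option linter.unnecessarySeqFocus false
set_option linter.constructorNameAsVariable false
set_option linter.style.haveILetI false
set_option linter.unusedSimpArgs false

namespace Cfsg.Agent.Helper11

open Cfsg

open scoped Pointwise

/-! ### concrete data -/

/-- point of the array with index `k` -/
def tgPt (k : ℕ) : ArrayPt :=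
  ((⟨k / 3 % 4, Nat.mod_lt _ (by decide)⟩ : Fin 4),
    ((⟨k % 3, Nat.mod_lt _ (by decide)⟩ : Fin 3) : ZMod 3))

/-- index of a point of the array -/
def tgIdx (p : ArrayPt) : ℕ := 3 * p.1.val + p.2.val

/-- a map of the array given by a list of images -/
def tgF (l : List ℕ) (p : ArrayPt) : ArrayPt := tgPt (l.getD (tgIdx p) 0)

/-- a sign vector given by a list -/
def tgCv (l : List ℕ) (p : ArrayPt) : ZMod 3 := if l.getD (tgIdx p) 0 = 1 then 1 else 2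

/-- element of `ZMod 3` from its code -/
def tgZ (n : ℕ) : ZMod 3 := if n = 1 then 1 else if n = 2 then 2 else 0

/-- the systematic basis of the ternary Golay code -/
def tgBL : List (List ℕ) := [
  [1, 0, 0, 0, 0, 1, 0, 0, 1, 1, 1, 2], [0, 1, 0, 0, 0, 1, 0, 2, 2, 2, 0, 2],
  [0, 0, 1, 0, 0, 1, 0, 1, 0, 2, 1, 1], [0, 0, 0, 1, 0, 2, 0, 2, 1, 2, 1, 0],
  [0, 0, 0, 0, 1, 2, 0, 1, 2, 0, 1, 2], [0, 0, 0, 0, 0, 0, 1, 1, 1, 2, 2, 2]]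

/-- entry of the basis -/
def tgBN (j k : ℕ) : ℕ := (tgBL.getD j []).getD k 0

/-- unit parameter vectors -/
def tgE : Fin 6 → TGP :=
  ![(1, 0, 0, 0, 0, 0), (0, 1, 0, 0, 0, 0), (0, 0, 1, 0, 0, 0), (0, 0, 0, 1, 0, 0),
    (0, 0, 0, 0, 1, 0), (0, 0, 0, 0, 0, 1)]

theorem tg_basis_eq : ∀ j : Fin 6, ∀ p : ArrayPt,
    tgEnc (tgE j) p = tgZ (tgBN j.val (tgIdx p)) := by
  decide +kernel

/-- the six parity checks of the ternary Golay code -/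
abbrev tgEqs (y : ArrayPt → ZMod 3) : Prop :=
  y (1, 2) = y (0, 0) + y (0, 1) + y (0, 2) + 2 * y (1, 0) + 2 * y (1, 1) ∧
  y (2, 1) = 2 * y (0, 1) + y (0, 2) + 2 * y (1, 0) + y (1, 1) + y (2, 0) ∧
  y (2, 2) = y (0, 0) + 2 * y (0, 1) + y (1, 0) + 2 * y (1, 1) + y (2, 0) ∧
  y (3, 0) = y (0, 0) + 2 * y (0, 1) + 2 * y (0, 2) + 2 * y (1, 0) + 2 * y (2, 0) ∧
  y (3, 1) = y (0, 0) + y (0, 2) + y (1, 0) + y (1, 1) + 2 * y (2, 0) ∧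
  y (3, 2) = 2 * y (0, 0) + 2 * y (0, 1) + y (0, 2) + 2 * y (1, 1) + 2 * y (2, 0)

theorem tg_mem_of_eqs (y : ArrayPt → ZMod 3) (h : tgEqs y) : y ∈ ternaryGolayCode := by
  have hy : y = tgEnc (y (0, 0), y (0, 1), y (0, 2), y (1, 0), y (1, 1), y (2, 0)) := by
    funext p
    revert p
    exact tg_forall rfl rfl rfl rfl rfl h.1 rfl h.2.1 h.2.2.1 h.2.2.2.1 h.2.2.2.2.1 h.2.2.2.2.2
  rw [hy]
  exact tg_enc_mem _

/-- concrete check that the lists describe a monomial automorphism -/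
abbrev tgOK (fl gl cl : List ℕ) : Prop :=
  (∀ p, tgF gl (tgF fl p) = p) ∧ (∀ p, tgF fl (tgF gl p) = p) ∧
    ∀ j : Fin 6, tgEqs (fun p => tgCv cl p * tgZ (tgBN j.val (tgIdx (tgF gl p))))

/-- witnesses: permutations -/
def tgWF : List (List ℕ) := [
  [0, 1, 2, 3, 4, 5, 6, 7, 8, 9, 10, 11], [1, 0, 2, 3, 4, 5, 11, 9, 10, 7, 8, 6], [2, 0, 1, 3, 4, 5, 8, 6, 7, 10, 11, 9],
  [3, 0, 1, 2, 4, 5, 10, 7, 6, 8, 9, 11], [4, 0, 1, 2, 3, 5, 6, 9, 10, 11, 7, 8], [5, 0, 1, 2, 3, 4, 9, 6, 8, 7, 11, 10],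
  [6, 0, 1, 2, 3, 9, 5, 4, 7, 10, 8, 11], [7, 0, 1, 2, 3, 11, 10, 8, 9, 4, 5, 6], [8, 0, 1, 2, 3, 10, 7, 11, 4, 6, 9, 5],
  [9, 0, 1, 2, 3, 6, 4, 5, 11, 8, 10, 7], [10, 0, 1, 2, 3, 8, 11, 7, 5, 9, 6, 4], [11, 0, 1, 2, 3, 7, 8, 10, 6, 5, 4, 9],
  [], [0, 1, 2, 3, 4, 5, 6, 7, 8, 9, 10, 11], [0, 2, 1, 3, 4, 5, 9, 10, 11, 6, 7, 8],
  [0, 3, 1, 2, 4, 5, 11, 8, 9, 7, 6, 10], [0, 4, 1, 2, 3, 5, 8, 11, 7, 9, 10, 6], [0, 5, 1, 2, 3, 4, 10, 7, 11, 6, 8, 9],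
  [0, 6, 1, 2, 3, 9, 11, 10, 8, 4, 7, 5], [0, 7, 1, 2, 3, 11, 6, 4, 5, 8, 9, 10], [0, 8, 1, 2, 3, 10, 5, 6, 9, 11, 4, 7],
  [0, 9, 1, 2, 3, 6, 7, 8, 10, 5, 11, 4], [0, 10, 1, 2, 3, 8, 4, 9, 6, 7, 5, 11], [0, 11, 1, 2, 3, 7, 9, 5, 4, 10, 6, 8],
  [], [], [0, 1, 2, 3, 4, 5, 6, 7, 8, 9, 10, 11],
  [0, 1, 3, 2, 4, 5, 7, 6, 10, 11, 8, 9], [0, 1, 4, 2, 3, 5, 9, 10, 6, 8, 11, 7], [0, 1, 5, 2, 3, 4, 6, 8, 9, 10, 7, 11],
  [0, 1, 6, 2, 3, 9, 4, 7, 5, 11, 10, 8], [0, 1, 7, 2, 3, 11, 8, 9, 10, 6, 4, 5], [0, 1, 8, 2, 3, 10, 11, 4, 7, 5, 6, 9],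
  [0, 1, 9, 2, 3, 6, 5, 11, 4, 7, 8, 10], [0, 1, 10, 2, 3, 8, 7, 5, 11, 4, 9, 6], [0, 1, 11, 2, 3, 7, 10, 6, 8, 9, 5, 4],
  [], [], [],
  [0, 1, 2, 3, 4, 5, 6, 7, 8, 9, 10, 11], [0, 1, 2, 4, 3, 5, 10, 9, 11, 7, 6, 8], [0, 1, 2, 5, 3, 4, 8, 6, 7, 11, 9, 10],
  [0, 1, 2, 6, 3, 9, 7, 4, 10, 8, 5, 11], [0, 1, 2, 7, 3, 11, 9, 8, 4, 5, 10, 6], [0, 1, 2, 8, 3, 10, 4, 11, 6, 9, 7, 5],
  [0, 1, 2, 9, 3, 6, 11, 5, 8, 10, 4, 7], [0, 1, 2, 10, 3, 8, 5, 7, 9, 6, 11, 4], [0, 1, 2, 11, 3, 7, 6, 10, 5, 4, 8, 9],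
  [], [], [],
  [], [0, 1, 2, 3, 4, 5, 6, 7, 8, 9, 10, 11], [0, 1, 2, 3, 5, 4, 9, 11, 10, 6, 8, 7],
  [0, 1, 2, 3, 6, 9, 5, 8, 11, 4, 7, 10], [0, 1, 2, 3, 7, 11, 10, 5, 6, 8, 9, 4], [0, 1, 2, 3, 8, 10, 7, 9, 5, 11, 4, 6],
  [0, 1, 2, 3, 9, 6, 4, 10, 7, 5, 11, 8], [0, 1, 2, 3, 10, 8, 11, 6, 4, 7, 5, 9], [0, 1, 2, 3, 11, 7, 8, 4, 9, 10, 6, 5]]

/-- witnesses: inverse permutations -/
def tgWG : List (List ℕ) := [
  [0, 1, 2, 3, 4, 5, 6, 7, 8, 9, 10, 11], [1, 0, 2, 3, 4, 5, 11, 9, 10, 7, 8, 6], [1, 2, 0, 3, 4, 5, 7, 8, 6, 11, 9, 10],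
  [1, 2, 3, 0, 4, 5, 8, 7, 9, 10, 6, 11], [1, 2, 3, 4, 0, 5, 6, 10, 11, 7, 8, 9], [1, 2, 3, 4, 5, 0, 7, 9, 8, 6, 11, 10],
  [1, 2, 3, 4, 7, 6, 0, 8, 10, 5, 9, 11], [1, 2, 3, 4, 9, 10, 11, 0, 7, 8, 6, 5], [1, 2, 3, 4, 8, 11, 9, 6, 0, 10, 5, 7],
  [1, 2, 3, 4, 6, 7, 5, 11, 9, 0, 10, 8], [1, 2, 3, 4, 11, 8, 10, 7, 5, 9, 0, 6], [1, 2, 3, 4, 10, 9, 8, 5, 6, 11, 7, 0],
  [], [0, 1, 2, 3, 4, 5, 6, 7, 8, 9, 10, 11], [0, 2, 1, 3, 4, 5, 9, 10, 11, 6, 7, 8],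
  [0, 2, 3, 1, 4, 5, 10, 9, 7, 8, 11, 6], [0, 2, 3, 4, 1, 5, 11, 8, 6, 9, 10, 7], [0, 2, 3, 4, 5, 1, 9, 7, 10, 11, 6, 8],
  [0, 2, 3, 4, 9, 11, 1, 10, 8, 5, 7, 6], [0, 2, 3, 4, 7, 8, 6, 1, 9, 10, 11, 5], [0, 2, 3, 4, 10, 6, 7, 11, 1, 8, 5, 9],
  [0, 2, 3, 4, 11, 9, 5, 6, 7, 1, 8, 10], [0, 2, 3, 4, 6, 10, 8, 9, 5, 7, 1, 11], [0, 2, 3, 4, 8, 7, 10, 5, 11, 6, 9, 1],
  [], [], [0, 1, 2, 3, 4, 5, 6, 7, 8, 9, 10, 11],
  [0, 1, 3, 2, 4, 5, 7, 6, 10, 11, 8, 9], [0, 1, 3, 4, 2, 5, 8, 11, 9, 6, 7, 10], [0, 1, 3, 4, 5, 2, 6, 10, 7, 8, 9, 11],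
  [0, 1, 3, 4, 6, 8, 2, 7, 11, 5, 10, 9], [0, 1, 3, 4, 10, 11, 9, 2, 6, 7, 8, 5], [0, 1, 3, 4, 7, 9, 10, 8, 2, 11, 5, 6],
  [0, 1, 3, 4, 8, 6, 5, 9, 10, 2, 11, 7], [0, 1, 3, 4, 9, 7, 11, 6, 5, 10, 2, 8], [0, 1, 3, 4, 11, 10, 7, 5, 8, 9, 6, 2],
  [], [], [],
  [0, 1, 2, 3, 4, 5, 6, 7, 8, 9, 10, 11], [0, 1, 2, 4, 3, 5, 10, 9, 11, 7, 6, 8], [0, 1, 2, 4, 5, 3, 7, 8, 6, 10, 11, 9],
  [0, 1, 2, 4, 7, 10, 3, 6, 9, 5, 8, 11], [0, 1, 2, 4, 8, 9, 11, 3, 7, 6, 10, 5], [0, 1, 2, 4, 6, 11, 8, 10, 3, 9, 5, 7],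
  [0, 1, 2, 4, 10, 7, 5, 11, 8, 3, 9, 6], [0, 1, 2, 4, 11, 6, 9, 7, 5, 8, 3, 10], [0, 1, 2, 4, 9, 8, 6, 5, 10, 11, 7, 3],
  [], [], [],
  [], [0, 1, 2, 3, 4, 5, 6, 7, 8, 9, 10, 11], [0, 1, 2, 3, 5, 4, 9, 11, 10, 6, 8, 7],
  [0, 1, 2, 3, 9, 6, 4, 10, 7, 5, 11, 8], [0, 1, 2, 3, 11, 7, 8, 4, 9, 10, 6, 5], [0, 1, 2, 3, 10, 8, 11, 6, 4, 7, 5, 9],
  [0, 1, 2, 3, 6, 9, 5, 8, 11, 4, 7, 10], [0, 1, 2, 3, 8, 10, 7, 9, 5, 11, 4, 6], [0, 1, 2, 3, 7, 11, 10, 5, 6, 8, 9, 4]]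

/-- witnesses: signs -/
def tgWC : List (List ℕ) := [
  [1, 1, 1, 1, 1, 1, 1, 1, 1, 1, 1, 1], [1, 1, 1, 1, 1, 1, 1, 1, 1, 1, 1, 1], [1, 1, 1, 1, 1, 1, 1, 1, 1, 1, 1, 1],
  [1, 1, 2, 2, 1, 1, 2, 2, 1, 2, 1, 2], [1, 1, 2, 1, 2, 1, 1, 2, 2, 2, 2, 1], [1, 1, 2, 1, 1, 2, 2, 1, 2, 1, 2, 2],
  [1, 2, 1, 1, 2, 1, 2, 2, 2, 1, 1, 2], [1, 2, 2, 2, 2, 1, 1, 1, 1, 1, 2, 2], [1, 1, 1, 2, 1, 1, 2, 2, 1, 1, 2, 1],
  [1, 2, 1, 1, 1, 2, 1, 2, 1, 2, 2, 2], [1, 1, 1, 2, 1, 1, 1, 1, 2, 2, 1, 2], [1, 2, 2, 2, 1, 2, 1, 2, 2, 1, 1, 1],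
  [], [1, 1, 1, 1, 1, 1, 1, 1, 1, 1, 1, 1], [1, 1, 1, 1, 1, 1, 1, 1, 1, 1, 1, 1],
  [1, 1, 2, 2, 1, 1, 2, 2, 1, 2, 1, 2], [1, 1, 2, 1, 2, 1, 1, 2, 2, 2, 2, 1], [1, 1, 2, 1, 1, 2, 2, 1, 2, 1, 2, 2],
  [1, 2, 1, 1, 2, 1, 2, 2, 2, 1, 1, 2], [1, 2, 2, 2, 2, 1, 1, 1, 1, 1, 2, 2], [1, 1, 1, 2, 1, 1, 2, 2, 1, 1, 2, 1],
  [1, 2, 1, 1, 1, 2, 1, 2, 1, 2, 2, 2], [1, 1, 1, 2, 1, 1, 1, 1, 2, 2, 1, 2], [1, 2, 2, 2, 1, 2, 1, 2, 2, 1, 1, 1],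
  [], [], [1, 1, 1, 1, 1, 1, 1, 1, 1, 1, 1, 1],
  [1, 1, 2, 2, 1, 1, 2, 2, 1, 2, 1, 2], [1, 1, 2, 1, 2, 1, 1, 2, 2, 2, 2, 1], [1, 1, 2, 1, 1, 2, 2, 1, 2, 1, 2, 2],
  [1, 2, 1, 1, 2, 1, 2, 2, 2, 1, 1, 2], [1, 2, 2, 2, 2, 1, 1, 1, 1, 1, 2, 2], [1, 1, 1, 2, 1, 1, 2, 2, 1, 1, 2, 1],
  [1, 2, 1, 1, 1, 2, 1, 2, 1, 2, 2, 2], [1, 1, 1, 2, 1, 1, 1, 1, 2, 2, 1, 2], [1, 2, 2, 2, 1, 2, 1, 2, 2, 1, 1, 1],
  [], [], [],
  [1, 1, 1, 1, 1, 1, 1, 1, 1, 1, 1, 1], [1, 1, 1, 1, 1, 1, 1, 1, 1, 1, 1, 1], [1, 1, 1, 1, 1, 1, 1, 1, 1, 1, 1, 1],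
  [1, 2, 2, 1, 1, 1, 1, 1, 1, 1, 1, 1], [1, 2, 1, 2, 2, 2, 2, 2, 2, 2, 2, 2], [1, 1, 2, 2, 2, 2, 2, 2, 2, 2, 2, 2],
  [1, 2, 2, 1, 1, 1, 1, 1, 1, 1, 1, 1], [1, 1, 2, 2, 2, 2, 2, 2, 2, 2, 2, 2], [1, 2, 1, 2, 2, 2, 2, 2, 2, 2, 2, 2],
  [], [], [],
  [], [1, 1, 1, 1, 1, 1, 1, 1, 1, 1, 1, 1], [1, 1, 1, 1, 1, 1, 1, 1, 1, 1, 1, 1],
  [1, 2, 2, 1, 1, 1, 1, 1, 1, 1, 1, 1], [1, 2, 1, 2, 2, 2, 2, 2, 2, 2, 2, 2], [1, 1, 2, 2, 2, 2, 2, 2, 2, 2, 2, 2],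
  [1, 2, 2, 1, 1, 1, 1, 1, 1, 1, 1, 1], [1, 1, 2, 2, 2, 2, 2, 2, 2, 2, 2, 2], [1, 2, 1, 2, 2, 2, 2, 2, 2, 2, 2, 2]]

/-- five base points -/
def tgP : Fin 5 → ArrayPt := ![(0, 0), (0, 1), (0, 2), (1, 0), (1, 1)]

theorem tg_lev_ok : ∀ lev : Fin 5, ∀ q : ArrayPt,
    (∃ i : Fin 5, i.val < lev.val ∧ q = tgP i) ∨
    (tgOK (tgWF.getD (12 * lev.val + tgIdx q) []) (tgWG.getD (12 * lev.val + tgIdx q) [])
        (tgWC.getD (12 * lev.val + tgIdx q) []) ∧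
      (∀ i : Fin 5, lev.val ≤ i.val ∨
        tgF (tgWF.getD (12 * lev.val + tgIdx q) []) (tgP i) = tgP i) ∧
      tgF (tgWF.getD (12 * lev.val + tgIdx q) []) (tgP lev) = q) := by
  decide +kernel

theorem tg_P_inj : ∀ i j : Fin 5, tgP i = tgP j → i = j := by decide

/-- the base hexad -/
def tgB0 : Finset ArrayPt := {(0, 0), (0, 1), (0, 2), (1, 0), (1, 1), (1, 2)}

/-- the points outside the base hexad -/
def tgO (j : Fin 6) : ArrayPt := tgPt (6 + j.val)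

/-- four-subsets of the base hexad -/
def tgTL : List (List ℕ) := [
  [0, 1, 2, 3], [0, 1, 2, 4], [0, 1, 2, 5], [0, 1, 3, 4], [0, 1, 3, 5],
  [0, 1, 4, 5], [0, 2, 3, 4], [0, 2, 3, 5], [0, 2, 4, 5], [0, 3, 4, 5],
  [1, 2, 3, 4], [1, 2, 3, 5], [1, 2, 4, 5], [1, 3, 4, 5], [2, 3, 4, 5]]

/-- four-subsets of the base hexad -/
def tgT (k : Fin 15) : Finset ArrayPt := ((tgTL.getD k.val []).map tgPt).toFinset

/-- the matchings of the outside points -/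
def tgML : List (List ℕ) := [
  [3, 5, 4, 0, 2, 1], [5, 4, 3, 2, 1, 0], [4, 3, 5, 1, 0, 2], [2, 3, 0, 1, 5, 4], [5, 2, 1, 4, 3, 0],
  [1, 0, 4, 5, 2, 3], [4, 2, 1, 5, 0, 3], [1, 0, 3, 2, 5, 4], [2, 5, 0, 4, 3, 1], [3, 4, 5, 0, 1, 2],
  [1, 0, 5, 4, 3, 2], [2, 4, 0, 5, 1, 3], [3, 2, 1, 0, 5, 4], [4, 5, 3, 2, 0, 1], [5, 3, 4, 1, 2, 0]]

/-- the matchings of the outside points -/
def tgM (k : Fin 15) (j : Fin 6) : Fin 6 :=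
  ⟨(tgML.getD k.val []).getD j.val 0 % 6, Nat.mod_lt _ (by decide)⟩

/-- words with prescribed hexads as supports -/
def tgHWL : List (List ℕ) := [
  [1, 2, 2, 2, 0, 2], [1, 2, 1, 1, 0, 0], [1, 1, 2, 1, 0, 0], [1, 2, 2, 2, 0, 2], [1, 1, 2, 1, 0, 0], [1, 2, 1, 1, 0, 0],
  [1, 1, 2, 0, 1, 1], [1, 2, 2, 0, 2, 0], [1, 2, 1, 0, 1, 0], [1, 2, 1, 0, 1, 0], [1, 2, 2, 0, 2, 0], [1, 1, 2, 0, 1, 1],
  [1, 2, 1, 0, 0, 1], [1, 1, 2, 0, 0, 0], [1, 2, 2, 0, 0, 0], [1, 1, 2, 0, 0, 0], [1, 2, 1, 0, 0, 1], [1, 2, 2, 0, 0, 0],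
  [1, 2, 0, 1, 2, 1], [1, 1, 0, 1, 1, 0], [1, 2, 0, 1, 2, 1], [1, 1, 0, 1, 1, 0], [1, 2, 0, 2, 1, 0], [1, 2, 0, 2, 1, 0],
  [1, 1, 0, 1, 0, 2], [1, 2, 0, 2, 0, 0], [1, 2, 0, 2, 0, 0], [1, 2, 0, 1, 0, 0], [1, 2, 0, 1, 0, 0], [1, 1, 0, 1, 0, 2],
  [1, 2, 0, 0, 1, 2], [1, 2, 0, 0, 1, 2], [1, 1, 0, 0, 1, 0], [1, 2, 0, 0, 2, 0], [1, 1, 0, 0, 1, 0], [1, 2, 0, 0, 2, 0],
  [1, 0, 1, 1, 1, 2], [1, 0, 2, 2, 1, 0], [1, 0, 2, 2, 1, 0], [1, 0, 2, 1, 2, 0], [1, 0, 1, 1, 1, 2], [1, 0, 2, 1, 2, 0],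
  [1, 0, 2, 1, 0, 1], [1, 0, 2, 1, 0, 1], [1, 0, 1, 1, 0, 0], [1, 0, 1, 1, 0, 0], [1, 0, 2, 2, 0, 0], [1, 0, 2, 2, 0, 0],
  [1, 0, 2, 0, 2, 2], [1, 0, 1, 0, 1, 0], [1, 0, 2, 0, 2, 2], [1, 0, 2, 0, 1, 0], [1, 0, 2, 0, 1, 0], [1, 0, 1, 0, 1, 0],
  [1, 0, 0, 2, 1, 1], [1, 0, 0, 1, 2, 0], [1, 0, 0, 1, 1, 0], [1, 0, 0, 2, 1, 1], [1, 0, 0, 1, 2, 0], [1, 0, 0, 1, 1, 0],
  [0, 1, 2, 1, 2, 2], [0, 1, 2, 1, 2, 2], [0, 1, 1, 1, 1, 0], [0, 1, 2, 2, 1, 0], [0, 1, 2, 2, 1, 0], [0, 1, 1, 1, 1, 0],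
  [0, 1, 2, 2, 0, 1], [0, 1, 1, 1, 0, 0], [0, 1, 2, 2, 0, 1], [0, 1, 2, 1, 0, 0], [0, 1, 1, 1, 0, 0], [0, 1, 2, 1, 0, 0],
  [0, 1, 1, 0, 1, 2], [0, 1, 2, 0, 1, 0], [0, 1, 2, 0, 1, 0], [0, 1, 1, 0, 1, 2], [0, 1, 2, 0, 2, 0], [0, 1, 2, 0, 2, 0],
  [0, 1, 0, 1, 1, 1], [0, 1, 0, 2, 1, 0], [0, 1, 0, 1, 2, 0], [0, 1, 0, 1, 2, 0], [0, 1, 0, 1, 1, 1], [0, 1, 0, 2, 1, 0],
  [0, 0, 1, 1, 2, 1], [0, 0, 1, 1, 1, 0], [0, 0, 1, 2, 1, 0], [0, 0, 1, 1, 1, 0], [0, 0, 1, 2, 1, 0], [0, 0, 1, 1, 2, 1]]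

/-- words with prescribed hexads as supports -/
def tgHW (k : Fin 15) (j : Fin 6) : TGP :=
  (tgZ ((tgHWL.getD (6 * k.val + j.val) []).getD 0 0),
    tgZ ((tgHWL.getD (6 * k.val + j.val) []).getD 1 0),
    tgZ ((tgHWL.getD (6 * k.val + j.val) []).getD 2 0),
    tgZ ((tgHWL.getD (6 * k.val + j.val) []).getD 3 0),
    tgZ ((tgHWL.getD (6 * k.val + j.val) []).getD 4 0),
    tgZ ((tgHWL.getD (6 * k.val + j.val) []).getD 5 0))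

theorem tg_hx_supp : ∀ k : Fin 15, ∀ j : Fin 6,
    ternarySupport (tgEnc (tgHW k j)) = insert (tgO j) (insert (tgO (tgM k j)) (tgT k)) := by
  decide +kernel

theorem tg_hx_card : ∀ k : Fin 15, ∀ j : Fin 6,
    (insert (tgO j) (insert (tgO (tgM k j)) (tgT k))).card = 6 := by
  decide +kernel

theorem tg_b0_supp : ternarySupport (tgEnc (1, 1, 1, 2, 2, 0)) = tgB0 ∧ tgB0.card = 6 := by
  decide +kernel

theorem tg_T_sub : ∀ k : Fin 15, tgT k ⊆ tgB0 ∧ (tgT k).card = 4 := by decide +kernel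

theorem tg_O_out : ∀ j : Fin 6, tgO j ∉ tgB0 := by decide +kernel

theorem tg_M_ne : ∀ k : Fin 15, ∀ j : Fin 6, tgM k j ≠ j := by decide +kernel

theorem tg_O_inj : ∀ j j' : Fin 6, tgO j = tgO j' → j = j' := by decide +kernel

theorem tg_cover : ∀ p : ArrayPt, p ∈ tgB0 ∨ ∃ j : Fin 6, tgO j = p := by decide +kernel

theorem tg_rig : ∀ j a : Fin 6, a = j ∨
    ∃ k k' : Fin 15, tgM k j = tgM k' j ∧ tgM k a ≠ tgM k' a := by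
  decide +kernel

theorem tg_b0_cases : ∀ p : ArrayPt, p ∈ tgB0 → (∃ i : Fin 5, p = tgP i) ∨ p = (1, 2) := by
  decide +kernel

theorem tg_P_mem : ∀ i : Fin 5, tgP i ∈ tgB0 ∧ tgP i ≠ (1, 2) := by decide +kernel

theorem tg_P_img : (Finset.univ.image tgP).card = 5 ∧ Finset.univ.image tgP ⊆ tgB0 := by
  decide +kernel

theorem tg_cv_ne (l : List ℕ) (p : ArrayPt) : tgCv l p ≠ 0 := by
  unfold tgCv
  split_ifs <;> decide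

/-! ### linearity of the encoder -/

theorem tg_enc_lin (w0 w1 w2 w3 w4 w5 : ZMod 3) :
    tgEnc (w0, w1, w2, w3, w4, w5) = w0 • tgEnc (tgE 0) + w1 • tgEnc (tgE 1)
      + w2 • tgEnc (tgE 2) + w3 • tgEnc (tgE 3) + w4 • tgEnc (tgE 4) + w5 • tgEnc (tgE 5) := by
  funext p
  revert p
  apply tg_forall
  · show w0 = w0 * 1 + w1 * 0 + w2 * 0 + w3 * 0 + w4 * 0 + w5 * 0
    ring
  · show w1 = w0 * 0 + w1 * 1 + w2 * 0 + w3 * 0 + w4 * 0 + w5 * 0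
    ring
  · show w2 = w0 * 0 + w1 * 0 + w2 * 1 + w3 * 0 + w4 * 0 + w5 * 0
    ring
  · show w3 = w0 * 0 + w1 * 0 + w2 * 0 + w3 * 1 + w4 * 0 + w5 * 0
    ring
  · show w4 = w0 * 0 + w1 * 0 + w2 * 0 + w3 * 0 + w4 * 1 + w5 * 0
    ring
  · show w0 + w1 + w2 + 2 * w3 + 2 * w4 = w0 * 1 + w1 * 1 + w2 * 1 + w3 * 2 + w4 * 2 + w5 * 0
    ring
  · show w5 = w0 * 0 + w1 * 0 + w2 * 0 + w3 * 0 + w4 * 0 + w5 * 1
    ring
  · show 2 * w1 + w2 + 2 * w3 + w4 + w5 = w0 * 0 + w1 * 2 + w2 * 1 + w3 * 2 + w4 * 1 + w5 * 1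
    ring
  · show w0 + 2 * w1 + w3 + 2 * w4 + w5 = w0 * 1 + w1 * 2 + w2 * 0 + w3 * 1 + w4 * 2 + w5 * 1
    ring
  · show w0 + 2 * w1 + 2 * w2 + 2 * w3 + 2 * w5 = w0 * 1 + w1 * 2 + w2 * 2 + w3 * 2 + w4 * 0 + w5 * 2
    ring
  · show w0 + w2 + w3 + w4 + 2 * w5 = w0 * 1 + w1 * 0 + w2 * 1 + w3 * 1 + w4 * 1 + w5 * 2
    ring
  · show 2 * w0 + 2 * w1 + w2 + 2 * w4 + 2 * w5 = w0 * 2 + w1 * 2 + w2 * 1 + w3 * 0 + w4 * 2 + w5 * 2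
    ring

/-! ### monomial maps -/

theorem tgm_add (σ : Equiv.Perm ArrayPt) (c : ArrayPt → (ZMod 3)ˣ) (x y : ArrayPt → ZMod 3) :
    monomialMap σ c (x + y) = monomialMap σ c x + monomialMap σ c y := by
  funext i
  simp only [monomialMap, Pi.add_apply]
  ring

theorem tgm_smul (σ : Equiv.Perm ArrayPt) (c : ArrayPt → (ZMod 3)ˣ) (a : ZMod 3)
    (x : ArrayPt → ZMod 3) : monomialMap σ c (a • x) = a • monomialMap σ c x := by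
  funext i
  simp only [monomialMap, Pi.smul_apply, smul_eq_mul]
  ring

theorem tgm_mul (σ σ' : Equiv.Perm ArrayPt) (c c' : ArrayPt → (ZMod 3)ˣ) (x : ArrayPt → ZMod 3) :
    monomialMap σ c (monomialMap σ' c' x)
      = monomialMap (σ * σ') (fun i => c i * c' (σ.symm i)) x := by
  funext i
  show (c i : ZMod 3) * ((c' (σ.symm i) : ZMod 3) * x (σ'.symm (σ.symm i)))
    = ((c i * c' (σ.symm i) : (ZMod 3)ˣ) : ZMod 3) * x (σ'.symm (σ.symm i))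
  rw [Units.val_mul, mul_assoc]

/-- the monomial map `(σ, c)` preserves the ternary Golay code -/
def tgPres (σ : Equiv.Perm ArrayPt) (c : ArrayPt → (ZMod 3)ˣ) : Prop :=
  ∀ x ∈ ternaryGolayCode, monomialMap σ c x ∈ ternaryGolayCode

theorem tg_pres_surj (σ : Equiv.Perm ArrayPt) (c : ArrayPt → (ZMod 3)ˣ)
    (h : tgPres σ c) (x : ArrayPt → ZMod 3) (hx : x ∈ ternaryGolayCode) :
    ∃ y ∈ ternaryGolayCode, monomialMap σ c y = x := by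
  have hinj : Function.Injective (fun y : ↥ternaryGolayCode =>
      (⟨monomialMap σ c y.1, h y.1 y.2⟩ : ↥ternaryGolayCode)) := by
    intro y y' hyy
    have h1 : monomialMap σ c y.1 = monomialMap σ c y'.1 := congrArg Subtype.val hyy
    apply Subtype.ext
    funext i
    have h2 : (c (σ i) : ZMod 3) * y.1 (σ.symm (σ i))
        = (c (σ i) : ZMod 3) * y'.1 (σ.symm (σ i)) := congrFun h1 (σ i)
    rw [Equiv.symm_apply_apply] at h2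
    exact mul_left_cancel₀ (Units.ne_zero _) h2
  obtain ⟨y, hy⟩ := Finite.surjective_of_injective hinj ⟨x, hx⟩
  exact ⟨y.1, y.2, congrArg Subtype.val hy⟩

theorem tg_pres_smul (σ : Equiv.Perm ArrayPt) (c0 : ArrayPt → (ZMod 3)ˣ) (l : (ZMod 3)ˣ)
    (h : tgPres σ c0) : tgPres σ (fun i => l * c0 i) := by
  intro x hx
  have h1 : monomialMap σ (fun i => l * c0 i) x = (l : ZMod 3) • monomialMap σ c0 x := by
    funext i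
    show ((l * c0 i : (ZMod 3)ˣ) : ZMod 3) * x (σ.symm i)
      = (l : ZMod 3) * ((c0 i : ZMod 3) * x (σ.symm i))
    rw [Units.val_mul, mul_assoc]
  rw [h1]
  exact Submodule.smul_mem _ _ (h x hx)

/-- permutation parts of the monomial automorphisms of the ternary Golay code -/
def tgS : Subgroup (Equiv.Perm ArrayPt) where
  carrier := {σ | ∃ c : ArrayPt → (ZMod 3)ˣ, tgPres σ c}
  one_mem' := by
    show ∃ c : ArrayPt → (ZMod 3)ˣ, tgPres 1 c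
    refine ⟨fun _ => 1, fun x hx => ?_⟩
    have h1 : monomialMap 1 (fun _ => (1 : (ZMod 3)ˣ)) x = x := by
      funext i
      show ((1 : (ZMod 3)ˣ) : ZMod 3) * x i = x i
      rw [Units.val_one, one_mul]
    rw [h1]
    exact hx
  mul_mem' := by
    rintro σ σ' ⟨c, hc⟩ ⟨c', hc'⟩
    show ∃ c : ArrayPt → (ZMod 3)ˣ, tgPres (σ * σ') c
    refine ⟨fun i => c i * c' (σ.symm i), fun x hx => ?_⟩
    rw [← tgm_mul]
    exact hc _ (hc' x hx)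
  inv_mem' := by
    rintro σ ⟨c, hc⟩
    show ∃ c : ArrayPt → (ZMod 3)ˣ, tgPres σ⁻¹ c
    refine ⟨fun i => (c (σ i))⁻¹, fun x hx => ?_⟩
    obtain ⟨y, hy, rfl⟩ := tg_pres_surj σ c hc x hx
    have h1 : monomialMap σ⁻¹ (fun i => (c (σ i))⁻¹) (monomialMap σ c y) = y := by
      funext i
      show (((c (σ i))⁻¹ : (ZMod 3)ˣ) : ZMod 3) * ((c (σ i) : ZMod 3) * y (σ.symm (σ i))) = y i
      rw [Equiv.symm_apply_apply, ← mul_assoc, ← Units.val_mul, inv_mul_cancel, Units.val_one,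
        one_mul]
    rw [h1]
    exact hy

theorem tg_mem_S (σ : Equiv.Perm ArrayPt) :
    σ ∈ tgS ↔ ∃ c : ArrayPt → (ZMod 3)ˣ, tgPres σ c := Iff.rfl

theorem tg_pres_of_ok (fl gl cl : List ℕ) (h : tgOK fl gl cl) :
    ∃ σ : Equiv.Perm ArrayPt, (∀ p, σ p = tgF fl p) ∧ σ ∈ tgS := by
  obtain ⟨σ, hσ, hσs⟩ : ∃ σ : Equiv.Perm ArrayPt, (∀ p, σ p = tgF fl p) ∧
      ∀ p, σ.symm p = tgF gl p := ⟨⟨tgF fl, tgF gl, h.1, h.2.1⟩, fun _ => rfl, fun _ => rfl⟩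
  obtain ⟨c, hc⟩ : ∃ c : ArrayPt → (ZMod 3)ˣ, ∀ p, (c p : ZMod 3) = tgCv cl p :=
    ⟨fun p => Units.mk0 (tgCv cl p) (tg_cv_ne cl p), fun _ => rfl⟩
  refine ⟨σ, hσ, (tg_mem_S σ).mpr ⟨c, fun x hx => ?_⟩⟩
  have hb : ∀ j : Fin 6, monomialMap σ c (tgEnc (tgE j)) ∈ ternaryGolayCode := by
    intro j
    have h1 : monomialMap σ c (tgEnc (tgE j))
        = fun p => tgCv cl p * tgZ (tgBN j.val (tgIdx (tgF gl p))) := by
      funext p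
      show (c p : ZMod 3) * tgEnc (tgE j) (σ.symm p) = _
      rw [hc p, hσs p, tg_basis_eq]
    rw [h1]
    exact tg_mem_of_eqs _ (h.2.2 j)
  obtain ⟨w, rfl⟩ := (tg_mem_iff x).mp hx
  obtain ⟨w0, w1, w2, w3, w4, w5⟩ := w
  rw [tg_enc_lin]
  simp only [tgm_add, tgm_smul]
  exact add_mem (add_mem (add_mem (add_mem (add_mem (Submodule.smul_mem _ w0 (hb 0))
    (Submodule.smul_mem _ w1 (hb 1))) (Submodule.smul_mem _ w2 (hb 2)))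
    (Submodule.smul_mem _ w3 (hb 3))) (Submodule.smul_mem _ w4 (hb 4)))
    (Submodule.smul_mem _ w5 (hb 5))

theorem tg_lev (lev : Fin 5) (q : ArrayPt) (hq : ∀ i : Fin 5, i.val < lev.val → q ≠ tgP i) :
    ∃ τ : Equiv.Perm ArrayPt, τ ∈ tgS ∧ (∀ i : Fin 5, i.val < lev.val → τ (tgP i) = tgP i) ∧
      τ (tgP lev) = q := by
  rcases tg_lev_ok lev q with ⟨i, hi, hqi⟩ | ⟨hok, hfix, hq'⟩
  · exact absurd hqi (hq i hi)
  · obtain ⟨τ, hτ, hmem⟩ := tg_pres_of_ok _ _ _ hok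
    refine ⟨τ, hmem, fun i hi => ?_, ?_⟩
    · rw [hτ]
      exact (hfix i).resolve_left (not_le.mpr hi)
    · rw [hτ]
      exact hq'

theorem tg_trans_aux (e : Fin 5 ↪ ArrayPt) : ∀ k : ℕ, k ≤ 5 →
    ∃ σ : Equiv.Perm ArrayPt, σ ∈ tgS ∧ ∀ i : Fin 5, i.val < k → σ (tgP i) = e i := by
  intro k
  induction k with
  | zero =>
    intro _
    exact ⟨1, tgS.one_mem, fun i hi => absurd hi (Nat.not_lt_zero _)⟩
  | succ k ih =>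
    intro hk
    obtain ⟨σ, hσ, hσe⟩ := ih (by omega)
    have hk5 : k < 5 := by omega
    have hq : ∀ i : Fin 5, i.val < (⟨k, hk5⟩ : Fin 5).val →
        σ.symm (e ⟨k, hk5⟩) ≠ tgP i := by
      intro i hi hcon
      have h1 : e ⟨k, hk5⟩ = σ (tgP i) := by rw [← hcon, Equiv.apply_symm_apply]
      rw [hσe i hi] at h1
      have h2 := e.injective h1
      rw [← h2] at hi
      exact lt_irrefl _ hi
    obtain ⟨τ, hτ, hτfix, hτq⟩ := tg_lev ⟨k, hk5⟩ _ hq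
    refine ⟨σ * τ, tgS.mul_mem hσ hτ, fun i hi => ?_⟩
    rcases Nat.lt_succ_iff_lt_or_eq.mp hi with h | h
    · show σ (τ (tgP i)) = e i
      rw [hτfix i h, hσe i h]
    · have hi' : i = ⟨k, hk5⟩ := Fin.ext h
      subst hi'
      show σ (τ (tgP ⟨k, hk5⟩)) = e ⟨k, hk5⟩
      rw [hτq, Equiv.apply_symm_apply]

theorem tg_trans (e : Fin 5 ↪ ArrayPt) :
    ∃ σ : Equiv.Perm ArrayPt, σ ∈ tgS ∧ ∀ i : Fin 5, σ (tgP i) = e i := by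
  obtain ⟨σ, hσ, h⟩ := tg_trans_aux e 5 le_rfl
  exact ⟨σ, hσ, fun i => h i i.isLt⟩

/-! ### the permutation parts preserve the hexads -/

theorem tg_supp_mono (σ : Equiv.Perm ArrayPt) (c : ArrayPt → (ZMod 3)ˣ) (x : ArrayPt → ZMod 3) :
    ternarySupport (monomialMap σ c x) = σ • ternarySupport x := by
  ext p
  rw [tg_mem_supp, Finset.mem_smul_finset]
  constructor
  · intro hp
    refine ⟨σ.symm p, tg_mem_supp.mpr ?_, ?_⟩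
    · intro h0
      apply hp
      show (c p : ZMod 3) * x (σ.symm p) = 0
      rw [h0, mul_zero]
    · exact Equiv.apply_symm_apply σ p
  · rintro ⟨y, hy, rfl⟩
    rw [tg_mem_supp] at hy
    show (c (σ y) : ZMod 3) * x (σ.symm (σ y)) ≠ 0
    rw [Equiv.symm_apply_apply]
    exact mul_ne_zero (Units.ne_zero _) hy

theorem tg_S_hex (σ : Equiv.Perm ArrayPt) (hσ : σ ∈ tgS) (b : Finset ArrayPt) (hb : b ∈ tgHex) :
    σ • b ∈ tgHex := by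
  obtain ⟨c, hc⟩ := (tg_mem_S σ).mp hσ
  obtain ⟨w, hw6, rfl⟩ := tg_mem_hex.mp hb
  obtain ⟨w', hw'⟩ := (tg_mem_iff _).mp (hc _ (tg_enc_mem w))
  refine tg_mem_hex.mpr ⟨w', ?_, ?_⟩
  · show (ternarySupport (tgEnc w')).card = 6
    rw [hw', tg_supp_mono, Finset.card_smul_finset]
    exact hw6
  · rw [hw', tg_supp_mono]

theorem tg_S_le : tgS ≤ setSystemAut {h : Finset ArrayPt | ∃ x ∈ ternaryGolayCode,
    ternarySupport x = h ∧ h.card = 6} := by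
  intro σ hσ
  show σ ∈ MulAction.stabilizer (Equiv.Perm ArrayPt) _
  rw [MulAction.mem_stabilizer_set_iff_smul_set_subset (Set.toFinite _), tg_hex_set]
  rintro _ ⟨b, hb, rfl⟩
  exact Finset.mem_coe.mpr (tg_S_hex σ hσ b (Finset.mem_coe.mp hb))

theorem tg_aut_hex (σ : Equiv.Perm ArrayPt)
    (hσ : σ ∈ setSystemAut {h : Finset ArrayPt | ∃ x ∈ ternaryGolayCode,
      ternarySupport x = h ∧ h.card = 6}) (b : Finset ArrayPt) (hb : b ∈ tgHex) :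
    σ • b ∈ tgHex := by
  have h1 : σ • {h : Finset ArrayPt | ∃ x ∈ ternaryGolayCode,
      ternarySupport x = h ∧ h.card = 6} = {h : Finset ArrayPt | ∃ x ∈ ternaryGolayCode,
      ternarySupport x = h ∧ h.card = 6} := MulAction.mem_stabilizer_iff.mp hσ
  rw [tg_hex_set] at h1
  have h2 : σ • b ∈ σ • (↑tgHex : Set (Finset ArrayPt)) :=
    Set.smul_mem_smul_set (Finset.mem_coe.mpr hb)
  rw [h1] at h2
  exact Finset.mem_coe.mp h2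

/-! ### an automorphism of the hexads fixing five points is trivial -/

theorem tg_hx_mem (k : Fin 15) (j : Fin 6) :
    insert (tgO j) (insert (tgO (tgM k j)) (tgT k)) ∈ tgHex := by
  refine tg_mem_hex.mpr ⟨tgHW k j, ?_, tg_hx_supp k j⟩
  show (ternarySupport (tgEnc (tgHW k j))).card = 6
  rw [tg_hx_supp k j]
  exact tg_hx_card k j

theorem tg_free (σ : Equiv.Perm ArrayPt) (hσ : ∀ b ∈ tgHex, σ • b ∈ tgHex)
    (hfix : ∀ i : Fin 5, σ (tgP i) = tgP i) : σ = 1 := by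
  have hb0 : tgB0 ∈ tgHex := by
    refine tg_mem_hex.mpr ⟨(1, 1, 1, 2, 2, 0), ?_, tg_b0_supp.1⟩
    show (ternarySupport (tgEnc (1, 1, 1, 2, 2, 0))).card = 6
    rw [tg_b0_supp.1]
    exact tg_b0_supp.2
  -- the base hexad is fixed
  have hsb : σ • tgB0 = tgB0 := by
    refine tg_hex_unique _ _ (hσ _ hb0) hb0 (Finset.univ.image tgP) tg_P_img.1 ?_ tg_P_img.2
    intro p hp
    obtain ⟨i, -, rfl⟩ := Finset.mem_image.mp hp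
    have h1 : σ • tgP i ∈ σ • tgB0 := Finset.smul_mem_smul_finset (tg_P_mem i).1
    have h2 : σ • tgP i = tgP i := hfix i
    rw [h2] at h1
    exact h1
  have h12 : σ (1, 2) = (1, 2) := by
    have h1 : σ • ((1, 2) : ArrayPt) ∈ σ • tgB0 :=
      Finset.smul_mem_smul_finset (by decide)
    rw [hsb] at h1
    rcases tg_b0_cases _ h1 with ⟨i, hi⟩ | h3
    · exfalso
      have h4 : σ (1, 2) = σ (tgP i) := by rw [hfix i]; exact hi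
      exact (tg_P_mem i).2 (σ.injective h4).symm
    · exact h3
  have hfixB : ∀ p ∈ tgB0, σ p = p := by
    intro p hp
    rcases tg_b0_cases p hp with ⟨i, rfl⟩ | rfl
    · exact hfix i
    · exact h12
  have hout : ∀ j : Fin 6, ∃ j' : Fin 6, tgO j' = σ (tgO j) := by
    intro j
    rcases tg_cover (σ (tgO j)) with h1 | h1
    · exfalso
      have h2 := hfixB _ h1
      have h3 := σ.injective h2
      rw [h3] at h1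
      exact tg_O_out j h1
    · exact h1
  choose f hf using hout
  have hcomm : ∀ (k : Fin 15) (j : Fin 6), f (tgM k j) = tgM k (f j) := by
    intro k j
    have hT := tg_T_sub k
    have hnot : tgO (f j) ∉ tgT k := fun h1 => tg_O_out _ (hT.1 h1)
    have hs5 : (insert (tgO (f j)) (tgT k)).card = 5 := by
      rw [Finset.card_insert_of_notMem hnot, hT.2]
    have hsub1 : insert (tgO (f j)) (tgT k)
        ⊆ σ • insert (tgO j) (insert (tgO (tgM k j)) (tgT k)) := by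
      intro x hx
      rcases Finset.mem_insert.mp hx with rfl | hx
      · have h1 : σ • tgO j ∈ σ • insert (tgO j) (insert (tgO (tgM k j)) (tgT k)) :=
          Finset.smul_mem_smul_finset (Finset.mem_insert_self _ _)
        have h2 : σ • tgO j = tgO (f j) := (hf j).symm
        rw [h2] at h1
        exact h1
      · have h1 : σ • x ∈ σ • insert (tgO j) (insert (tgO (tgM k j)) (tgT k)) :=
          Finset.smul_mem_smul_finset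
            (Finset.mem_insert_of_mem (Finset.mem_insert_of_mem hx))
        have h2 : σ • x = x := hfixB x (hT.1 hx)
        rw [h2] at h1
        exact h1
    have hsub2 : insert (tgO (f j)) (tgT k)
        ⊆ insert (tgO (f j)) (insert (tgO (tgM k (f j))) (tgT k)) :=
      Finset.insert_subset_insert _ (Finset.subset_insert _ _)
    have heq := tg_hex_unique _ _ (hσ _ (tg_hx_mem k j)) (tg_hx_mem k (f j)) _ hs5 hsub1 hsub2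
    have h1 : σ • tgO (tgM k j) ∈ σ • insert (tgO j) (insert (tgO (tgM k j)) (tgT k)) :=
      Finset.smul_mem_smul_finset (Finset.mem_insert_of_mem (Finset.mem_insert_self _ _))
    have h2 : σ • tgO (tgM k j) = tgO (f (tgM k j)) := (hf (tgM k j)).symm
    rw [h2, heq] at h1
    rcases Finset.mem_insert.mp h1 with h3 | h3
    · exfalso
      have h4 : σ (tgO (tgM k j)) = σ (tgO j) := by rw [← hf, ← hf, h3]
      exact tg_M_ne k j (tg_O_inj _ _ (σ.injective h4))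
    · rcases Finset.mem_insert.mp h3 with h5 | h5
      · exact tg_O_inj _ _ h5
      · exact absurd (hT.1 h5) (tg_O_out _)
  have hid : ∀ j : Fin 6, f j = j := by
    intro j
    by_contra hne
    obtain ⟨k, k', h1, h2⟩ := (tg_rig j (f j)).resolve_left hne
    apply h2
    rw [← hcomm k j, ← hcomm k' j, h1]
  apply Equiv.ext
  intro p
  rcases tg_cover p with h1 | ⟨j, rfl⟩
  · exact hfixB p h1
  · show σ (tgO j) = tgO j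
    rw [← hf j, hid j]

/-! ### assembly -/

theorem tg_A_le : setSystemAut {h : Finset ArrayPt | ∃ x ∈ ternaryGolayCode,
    ternarySupport x = h ∧ h.card = 6} ≤ tgS := by
  intro σ hσ
  obtain ⟨τ, hτ, hτe⟩ := tg_trans
    ⟨fun i => σ (tgP i), fun i j h => tg_P_inj i j (σ.injective h)⟩
  have hτA := tg_S_le hτ
  have h1 : τ⁻¹ * σ = 1 := by
    apply tg_free
    · intro b hb
      exact tg_aut_hex _ (Subgroup.mul_mem _ (Subgroup.inv_mem _ hτA) hσ) b hb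
    · intro i
      have h2 : τ (tgP i) = σ (tgP i) := hτe i
      show τ⁻¹ (σ (tgP i)) = tgP i
      rw [← h2]
      exact Equiv.symm_apply_apply τ _
  have h3 : τ = σ := inv_mul_eq_one.mp h1
  rw [← h3]
  exact hτ

theorem tg_S_eq : tgS = setSystemAut {h : Finset ArrayPt | ∃ x ∈ ternaryGolayCode,
    ternarySupport x = h ∧ h.card = 6} := le_antisymm tg_S_le tg_A_le

theorem tg_S_card : Nat.card ↥tgS = 95040 := by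
  have hbij : Function.Bijective (fun s : ↥tgS =>
      (⟨fun i => s.1 (tgP i), fun i j h => tg_P_inj i j (s.1.injective h)⟩ :
        Fin 5 ↪ ArrayPt)) := by
    constructor
    · intro s s' h
      have h1 : ∀ i, s.1 (tgP i) = s'.1 (tgP i) := fun i => DFunLike.congr_fun h i
      have h2 : s.1⁻¹ * s'.1 = 1 := by
        apply tg_free
        · intro b hb
          exact tg_S_hex _ (tgS.mul_mem (tgS.inv_mem s.2) s'.2) b hb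
        · intro i
          show s.1⁻¹ (s'.1 (tgP i)) = tgP i
          rw [← h1 i]
          exact Equiv.symm_apply_apply s.1 _
      exact Subtype.ext (inv_mul_eq_one.mp h2)
    · intro e
      obtain ⟨σ, hσ, hσe⟩ := tg_trans e
      exact ⟨⟨σ, hσ⟩, DFunLike.ext _ _ hσe⟩
  rw [Nat.card_congr (Equiv.ofBijective _ hbij), Nat.card_eq_fintype_card,
    Fintype.card_embedding_eq, Fintype.card_fin, tg_arr_card]
  decide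

theorem tg_fiber (σ : Equiv.Perm ArrayPt) (c c0 : ArrayPt → (ZMod 3)ˣ)
    (h0 : tgPres σ c0) (h : tgPres σ c) : ∃ l : (ZMod 3)ˣ, ∀ i, c i = l * c0 i := by
  have h1 : tgPres 1 (fun i => c i * (c0 i)⁻¹) := by
    intro x hx
    obtain ⟨y, hy, rfl⟩ := tg_pres_surj σ c0 h0 x hx
    have h2 : monomialMap 1 (fun i => c i * (c0 i)⁻¹) (monomialMap σ c0 y)
        = monomialMap σ c y := by
      funext i
      show ((c i * (c0 i)⁻¹ : (ZMod 3)ˣ) : ZMod 3) * ((c0 i : ZMod 3) * y (σ.symm i))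
        = (c i : ZMod 3) * y (σ.symm i)
      rw [← mul_assoc, ← Units.val_mul, inv_mul_cancel_right]
    rw [h2]
    exact h y hy
  rcases Cfsg.Agent.S1593.result _ h1 with h2 | h2
  · exact ⟨1, fun i => mul_inv_eq_iff_eq_mul.mp (h2 i)⟩
  · exact ⟨-1, fun i => mul_inv_eq_iff_eq_mul.mp (h2 i)⟩

theorem tg_count : Nat.card {f : Equiv.Perm ArrayPt × (ArrayPt → (ZMod 3)ˣ) //
    ∀ x ∈ ternaryGolayCode, monomialMap f.1 f.2 x ∈ ternaryGolayCode} = 190080 := by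
  have hwit : ∀ s : ↥tgS, ∃ c0 : ArrayPt → (ZMod 3)ˣ, tgPres s.1 c0 :=
    fun s => (tg_mem_S _).mp s.2
  choose c0 hc0 using hwit
  have hbij : Function.Bijective (fun p : ↥tgS × (ZMod 3)ˣ =>
      (⟨(p.1.1, fun i => p.2 * c0 p.1 i), tg_pres_smul _ _ _ (hc0 p.1)⟩ :
        {f : Equiv.Perm ArrayPt × (ArrayPt → (ZMod 3)ˣ) //
          ∀ x ∈ ternaryGolayCode, monomialMap f.1 f.2 x ∈ ternaryGolayCode})) := by
    constructor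
    · intro p p' hpp
      have h1 : ((p.1.1, fun i => p.2 * c0 p.1 i) : Equiv.Perm ArrayPt × (ArrayPt → (ZMod 3)ˣ))
          = (p'.1.1, fun i => p'.2 * c0 p'.1 i) := congrArg Subtype.val hpp
      have h2 : p.1.1 = p'.1.1 := congrArg Prod.fst h1
      have h3 : (fun i => p.2 * c0 p.1 i) = (fun i => p'.2 * c0 p'.1 i) :=
        congrArg Prod.snd h1
      have h4 : p.1 = p'.1 := Subtype.ext h2
      have h5 : p.2 * c0 p.1 (0, 0) = p'.2 * c0 p'.1 (0, 0) := congrFun h3 (0, 0)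
      rw [h4] at h5
      exact Prod.ext h4 (mul_right_cancel h5)
    · rintro ⟨⟨σ, c⟩, h⟩
      have hσ : σ ∈ tgS := (tg_mem_S σ).mpr ⟨c, h⟩
      obtain ⟨l, hl⟩ := tg_fiber σ c (c0 ⟨σ, hσ⟩) (hc0 ⟨σ, hσ⟩) h
      exact ⟨(⟨σ, hσ⟩, l), Subtype.ext (Prod.ext rfl (funext fun i => (hl i).symm))⟩
  have hU : Nat.card (ZMod 3)ˣ = 2 := by
    have h := Nat.card_units (α := ZMod 3)
    rw [Nat.card_zmod] at h
    exact h
  have hprod : Nat.card (↥tgS × (ZMod 3)ˣ) = 95040 * 2 := by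
    rw [Nat.card_prod, tg_S_card, hU]
  exact (Nat.card_congr (Equiv.ofBijective _ hbij)).symm.trans (hprod.trans (by norm_num))

/-- the monomial automorphism group of the ternary Golay code -/
theorem tg_main2 : Nat.card {f : Equiv.Perm ArrayPt × (ArrayPt → (ZMod 3)ˣ) //
      (∀ x ∈ ternaryGolayCode, monomialMap f.1 f.2 x ∈ ternaryGolayCode)} = 190080 ∧
    {σ : Equiv.Perm ArrayPt | ∃ c : ArrayPt → (ZMod 3)ˣ,
      (∀ x ∈ ternaryGolayCode, monomialMap σ c x ∈ ternaryGolayCode)}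
      = (setSystemAut {h : Finset ArrayPt | ∃ x ∈ ternaryGolayCode,
        ternarySupport x = h ∧ h.card = 6} : Set (Equiv.Perm ArrayPt)) := by
  refine ⟨tg_count, ?_⟩
  rw [← tg_S_eq]
  rfl

end Cfsg.Agent.Helper11
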