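import Mathlib
import Cfsg.Agent.S1781
import Cfsg.Agent.S1782
import Cfsg.Agent.Helper11.TI
import Cfsg.Agent.Helper11.TwoGroup
import Cfsg.Agent.Helper1.Coprime
import Cfsg.Agent.Helper16.PCore
import Cfsg.Agent.Lead.PGroup

set_option autoImplicit false

namespace Cfsg.Agent.Helper11

theorem closure_comm {G : Type*} [Group G] {k : Set G} (h : ∀ x ∈ k, ∀ y ∈ k, x * y = y * x) :
    ∀ x ∈ Subgroup.closure k, ∀ y ∈ Subgroup.closure k, x * y = y * x := by
  have h1 : Subgroup.closure k ≤ Subgroup.centralizer k := by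
    rw [Subgroup.closure_le]
    intro x hx
    show x ∈ Subgroup.centralizer k
    rw [Subgroup.mem_centralizer_iff]
    intro y hy
    exact h y hy x hx
  have h2 : Subgroup.closure k ≤ Subgroup.centralizer (Subgroup.closure k : Set G) := by
    rw [Subgroup.closure_le]
    intro y hy
    show y ∈ Subgroup.centralizer (Subgroup.closure k : Set G)
    rw [Subgroup.mem_centralizer_iff]
    intro x hx
    exact (Subgroup.mem_centralizer_iff.mp (h1 hx) y hy).symm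
  intro x hx y hy
  exact Subgroup.mem_centralizer_iff.mp (h2 hy) x hx

/-- Conjugates of a TI subgroup with a non-identity square inside a 2-subgroup commute. -/
theorem ti_conj_commute {X : Type*} [Group X] [Finite X] {A : Subgroup X} (hti : IsTI A)
    (hsq : ∃ a ∈ A, a ^ 2 ≠ 1) (T : Subgroup X) (hT : IsPGroup 2 ↥T) (hAT : A ≤ T)
    (s : X) (hs : s ∈ T) : cj A s = A ∨ ⁅A, cj A s⁆ = ⊥ := by
  by_cases h : cj A s = A
  · left; exact h
  right
  have hinj : Function.Injective T.subtype := Subgroup.subtype_injective T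
  have hAsT : cj A s ≤ T := by
    rintro _ ⟨a, ha, rfl⟩
    exact T.mul_mem (T.mul_mem hs (hAT ha)) (T.inv_mem hs)
  have h1 : (A.subgroupOf T).map T.subtype = A := Subgroup.map_subgroupOf_eq_of_le hAT
  have h2 : ((cj A s).subgroupOf T).map T.subtype = cj A s :=
    Subgroup.map_subgroupOf_eq_of_le hAsT
  have key := Cfsg.Agent.S1782.family_commute (Nat.card ↥T) ↥T rfl hT
    {W : Subgroup ↥T | ∃ t ∈ T, W.map T.subtype = cj A t} ?_ ?_ ?_ ?_
    (A.subgroupOf T) ?_ ((cj A s).subgroupOf T) ?_ ?_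
  · have e : ⁅A, cj A s⁆ = (⁅A.subgroupOf T, (cj A s).subgroupOf T⁆).map T.subtype := by
      rw [Subgroup.map_commutator, h1, h2]
    rw [e, key, Subgroup.map_bot]
  · rintro s' W ⟨t, ht, hW⟩
    show ∃ t' ∈ T, (W.map (MulAut.conj s').toMonoidHom).map T.subtype = cj A t'
    refine ⟨(s' : X) * t, T.mul_mem s'.2 ht, ?_⟩
    have e : (W.map (MulAut.conj s').toMonoidHom).map T.subtype =
        (W.map T.subtype).map (MulAut.conj (s' : X)).toMonoidHom := by
      rw [Subgroup.map_map, Subgroup.map_map]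
      congr 1
    rw [e, hW]
    exact cj_cj A t s'
  · rintro W ⟨t, ht, hW⟩
    obtain ⟨a, ha, ha2⟩ := hsq
    have hmem : t * a * t⁻¹ ∈ W.map T.subtype := by
      rw [hW]
      exact conj_mem_cj ha
    obtain ⟨w, hw, hwe⟩ := Subgroup.mem_map.mp hmem
    refine ⟨w, hw, ?_⟩
    intro h'
    apply ha2
    have h3 : (t * a * t⁻¹) ^ 2 = 1 := by
      rw [← hwe, ← map_pow, h', map_one]
    rw [conj_pow] at h3
    calc a ^ 2 = t⁻¹ * (t * a ^ 2 * t⁻¹) * t := by group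
      _ = 1 := by rw [h3]; group
  · rintro W₁ ⟨t₁, -, h₁⟩ W₂ ⟨t₂, -, h₂⟩
    have e1 := Subgroup.card_map_of_injective (K := W₁) hinj
    have e2 := Subgroup.card_map_of_injective (K := W₂) hinj
    rw [h₁, card_cj] at e1
    rw [h₂, card_cj] at e2
    exact e1.symm.trans e2
  · rintro W₁ ⟨t₁, -, h₁⟩ W₂ ⟨t₂, -, h₂⟩
    have hTI2 := (hti.cj t₂) (t₁ * t₂⁻¹)
    rw [cj_cj] at hTI2
    have e : t₁ * t₂⁻¹ * t₂ = t₁ := by group
    rw [e] at hTI2
    rcases hTI2 with h' | h'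
    · left
      apply Subgroup.map_injective hinj
      rw [h₁, h₂, h']
    · right
      rw [eq_bot_iff]
      intro x hx
      have hx' : T.subtype x ∈ cj A t₁ ⊓ cj A t₂ := by
        rw [← h₁, ← h₂]
        exact ⟨Subgroup.mem_map_of_mem _ hx.1, Subgroup.mem_map_of_mem _ hx.2⟩
      rw [h'] at hx'
      have hx'' : T.subtype x = 1 := hx'
      show x = 1
      exact Subtype.ext hx''
  · show ∃ t ∈ T, (A.subgroupOf T).map T.subtype = cj A t
    exact ⟨1, T.one_mem, by rw [h1, cj_one]⟩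
  · show ∃ t ∈ T, ((cj A s).subgroupOf T).map T.subtype = cj A t
    exact ⟨s, hs, h2⟩
  · intro hEq
    apply h
    calc cj A s = ((cj A s).subgroupOf T).map T.subtype := h2.symm
      _ = (A.subgroupOf T).map T.subtype := by rw [hEq]
      _ = A := h1

theorem ti_conj_elements_commute {X : Type*} [Group X] [Finite X] {A : Subgroup X} (hti : IsTI A)
    (hAa : IsMulCommutative ↥A) (hsq : ∃ a ∈ A, a ^ 2 ≠ 1) (T : Subgroup X) (hT : IsPGroup 2 ↥T)
    (hAT : A ≤ T) {s t : X} (hs : s ∈ T) (ht : t ∈ T) {u v : X} (hu : u ∈ cj A s)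
    (hv : v ∈ cj A t) : u * v = v * u := by
  rw [mem_cj] at hu hv
  have hu' : t⁻¹ * u * t ∈ cj A (t⁻¹ * s) := by
    rw [mem_cj]
    have e : (t⁻¹ * s)⁻¹ * (t⁻¹ * u * t) * (t⁻¹ * s) = s⁻¹ * u * s := by group
    rw [e]
    exact hu
  have hcomm : (t⁻¹ * u * t) * (t⁻¹ * v * t) = (t⁻¹ * v * t) * (t⁻¹ * u * t) := by
    rcases ti_conj_commute hti hsq T hT hAT (t⁻¹ * s) (T.mul_mem (T.inv_mem ht) hs) with h | h
    · rw [h] at hu'
      exact congrArg Subtype.val (mul_comm' (⟨_, hu'⟩ : ↥A) ⟨_, hv⟩)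
    · exact (commute_of_commutator_eq_bot h hv hu').symm
  calc u * v = t * ((t⁻¹ * u * t) * (t⁻¹ * v * t)) * t⁻¹ := by group
    _ = t * ((t⁻¹ * v * t) * (t⁻¹ * u * t)) * t⁻¹ := by rw [hcomm]
    _ = v * u := by group

/-- The weak closure of a TI abelian subgroup (with a non-identity square) in a 2-subgroup is
abelian. -/
theorem exists_weak_closure {X : Type*} [Group X] [Finite X] {D : Subgroup X} (hDti : IsTI D)
    (hDa : IsMulCommutative ↥D) (hsqD : ∃ d ∈ D, d ^ 2 ≠ 1) (T : Subgroup X)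
    (hT : IsPGroup 2 ↥T) (hDT : D ≤ T) :
    ∃ W : Subgroup X, D ≤ W ∧ W ≤ T ∧ (∀ w₁ ∈ W, ∀ w₂ ∈ W, w₁ * w₂ = w₂ * w₁) ∧
      ∀ t ∈ T, t ∈ Subgroup.normalizer (W : Set X) := by
  refine ⟨Subgroup.closure {w : X | ∃ s ∈ T, w ∈ cj D s}, ?_, ?_, ?_, ?_⟩
  · intro d hd
    exact Subgroup.subset_closure ⟨1, T.one_mem, by rw [cj_one]; exact hd⟩
  · rw [Subgroup.closure_le]
    rintro w ⟨s, hs, hw⟩
    rw [mem_cj] at hw
    have h1 : s⁻¹ * w * s ∈ T := hDT hw
    have h2 : s * (s⁻¹ * w * s) * s⁻¹ ∈ T := T.mul_mem (T.mul_mem hs h1) (T.inv_mem hs)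
    have e : s * (s⁻¹ * w * s) * s⁻¹ = w := by group
    rw [e] at h2
    exact h2
  · apply closure_comm
    rintro w₁ ⟨s₁, hs₁, hw₁⟩ w₂ ⟨s₂, hs₂, hw₂⟩
    exact ti_conj_elements_commute hDti hDa hsqD T hT hDT hs₁ hs₂ hw₁ hw₂
  · intro t ht
    apply mem_normalizer_of_conj_mem
    intro w hw
    have hmap : (Subgroup.closure {w : X | ∃ s ∈ T, w ∈ cj D s}).map
        (MulAut.conj t).toMonoidHom ≤ Subgroup.closure {w : X | ∃ s ∈ T, w ∈ cj D s} := by
      rw [MonoidHom.map_closure, Subgroup.closure_le]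
      rintro _ ⟨w', ⟨s, hs, hw'⟩, rfl⟩
      apply Subgroup.subset_closure
      show ∃ s' ∈ T, (MulAut.conj t).toMonoidHom w' ∈ cj D s'
      refine ⟨t * s, T.mul_mem ht hs, ?_⟩
      have e : cj (cj D s) t = cj D (t * s) := cj_cj D s t
      rw [← e]
      exact Subgroup.mem_map_of_mem _ hw'
    exact hmap (Subgroup.mem_map_of_mem _ hw)

/-- A subgroup acting trivially on the Frattini quotient of a self-centralizing normal
`p`-subgroup is a `p`-group. -/
theorem isPGroup_of_frattini_action {X : Type*} [Group X] [Finite X] {p : ℕ} [hp : Fact p.Prime]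
    (Q : Subgroup X) (hQn : Q.Normal) (hQp : IsPGroup p ↥Q)
    (hC : Subgroup.centralizer (Q : Set X) ≤ Q) (K : Subgroup X)
    (hK : ∀ k ∈ K, ∀ q ∈ Q, q⁻¹ * k * q * k⁻¹ ∈ (frattini ↥Q).map Q.subtype) :
    IsPGroup p ↥K := by
  haveI := hQn
  apply Cfsg.Agent.Helper16.isPGroup_of_coprime_trivial K
  intro k hk hcop
  have hΦn : ((frattini ↥Q).map Q.subtype).Normal := inferInstance
  have hzK : Subgroup.zpowers k ≤ K := by
    rw [Subgroup.zpowers_le]
    exact hk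
  have hAK : Subgroup.zpowers k ≤ Subgroup.normalizer (Q : Set X) :=
    fun a _ => mem_normalizer_of_conj_mem (fun y hy => hQn.conj_mem y hy a)
  have hAD : Subgroup.zpowers k ≤
      Subgroup.normalizer (((frattini ↥Q).map Q.subtype : Subgroup X) : Set X) :=
    fun a _ => mem_normalizer_of_conj_mem (fun y hy => hΦn.conj_mem y hy a)
  have hDK : (frattini ↥Q).map Q.subtype ≤ Q := Subgroup.map_subtype_le _
  have hcard : (Nat.card ↥(Subgroup.zpowers k)).Coprime (Nat.card ↥Q) := by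
    obtain ⟨n, hn⟩ := IsPGroup.iff_card.mp hQp
    rw [Nat.card_zpowers, hn]
    exact Nat.Coprime.pow_right n hcop
  haveI : Group.IsNilpotent ↥Q := hQp.isNilpotent
  have hcent : ∀ q ∈ Q, q * k = k * q := by
    have htop : (Subgroup.centralizer (Subgroup.zpowers k : Set X)).subgroupOf Q = ⊤ := by
      apply frattini_nongenerating
      rw [eq_top_iff]
      intro q _
      obtain ⟨d, hd, hqd⟩ := Cfsg.Agent.Helper1.coprime_coset_fixed (Subgroup.zpowers k) Q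
        ((frattini ↥Q).map Q.subtype) hAK hAD hDK hcard (Or.inr inferInstance) (q : X) q.2
        (fun a ha => hK a (hzK ha) q q.2)
      obtain ⟨d', hd', rfl⟩ := Subgroup.mem_map.mp hd
      have e : (q * d') * d'⁻¹ = q := by group
      rw [← e]
      refine Subgroup.mul_mem_sup ?_ (Subgroup.inv_mem _ hd')
      rw [Subgroup.mem_subgroupOf]
      exact hqd
    intro q hq
    have hmem : (⟨q, hq⟩ : ↥Q) ∈
        (Subgroup.centralizer (Subgroup.zpowers k : Set X)).subgroupOf Q := by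
      rw [htop]
      exact Subgroup.mem_top _
    rw [Subgroup.mem_subgroupOf, Subgroup.mem_centralizer_iff] at hmem
    exact (hmem k (Subgroup.mem_zpowers k)).symm
  have hkQ : k ∈ Q := by
    apply hC
    rw [Subgroup.mem_centralizer_iff]
    intro q hq
    exact hcent q hq
  obtain ⟨n, hn⟩ := hQp ⟨k, hkQ⟩
  have hn' : k ^ p ^ n = 1 := by
    have := congrArg Subtype.val hn
    simpa using this
  exact Cfsg.Agent.Helper16.eq_one_of_coprime_of_pow hcop hn'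

/-- The elements acting trivially on `Q / Φ`. -/
def stabSub {X : Type*} [Group X] (Q Φ : Subgroup X) (hQ : Q.Normal) (hΦ : Φ.Normal) :
    Subgroup X where
  carrier := {x | ∀ q ∈ Q, q⁻¹ * x * q * x⁻¹ ∈ Φ}
  one_mem' := by
    intro q _
    have e : q⁻¹ * 1 * q * (1 : X)⁻¹ = 1 := by group
    rw [e]
    exact Φ.one_mem
  mul_mem' := by
    intro x y hx hy q hq
    have e : q⁻¹ * (x * y) * q * (x * y)⁻¹ =
        (q⁻¹ * x * q * x⁻¹) * (x * (q⁻¹ * y * q * y⁻¹) * x⁻¹) := by group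
    rw [e]
    exact Φ.mul_mem (hx q hq) (hΦ.conj_mem _ (hy q hq) x)
  inv_mem' := by
    intro x hx q hq
    have hq2 : x⁻¹ * q * x ∈ Q := by
      have := hQ.conj_mem q hq x⁻¹
      rwa [inv_inv] at this
    have e : q⁻¹ * x⁻¹ * q * x⁻¹⁻¹ = ((x⁻¹ * q * x)⁻¹ * x * (x⁻¹ * q * x) * x⁻¹)⁻¹ := by group
    rw [e]
    exact Φ.inv_mem (hx _ hq2)

theorem mem_stabSub {X : Type*} [Group X] {Q Φ : Subgroup X} {hQ : Q.Normal} {hΦ : Φ.Normal}
    {x : X} : x ∈ stabSub Q Φ hQ hΦ ↔ ∀ q ∈ Q, q⁻¹ * x * q * x⁻¹ ∈ Φ := Iff.rfl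

theorem stabSub_normal {X : Type*} [Group X] (Q Φ : Subgroup X) (hQ : Q.Normal)
    (hΦ : Φ.Normal) : (stabSub Q Φ hQ hΦ).Normal := by
  constructor
  intro x hx g
  rw [mem_stabSub] at hx ⊢
  intro q hq
  have hq3 : g⁻¹ * q * g ∈ Q := by
    have := hQ.conj_mem q hq g⁻¹
    rwa [inv_inv] at this
  have e : q⁻¹ * (g * x * g⁻¹) * q * (g * x * g⁻¹)⁻¹ =
      g * ((g⁻¹ * q * g)⁻¹ * x * (g⁻¹ * q * g) * x⁻¹) * g⁻¹ := by group
  rw [e]
  exact hΦ.conj_mem _ (hx _ hq3) g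

theorem ti_squares {X : Type*} [Group X] [Finite X] {Q : Subgroup X} (hQn : Q.Normal)
    (hQp : IsPGroup 2 ↥Q) (hC : Subgroup.centralizer (Q : Set X) ≤ Q)
    (hQmax : ∀ N : Subgroup X, N.Normal → IsPGroup 2 ↥N → N ≤ Q)
    (A : Subgroup X) (hA2 : IsPGroup 2 ↥A) (hAa : IsMulCommutative ↥A) (hti : IsTI A) :
    Subgroup.closure ((fun a : X => a ^ 2) '' (A : Set X)) ≤ Q ∧
      (¬ Cfsg.IsElementaryAbelian 2 (Subgroup.closure ((fun a : X => a ^ 2) '' (A : Set X))) →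
        IsMulCommutative ↥(Subgroup.normalClosure ((fun a : X => a ^ 2) '' (A : Set X)))) := by
  classical
  haveI : Fact (Nat.Prime 2) := ⟨Nat.prime_two⟩
  haveI := hQn
  have hsqQ : ∀ a ∈ A, a ^ 2 ∈ Q := by
    by_cases hsq : ∃ a ∈ A, a ^ 2 ≠ 1
    · have hΦn : ((frattini ↥Q).map Q.subtype).Normal := inferInstance
      have hKp : IsPGroup 2 ↥(stabSub Q ((frattini ↥Q).map Q.subtype) hQn hΦn) :=
        isPGroup_of_frattini_action Q hQn hQp hC _ (fun k hk => mem_stabSub.mp hk)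
      have hKQ := hQmax _ (stabSub_normal Q _ hQn hΦn) hKp
      have hAQ2 : IsPGroup 2 ↥(A ⊔ Q) := hA2.to_sup_of_normal_right hQp
      intro a ha
      apply hKQ
      rw [mem_stabSub]
      intro q hq
      have hc : a * (q⁻¹ * a * q) = (q⁻¹ * a * q) * a := by
        have hmem : q⁻¹ * a * q ∈ cj A q⁻¹ := by
          have := conj_mem_cj (g := q⁻¹) ha
          rwa [inv_inv] at this
        have hmem0 : a ∈ cj A 1 := by
          rw [cj_one]
          exact ha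
        exact ti_conj_elements_commute hti hAa hsq (A ⊔ Q) hAQ2 le_sup_left
          (Subgroup.one_mem _) (Subgroup.inv_mem _ (Subgroup.mem_sup_right hq)) hmem0 hmem
      have h1 : a⁻¹ * (q⁻¹ * a * q) = (q⁻¹ * a * q) * a⁻¹ := by
        calc a⁻¹ * (q⁻¹ * a * q) = a⁻¹ * ((q⁻¹ * a * q) * a) * a⁻¹ := by group
          _ = a⁻¹ * (a * (q⁻¹ * a * q)) * a⁻¹ := by rw [hc]
          _ = (q⁻¹ * a * q) * a⁻¹ := by group
      have hm : q⁻¹ * a ^ 2 * q * (a ^ 2)⁻¹ = (q⁻¹ * a * q * a⁻¹) ^ 2 := by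
        calc q⁻¹ * a ^ 2 * q * (a ^ 2)⁻¹
            = (q⁻¹ * a * q) * ((q⁻¹ * a * q) * a⁻¹) * a⁻¹ := by rw [pow_two]; group
          _ = (q⁻¹ * a * q) * (a⁻¹ * (q⁻¹ * a * q)) * a⁻¹ := by rw [h1]
          _ = (q⁻¹ * a * q * a⁻¹) ^ 2 := by rw [pow_two]; group
      rw [hm]
      have hmQ : q⁻¹ * a * q * a⁻¹ ∈ Q := by
        have h2 : a * q * a⁻¹ ∈ Q := hQn.conj_mem q hq a
        have e : q⁻¹ * a * q * a⁻¹ = q⁻¹ * (a * q * a⁻¹) := by group
        rw [e]
        exact Q.mul_mem (Q.inv_mem hq) h2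
      exact Subgroup.mem_map.mpr ⟨⟨q⁻¹ * a * q * a⁻¹, hmQ⟩ ^ 2,
        Cfsg.Agent.Lead.pow_mem_frattini hQp _, rfl⟩
    · push Not at hsq
      intro a ha
      rw [hsq a ha]
      exact Q.one_mem
  have hcl : Subgroup.closure ((fun a : X => a ^ 2) '' (A : Set X)) ≤ Q := by
    rw [Subgroup.closure_le]
    rintro _ ⟨a, ha, rfl⟩
    exact hsqQ a ha
  refine ⟨hcl, ?_⟩
  intro hne
  have hSA : ∀ y ∈ (fun a : X => a ^ 2) '' (A : Set X), y ∈ A := by
    rintro _ ⟨a, ha, rfl⟩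
    exact A.pow_mem ha 2
  have hBA : Subgroup.closure ((fun a : X => a ^ 2) '' (A : Set X)) ≤ A := by
    rw [Subgroup.closure_le]
    exact hSA
  have h4 : ∃ a₀ ∈ A, (a₀ ^ 2) ^ 2 ≠ 1 := by
    by_contra hcon
    push Not at hcon
    apply hne
    refine ⟨?_, ?_⟩
    · refine IsMulCommutative.of_comm (fun x y => ?_)
      have h : (x : X) * (y : X) = (y : X) * (x : X) :=
        congrArg Subtype.val (mul_comm' (⟨x.1, hBA x.2⟩ : ↥A) ⟨y.1, hBA y.2⟩)
      exact Subtype.ext h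
    · intro b hb
      induction hb using Subgroup.closure_induction with
      | mem x hx =>
        obtain ⟨a, ha, rfl⟩ := hx
        exact hcon a ha
      | one => exact one_pow 2
      | mul x y hx hy ihx ihy =>
        have hxy : x * y = y * x :=
          congrArg Subtype.val (mul_comm' (⟨x, hBA hx⟩ : ↥A) ⟨y, hBA hy⟩)
        calc (x * y) ^ 2 = x * (y * x) * y := by rw [pow_two]; group
          _ = x * (x * y) * y := by rw [hxy]
          _ = x ^ 2 * y ^ 2 := by rw [pow_two, pow_two]; group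
          _ = 1 := by rw [ihx, ihy, one_mul]
      | inv x hx ih => rw [inv_pow, ih, inv_one]
  obtain ⟨a₀, ha₀, ha₀4⟩ := h4
  have hb₀A : a₀ ^ 2 ∈ A := A.pow_mem ha₀ 2
  have hb₀Q : a₀ ^ 2 ∈ Q := hsqQ a₀ ha₀
  have hb₀1 : a₀ ^ 2 ≠ 1 := by
    intro h
    apply ha₀4
    rw [h, one_pow]
  have hM : ∀ x : X, ∀ u ∈ A, ∀ v ∈ cj A x, u * v = v * u := by
    intro x u hu v hv
    by_cases hx : cj A x = A
    · rw [hx] at hv
      exact congrArg Subtype.val (mul_comm' (⟨u, hu⟩ : ↥A) ⟨v, hv⟩)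
    · have hDti : IsTI (cj A x) := hti.cj x
      have hD2 : IsPGroup 2 ↥(cj A x) := hA2.map _
      have hDa : IsMulCommutative ↥(cj A x) := inferInstance
      have hsqD : ∃ d ∈ cj A x, d ^ 2 ≠ 1 := by
        refine ⟨x * a₀ * x⁻¹, conj_mem_cj ha₀, ?_⟩
        rw [conj_pow]
        intro h
        apply hb₀1
        calc a₀ ^ 2 = x⁻¹ * (x * a₀ ^ 2 * x⁻¹) * x := by group
          _ = 1 := by rw [h]; group
      have hT : IsPGroup 2 ↥(cj A x ⊔ Q) := hD2.to_sup_of_normal_right hQp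
      obtain ⟨W, hDW, hWT, hWcomm, hWN⟩ :=
        exists_weak_closure hDti hDa hsqD (cj A x ⊔ Q) hT le_sup_left
      have hW2 : IsPGroup 2 ↥W := hT.to_le hWT
      have hWc : IsMulCommutative ↥W :=
        IsMulCommutative.of_comm (fun a b => Subtype.ext (hWcomm a.1 a.2 b.1 b.2))
      have hb₀N : a₀ ^ 2 ∈ Subgroup.normalizer (W : Set X) :=
        hWN _ (Subgroup.mem_sup_right hb₀Q)
      have hDN : cj A x ≤ Subgroup.normalizer (A : Set X) := by
        by_cases hAW : A ⊓ W = ⊥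
        · have hcent := centralizes_of_sq_ne_one hti hA2 hW2 hWc hAW hb₀A hb₀N ha₀4
          intro d hd
          apply cj_eq_iff_mem_normalizer.mp
          apply hti.cj_eq_of_commute hb₀A hb₀1
          have h1 := hcent d (hDW hd)
          calc d * a₀ ^ 2 = (a₀ ^ 2 * d * (a₀ ^ 2)⁻¹) * a₀ ^ 2 := by rw [h1]
            _ = a₀ ^ 2 * d := by group
        · obtain ⟨⟨y, hy⟩, hy1⟩ := (Subgroup.ne_bot_iff_exists_ne_one).mp hAW
          have hy1' : y ≠ 1 := fun h => hy1 (Subtype.ext h)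
          intro d hd
          apply cj_eq_iff_mem_normalizer.mp
          apply hti.cj_eq_of_commute hy.1 hy1'
          exact hWcomm d (hDW hd) y hy.2
      have heq : cj (cj A x) x⁻¹ = A := by
        rw [cj_cj, inv_mul_cancel, cj_one]
      have hne' : cj (cj A x) x⁻¹ ≠ cj A x := by
        rw [heq]
        exact fun h => hx h.symm
      rcases Cfsg.Agent.S1781.result (cj A x) hD2 hDa hDti x⁻¹ hne' with hE | hE
      · exfalso
        obtain ⟨d, hd, hd2⟩ := hsqD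
        apply hd2
        have hdmem : d ∈ cj A x ⊓
            Subgroup.normalizer ((cj (cj A x) x⁻¹ : Subgroup X) : Set X) := by
          rw [heq]
          exact ⟨hd, hDN hd⟩
        exact hE.2 d hdmem
      · have hE' : ⁅cj A x, cj (cj A x) x⁻¹⁆ = ⊥ := hE
        rw [heq] at hE'
        exact (commute_of_commutator_eq_bot hE' hv hu).symm
  have hgen : ∀ w₁ ∈ Group.conjugatesOfSet ((fun a : X => a ^ 2) '' (A : Set X)),
      ∀ w₂ ∈ Group.conjugatesOfSet ((fun a : X => a ^ 2) '' (A : Set X)),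
        w₁ * w₂ = w₂ * w₁ := by
    intro w₁ hw₁ w₂ hw₂
    rw [Group.mem_conjugatesOfSet_iff] at hw₁ hw₂
    obtain ⟨b₁, hb₁, hc₁⟩ := hw₁
    obtain ⟨b₂, hb₂, hc₂⟩ := hw₂
    obtain ⟨c₁, rfl⟩ := isConj_iff.mp hc₁
    obtain ⟨c₂, rfl⟩ := isConj_iff.mp hc₂
    have hb₁A := hSA b₁ hb₁
    have hb₂A := hSA b₂ hb₂
    have h := hM (c₂⁻¹ * c₁) b₂ hb₂A ((c₂⁻¹ * c₁) * b₁ * (c₂⁻¹ * c₁)⁻¹) (conj_mem_cj hb₁A)
    calc c₁ * b₁ * c₁⁻¹ * (c₂ * b₂ * c₂⁻¹)
        = c₂ * (((c₂⁻¹ * c₁) * b₁ * (c₂⁻¹ * c₁)⁻¹) * b₂) * c₂⁻¹ := by group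
      _ = c₂ * (b₂ * ((c₂⁻¹ * c₁) * b₁ * (c₂⁻¹ * c₁)⁻¹)) * c₂⁻¹ := by rw [h]
      _ = c₂ * b₂ * c₂⁻¹ * (c₁ * b₁ * c₁⁻¹) := by group
  have hNcomm := closure_comm hgen
  exact IsMulCommutative.of_comm (fun a b => Subtype.ext (hNcomm a.1 a.2 b.1 b.2))

end Cfsg.Agent.Helper11
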