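import Mathlib
import Cfsg.Agent.Helper11.CycTwo
import Cfsg.Agent.Helper24.MaxClassDihedral
import Cfsg.Agent.Helper18.AutTwo

set_option autoImplicit false

namespace Cfsg.Agent.Helper11

universe u

/-- A `2`-group with centre of order two is not a modular group of order at least `16`. -/
theorem modular_center_contra {S : Type u} [Group S] [Finite S] (n : ℕ) (h4 : 4 ≤ n)
    (hn : Nat.card S = 2 ^ n) (hZ : Nat.card (Subgroup.center S) = 2) (a b : S)
    (hoa : orderOf a = 2 ^ (n - 1)) (hbn : b ∉ Subgroup.zpowers a)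
    (hab : b * a * b⁻¹ = a ^ (1 + 2 ^ (n - 2))) : False := by
  have hidx : (Subgroup.zpowers a).index = 2 := by
    have h := Subgroup.card_mul_index (Subgroup.zpowers a)
    rw [Nat.card_zpowers, hoa, hn] at h
    have h2 : 2 ^ n = 2 ^ (n - 1) * 2 := by
      rw [← pow_succ]
      congr 1
      omega
    rw [h2] at h
    exact Nat.eq_of_mul_eq_mul_left (by positivity) h
  have hpow : a ^ (2 ^ (n - 1)) = 1 := by
    rw [← hoa]
    exact pow_orderOf_eq_one a
  have hb2 : b * a ^ 2 * b⁻¹ = a ^ 2 := by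
    rw [← conj_pow, hab, ← pow_mul]
    have h1 : (1 + 2 ^ (n - 2)) * 2 = 2 + 2 ^ (n - 1) := by
      have h2 : 2 ^ (n - 1) = 2 ^ (n - 2) * 2 := by
        rw [← pow_succ]
        congr 1
        omega
      rw [h2]
      ring
    rw [h1, pow_add, hpow, mul_one]
  have hba : Commute b (a ^ 2) := by
    have h1 : b * a ^ 2 = a ^ 2 * b := by
      calc b * a ^ 2 = (b * a ^ 2 * b⁻¹) * b := by group
        _ = a ^ 2 * b := by rw [hb2]
    exact h1
  have hcen : a ^ 2 ∈ Subgroup.center S := by
    rw [Subgroup.mem_center_iff]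
    intro g
    by_cases hg : g ∈ Subgroup.zpowers a
    · obtain ⟨k, rfl⟩ := Subgroup.mem_zpowers_iff.mp hg
      exact (((Commute.refl a).zpow_left k).pow_right 2).eq
    · have h1 : g * b⁻¹ ∈ Subgroup.zpowers a := by
        rw [Subgroup.mul_mem_iff_of_index_two hidx]
        constructor
        · intro h
          exact absurd h hg
        · intro h
          exact absurd ((Subgroup.zpowers a).inv_mem_iff.mp h) hbn
      obtain ⟨k, hk⟩ := Subgroup.mem_zpowers_iff.mp h1
      have h2 : g = a ^ k * b := by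
        rw [hk]
        group
      rw [h2]
      exact (Commute.mul_left (((Commute.refl a).zpow_left k).pow_right 2) hba).eq
  have h4' : (a ^ 2) ^ 2 = 1 := by
    have h1 := pow_card_eq_one' (G := ↥(Subgroup.center S)) (x := ⟨a ^ 2, hcen⟩)
    rw [hZ] at h1
    exact congrArg Subtype.val h1
  rw [← pow_mul] at h4'
  have h5 : orderOf a ∣ 2 * 2 := orderOf_dvd_of_pow_eq_one h4'
  rw [hoa] at h5
  have h6 : 2 ^ (n - 1) ≤ 2 * 2 := Nat.le_of_dvd (by norm_num) h5
  have h7 : 2 ^ 3 ≤ 2 ^ (n - 1) := Nat.pow_le_pow_right (by norm_num) (by omega)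
  omega

/-- Taussky's theorem at the level of elements: a `2`-group of order `2 ^ n`, `n ≥ 3`, whose
commutator quotient is a four-group has generators in dihedral, quaternion or semidihedral
form. -/
theorem taussky_elements {S : Type u} [Group S] [Finite S] (n : ℕ) (hn3 : 3 ≤ n)
    (hn : Nat.card S = 2 ^ n) (hidx : (commutator S).index = 4)
    (hsq : ∀ g : S, g ^ 2 ∈ commutator S) :
    ∃ a b : S, orderOf a = 2 ^ (n - 1) ∧ b ∉ Subgroup.zpowers a ∧
      ((b ^ 2 = 1 ∧ b * a * b⁻¹ = a⁻¹) ∨ (b ^ 2 = a ^ (2 ^ (n - 2)) ∧ b * a * b⁻¹ = a⁻¹) ∨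
        (4 ≤ n ∧ b ^ 2 = 1 ∧ b * a * b⁻¹ = a ^ (2 ^ (n - 2) - 1))) := by
  haveI : Fact (Nat.Prime 2) := ⟨Nat.prime_two⟩
  have hK : IsKleinFour (S ⧸ commutator S) :=
    Cfsg.Agent.Helper24.isKleinFour_abelianization_iff.mpr ⟨hidx, hsq⟩
  have hc : Group.nilpotencyClass S = n - 1 :=
    (Cfsg.Agent.Helper24.maximal_class_iff_klein n hn3 hn).mpr hK
  obtain ⟨C, hCc, hCi⟩ :=
    Cfsg.Agent.Helper24.exists_cyclic_index_two_of_maximal_class n hn3 S hn hc
  have hna : ∃ x y : S, x * y ≠ y * x := by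
    by_contra hcon
    push Not at hcon
    have hcomm0 : commutator S = ⊥ := by
      rw [commutator_def, Subgroup.commutator_eq_bot_iff_le_centralizer]
      intro u _
      rw [Subgroup.mem_centralizer_iff]
      intro v _
      exact hcon v u
    have hidx' := hidx
    rw [hcomm0, Subgroup.index_bot, hn] at hidx'
    have h8 : 2 ^ 3 ≤ 2 ^ n := Nat.pow_le_pow_right (by norm_num) hn3
    omega
  obtain ⟨a, b, hoa, hbn, halt⟩ := cyc2_main n hn3 hn C hCc hCi hna
  refine ⟨a, b, hoa, hbn, ?_⟩
  rcases halt with h | h | ⟨h4, hb2, hconj⟩ | h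
  · exact Or.inl h
  · exact Or.inr (Or.inl h)
  · exfalso
    obtain ⟨hZ, -, -⟩ := Cfsg.Agent.Helper24.card_center_of_maximal_class (p := 2) n hn3 hn hc
    exact modular_center_contra n h4 hn hZ a b hoa hbn hconj
  · exact Or.inr (Or.inr h)

/-- Taussky's theorem with explicit models. -/
theorem taussky_explicit {S : Type u} [Group S] [Finite S] (h2 : IsPGroup 2 S)
    (hab : Nat.card (Abelianization S) = 4) (hexp : ∀ x : Abelianization S, x ^ 2 = 1) :
    Nat.card S = 4 ∨
    ((∃ k : ℕ, Nonempty (S ≃* DihedralGroup (2 ^ (k + 2)))) ∨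
      (∃ k : ℕ, Nat.card S = 2 ^ (k + 4) ∧ ∃ a b : S, orderOf a = 2 ^ (k + 3) ∧ orderOf b = 2 ∧
        b * a * b⁻¹ = a ^ (2 ^ (k + 2) - 1)) ∨
      (∃ k : ℕ, Nonempty (S ≃* QuaternionGroup (2 ^ (k + 1))))) := by
  haveI : Fact (Nat.Prime 2) := ⟨Nat.prime_two⟩
  obtain ⟨n, hn⟩ := IsPGroup.iff_card.mp h2
  have hidx : (commutator S).index = 4 := by
    rw [Subgroup.index_eq_card]
    exact hab
  have hmul := Subgroup.card_mul_index (commutator S)
  rw [hidx, hn] at hmul
  have hpos : 0 < Nat.card ↥(commutator S) := Nat.card_pos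
  by_cases hn3 : 3 ≤ n
  · right
    have hsq : ∀ g : S, g ^ 2 ∈ commutator S := by
      intro g
      have h : g ^ 2 ∈ (Abelianization.of : S →* Abelianization S).ker := by
        rw [MonoidHom.mem_ker, map_pow]
        exact hexp _
      rw [Abelianization.ker_of] at h
      exact h
    obtain ⟨a, b, hoa, hbn, halt⟩ := taussky_elements n hn3 hn hidx hsq
    have hpow : a ^ (2 ^ (n - 1)) = 1 := by
      rw [← hoa]
      exact pow_orderOf_eq_one a
    rcases halt with ⟨hb2, hconj⟩ | ⟨hb2, hconj⟩ | ⟨h4, hb2, hconj⟩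
    · left
      refine ⟨n - 3, ?_⟩
      have e1 : n - 3 + 2 = n - 1 := by omega
      rw [e1]
      have hb : b * b = 1 := (pow_two b).symm.trans hb2
      have hinj := Cfsg.Agent.Helper8.dihLift_injective (2 ^ (n - 1)) a hpow b hb hconj hoa hbn
      have hbij : Function.Bijective
          (Cfsg.Agent.Helper8.dihLift (2 ^ (n - 1)) a hpow b hb hconj) := by
        rw [Nat.bijective_iff_injective_and_card]
        refine ⟨hinj, ?_⟩
        rw [DihedralGroup.nat_card, hn, ← pow_succ']
        congr 1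
        omega
      exact ⟨(MulEquiv.ofBijective _ hbij).symm⟩
    · right; right
      refine ⟨n - 3, ?_⟩
      have e1 : n - 1 = (n - 3 + 1) + 1 := by omega
      have e2 : n - 2 = n - 3 + 1 := by omega
      have hpow' : a ^ (2 * 2 ^ (n - 3 + 1)) = 1 := by
        rw [← pow_succ', ← e1]
        exact hpow
      have hb : b * b = a ^ (2 ^ (n - 3 + 1)) := by
        rw [← e2]
        exact (pow_two b).symm.trans hb2
      have hoa' : orderOf a = 2 * 2 ^ (n - 3 + 1) := by
        rw [← pow_succ', ← e1]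
        exact hoa
      have hinj := Cfsg.Agent.Helper8.quatLift_injective (2 ^ (n - 3 + 1)) a hpow' b hb hconj
        hoa' hbn
      have hbij : Function.Bijective
          (Cfsg.Agent.Helper8.quatLift (2 ^ (n - 3 + 1)) a hpow' b hb hconj) := by
        rw [Nat.bijective_iff_injective_and_card]
        refine ⟨hinj, ?_⟩
        have e4 : 2 ^ n = 2 ^ (n - 3 + 1) * 2 ^ 2 := by
          rw [← pow_add]
          congr 1
          omega
        rw [Nat.card_eq_fintype_card, QuaternionGroup.card, hn, e4]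
        ring
      exact ⟨(MulEquiv.ofBijective _ hbij).symm⟩
    · right; left
      refine ⟨n - 4, ?_, a, b, ?_, ?_, ?_⟩
      · rw [hn]
        congr 1
        omega
      · rw [hoa]
        congr 1
        omega
      · apply orderOf_eq_prime hb2
        intro hb1
        apply hbn
        rw [hb1]
        exact Subgroup.one_mem _
      · have e2 : n - 4 + 2 = n - 2 := by omega
        rw [e2]
        exact hconj
  · left
    have hn2 : n = 0 ∨ n = 1 ∨ n = 2 := by omega
    rcases hn2 with rfl | rfl | rfl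
    · omega
    · omega
    · exact hn.trans (by norm_num)

end Cfsg.Agent.Helper11
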