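import Mathlib
import Cfsg.Agent.Helper11.Taussky
import Cfsg.Agent.Lead.PGroup

set_option autoImplicit false

namespace Cfsg.Agent.Helper11

universe u

theorem sq_out_aux {S : Type u} [Group S] (A b : S) :
    (A * b) ^ 2 = A * (b * A * b⁻¹) * (b * b) := by
  rw [pow_two]
  group

theorem sq_out {S : Type u} [Group S] (a b : S) (k : ℤ) :
    (a ^ k * b) ^ 2 = a ^ k * (b * a * b⁻¹) ^ k * b ^ 2 := by
  calc (a ^ k * b) ^ 2 = a ^ k * (b * a ^ k * b⁻¹) * (b * b) := sq_out_aux (a ^ k) b
    _ = a ^ k * (b * a * b⁻¹) ^ k * b ^ 2 := by rw [conj_zpow, pow_two]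

/-- A non-abelian `2`-group whose commutator subgroup has index `4` and whose automorphism
group is not a `2`-group is the quaternion group of order `8`. -/
theorem aut_not_two_quaternion {P : Type u} [Group P] [Finite P] (hP : IsPGroup 2 P)
    (hna : ¬ IsMulCommutative P) (h4 : (commutator P).index = 4)
    (haut : ¬ IsPGroup 2 (MulAut P)) : Nonempty (P ≃* QuaternionGroup 2) := by
  haveI : Fact (Nat.Prime 2) := ⟨Nat.prime_two⟩
  obtain ⟨n, hn⟩ := IsPGroup.iff_card.mp hP
  have hnc : ∃ x y : P, x * y ≠ y * x := by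
    by_contra hcon
    push Not at hcon
    exact hna ⟨⟨hcon⟩⟩
  have hsq : ∀ g : P, g ^ 2 ∈ commutator P := by
    intro g
    by_contra hg
    obtain ⟨q, hq⟩ : ∃ q : P ⧸ commutator P, q = (g : P ⧸ commutator P) := ⟨_, rfl⟩
    have hcardQ : Nat.card (P ⧸ commutator P) = 4 := by
      rw [← Subgroup.index_eq_card]
      exact h4
    have hq2 : q ^ 2 ≠ 1 := by
      intro h
      apply hg
      rw [hq, ← QuotientGroup.mk_pow] at h
      exact (QuotientGroup.eq_one_iff _).mp h
    have e22 : (2 : ℕ) ^ 2 = 4 := by norm_num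
    have hdvd : orderOf q ∣ 2 ^ 2 := by
      have h := orderOf_dvd_natCard q
      rw [hcardQ, ← e22] at h
      exact h
    obtain ⟨j, hj, hoj⟩ := (Nat.dvd_prime_pow Nat.prime_two).mp hdvd
    have hj2 : j = 2 := by
      by_contra hne
      have hj1 : j ≤ 1 := by omega
      apply hq2
      apply orderOf_dvd_iff_pow_eq_one.mp
      rw [hoj]
      exact (pow_dvd_pow 2 hj1).trans (dvd_of_eq (pow_one 2))
    have htop : Subgroup.zpowers q = ⊤ := by
      apply Subgroup.eq_top_of_card_eq
      rw [Nat.card_zpowers, hoj, hj2, hcardQ, e22]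
    have hgen : ∀ p : P, p ∈ Subgroup.zpowers g ⊔ frattini P := by
      intro p
      have h1 : (p : P ⧸ commutator P) ∈ Subgroup.zpowers q := by
        rw [htop]
        exact Subgroup.mem_top _
      obtain ⟨k, hk⟩ := Subgroup.mem_zpowers_iff.mp h1
      rw [hq, ← QuotientGroup.mk_zpow] at hk
      have h2 : (g ^ k)⁻¹ * p ∈ commutator P := QuotientGroup.eq.mp hk
      have h3 : p = g ^ k * ((g ^ k)⁻¹ * p) := by group
      rw [h3]
      exact Subgroup.mul_mem_sup (Subgroup.zpow_mem_zpowers g k)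
        (Cfsg.Agent.Lead.commutator_le_frattini hP h2)
    have hKtop : Subgroup.zpowers g = ⊤ := by
      apply frattini_nongenerating
      rw [eq_top_iff]
      intro p _
      exact hgen p
    obtain ⟨x, y, hxy⟩ := hnc
    apply hxy
    have hx : x ∈ Subgroup.zpowers g := by
      rw [hKtop]
      exact Subgroup.mem_top x
    have hy : y ∈ Subgroup.zpowers g := by
      rw [hKtop]
      exact Subgroup.mem_top y
    obtain ⟨i, rfl⟩ := Subgroup.mem_zpowers_iff.mp hx
    obtain ⟨j', rfl⟩ := Subgroup.mem_zpowers_iff.mp hy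
    exact ((Commute.refl g).zpow_zpow i j').eq
  have hmul := Subgroup.card_mul_index (commutator P)
  rw [h4, hn] at hmul
  have hn3 : 3 ≤ n := by
    by_contra hlt
    have hn2 : n = 0 ∨ n = 1 ∨ n = 2 := by omega
    have hpos : 0 < Nat.card ↥(commutator P) := Nat.card_pos
    rcases hn2 with rfl | rfl | rfl
    · omega
    · omega
    · exact hna (IsPGroup.isMulCommutative_of_card_eq_prime_sq hn)
  obtain ⟨a, b, hoa, hbn, halt⟩ := taussky_elements n hn3 hn h4 hsq
  have hidx2 : (Subgroup.zpowers a).index = 2 := by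
    have h := Subgroup.card_mul_index (Subgroup.zpowers a)
    rw [Nat.card_zpowers, hoa, hn] at h
    have h2 : 2 ^ n = 2 ^ (n - 1) * 2 := by
      rw [← pow_succ]
      congr 1
      omega
    rw [h2] at h
    exact Nat.eq_of_mul_eq_mul_left (by positivity) h
  have hpow : a ^ (2 ^ (n - 1)) = 1 := by
    rw [← hoa]
    exact pow_orderOf_eq_one a
  have hform : ∀ g : P, g ∉ Subgroup.zpowers a → ∃ k : ℤ, g = a ^ k * b := by
    intro g hg
    have h1 : g * b⁻¹ ∈ Subgroup.zpowers a := by
      rw [Subgroup.mul_mem_iff_of_index_two hidx2]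
      constructor
      · intro h
        exact absurd h hg
      · intro h
        exact absurd ((Subgroup.zpowers a).inv_mem_iff.mp h) hbn
    obtain ⟨k, hk⟩ := Subgroup.mem_zpowers_iff.mp h1
    refine ⟨k, ?_⟩
    rw [hk]
    group
  have hkey : ∀ e : ℕ, (∀ k : ℤ, (a ^ k * b) ^ e = 1) → a ^ e ≠ 1 → False := by
    intro e he hae
    apply haut
    apply Cfsg.Agent.Helper18.isPGroup_two_mulAut_of_char_cyclic_index_two a (n - 1) hoa hidx2
    intro α
    by_contra hα
    obtain ⟨k, hk⟩ := hform (α a) hα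
    apply hae
    have h1 : α (a ^ e) = 1 := by
      rw [map_pow, hk]
      exact he k
    exact (MulEquiv.map_eq_one_iff α).mp h1
  have h22 : 4 ≤ n → a ^ (2 * 2) ≠ 1 := by
    intro hn4 h
    have h5 : orderOf a ∣ 2 * 2 := orderOf_dvd_of_pow_eq_one h
    rw [hoa] at h5
    have h6 : 2 ^ (n - 1) ≤ 2 * 2 := Nat.le_of_dvd (by norm_num) h5
    have h7 : 2 ^ 3 ≤ 2 ^ (n - 1) := Nat.pow_le_pow_right (by norm_num) (by omega)
    omega
  rcases halt with ⟨hb2, hconj⟩ | ⟨hb2, hconj⟩ | ⟨h4', hb2, hconj⟩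
  · exfalso
    apply hkey 2
    · intro k
      rw [sq_out a b k, hconj, hb2, inv_zpow, mul_one, mul_inv_cancel]
    · intro h
      have h5 : orderOf a ∣ 2 := orderOf_dvd_of_pow_eq_one h
      rw [hoa] at h5
      have h6 : 2 ^ (n - 1) ≤ 2 := Nat.le_of_dvd (by norm_num) h5
      have h7 : 2 ^ 2 ≤ 2 ^ (n - 1) := Nat.pow_le_pow_right (by norm_num) (by omega)
      omega
  · by_cases hn4 : 4 ≤ n
    · exfalso
      apply hkey (2 * 2)
      · intro k
        have h1 : (a ^ k * b) ^ 2 = a ^ (2 ^ (n - 2)) := by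
          rw [sq_out a b k, hconj, hb2, inv_zpow, mul_inv_cancel, one_mul]
        rw [pow_mul, h1, ← pow_mul, ← pow_succ]
        have e : n - 2 + 1 = n - 1 := by omega
        rw [e]
        exact hpow
      · exact h22 hn4
    · have hn' : n = 3 := by omega
      have e1 : 2 ^ (n - 1) = 2 * 2 := by norm_num [hn']
      have e2 : 2 ^ (n - 2) = 2 := by norm_num [hn']
      have e3 : 2 ^ n = 4 * 2 := by norm_num [hn']
      rw [e1] at hpow hoa
      rw [e2] at hb2
      have hb : b * b = a ^ 2 := (pow_two b).symm.trans hb2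
      have hinj := Cfsg.Agent.Helper8.quatLift_injective 2 a hpow b hb hconj hoa hbn
      have hbij : Function.Bijective (Cfsg.Agent.Helper8.quatLift 2 a hpow b hb hconj) := by
        rw [Nat.bijective_iff_injective_and_card]
        refine ⟨hinj, ?_⟩
        rw [hn, e3]
        exact Nat.card_eq_fintype_card.trans QuaternionGroup.card
      exact ⟨(MulEquiv.ofBijective _ hbij).symm⟩
  · exfalso
    apply hkey (2 * 2)
    · intro k
      obtain ⟨w, hw⟩ : ∃ w : P, w = a ^ (2 ^ (n - 2)) := ⟨_, rfl⟩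
      have hw2 : w * w = 1 := by
        rw [hw, ← pow_add, ← two_mul, ← pow_succ']
        have e : n - 2 + 1 = n - 1 := by omega
        rw [e]
        exact hpow
      have haw : a * a ^ (2 ^ (n - 2) - 1) = w := by
        rw [hw, ← pow_succ']
        congr 1
        have hpos : 0 < 2 ^ (n - 2) := by positivity
        omega
      have h1 : (a ^ k * b) ^ 2 = w ^ k := by
        rw [sq_out a b k, hconj, hb2, mul_one,
          ← ((Commute.refl a).pow_right (2 ^ (n - 2) - 1)).mul_zpow, haw]
      rw [pow_mul, h1, pow_two, ← (Commute.refl w).mul_zpow, hw2, one_zpow]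
    · exact h22 h4'

end Cfsg.Agent.Helper11
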